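import Groth.Agent.ThetaLib.Scalar

/-!
# Base change of points of the theta group, and locality
-/

set_option autoImplicit false
set_option backward.isDefEq.respectTransparency false
set_option backward.defeqAttrib.useBackward true
set_option linter.style.haveILetI false

universe u

open CategoryTheory CategoryTheory.Limits MonoidalCategory CartesianMonoidalCategory MonObj AlgebraicGeometry
open Pseudofunctor Bicategory
open Groth.Agent

noncomputable section

namespace Groth.Agent.ThetaLib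

open ThetaGrp

variable {S : Scheme.{u}}

theorem isPullback_whiskerLeft_left (A : Over S) {T' T : Over S} (t : T' ⟶ T) :
    IsPullback (A ◁ t).left (snd A T').left (snd A T).left t.left := by
  refine IsPullback.of_right (h₁₂ := (fst A T).left) (v₁₃ := A.hom) (h₂₂ := T.hom) ?_ ?_
    (IsPullback.of_hasPullback A.hom T.hom)
  · rw [← Over.comp_left, whiskerLeft_fst, Over.w t]
    exact IsPullback.of_hasPullback A.hom T'.hom
  · rw [← Over.comp_left, whiskerLeft_snd, Over.comp_left]

theorem isPullback_whiskerRight_left (B : Over S) {A' A : Over S} (t : A' ⟶ A) :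
    IsPullback (t ▷ B).left (fst A' B).left (fst A B).left t.left := by
  refine IsPullback.of_right (h₁₂ := (snd A B).left) (v₁₃ := B.hom) (h₂₂ := A.hom) ?_ ?_
    (IsPullback.of_hasPullback A.hom B.hom).flip
  · rw [← Over.comp_left, whiskerRight_snd, Over.w t]
    exact (IsPullback.of_hasPullback A'.hom B.hom).flip
  · rw [← Over.comp_left, whiskerRight_fst, Over.comp_left]

instance isIso_comp_fiber {X Y Z : CoGrothendieck (modPF.{u})} (g : X ⟶ Y) (h : Y ⟶ Z) [IsIso g.fiber] [IsIso h.fiber] :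
    IsIso (g ≫ h).fiber := by
  rw [CoGrothendieck.categoryStruct_comp_fiber]
  infer_instance

/-- An open of the base, as an object over the base field. -/
abbrev sub (T : Over S) (U : T.left.Opens) : Over S := Over.mk (U.ι ≫ T.hom)

/-- Its inclusion. -/
abbrev subι (T : Over S) (U : T.left.Opens) : sub T U ⟶ T := Over.homMk U.ι rfl

theorem cover_mem (A : Over S) {T : Over S} {J : Type u} (U : J → T.left.Opens) (hU : ∀ t, ∃ i, t ∈ U i) :
    Presieve.ofArrows (fun i => (A ⊗ sub T (U i)).left) (fun i => (A ◁ subι T (U i)).left) ∈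
      Scheme.fpqcPrecoverage (A ⊗ T).left := by
  refine Scheme.zariskiPrecoverage_le_fpqcPrecoverage _ ((Scheme.ofArrows_mem_precoverage_iff _).2 ⟨fun x => ?_, fun i => ?_⟩)
  · obtain ⟨i, hi⟩ := hU ((snd A T).left x)
    obtain ⟨p, hp, -⟩ := Scheme.exists_preimage_of_isPullback (isPullback_whiskerLeft_left A (subι T (U i))) x
      (⟨(snd A T).left x, hi⟩ : ↥(U i)) rfl
    exact ⟨i, p, hp⟩
  · exact MorphismProperty.of_isPullback (P := @IsOpenImmersion) (isPullback_whiskerLeft_left A (subι T (U i))).flip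
      (inferInstanceAs (IsOpenImmersion (U i).ι))

variable {A : Over S} [GrpObj A] {L : A.left.Modules}

theorem bcLift_comp {V T G : Over S} (r : V ⟶ T) (g : T ⟶ G) :
    bcLift A L (r ≫ g) = bcLift A L r ≫ bcLift A L g := by
  refine lift_unique (proj A L G) ?_ ?_
  · show (A ◁ (r ≫ g)).left = (A ◁ r).left ≫ (A ◁ g).left
    rw [← Over.comp_left, MonoidalCategory.whiskerLeft_comp]
  · rw [Category.assoc, bcLift_proj, bcLift_proj, bcLift_proj]

theorem transl_natural {V T : Over S} (r : V ⟶ T) (x : T ⟶ A) :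
    transl A (r ≫ x) ≫ (A ◁ r) = (A ◁ r) ≫ transl A x := by
  apply CartesianMonoidalCategory.hom_ext
  · simp [transl, MonObj.comp_mul]
  · simp [transl]

/-- Base change of a point of the theta group. -/
theorem exists_bc_pt {V T : Over S} (r : V ⟶ T) {x : T ⟶ A} {β : thetaPts A L T} (h : IsOverPt β x) :
    ∃ β' : thetaPts A L V, IsOverPt β' (r ≫ x) ∧ IsBaseChange β' r β := by
  haveI : IsIso β.1.hom.fiber := isIso_fiber β.1.hom
  haveI : IsIso (bcLift A L r ≫ β.1.hom).fiber := isIso_comp_fiber _ _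
  obtain ⟨g, hb, hg, hiso⟩ := exists_lift (bcLift A L r) (bcLift A L r ≫ β.1.hom) (transl A (r ≫ x)).left (by
    show (transl A (r ≫ x)).left ≫ (A ◁ r).left = (A ◁ r).left ≫ β.1.hom.base
    rw [h, ← Over.comp_left, ← Over.comp_left, transl_natural])
  haveI : IsIso g.fiber := hiso inferInstance
  haveI : IsIso g.base := hb ▸ isIso_transl' (r ≫ x)
  haveI : IsIso g := isIso_of_components g
  exact ⟨⟨asIso g, r ≫ x, hb⟩, hb, hg⟩

theorem bc_unique {V T : Over S} {r : V ⟶ T} {z : V ⟶ A} {β : thetaPts A L T} {β' β'' : thetaPts A L V}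
    (h' : IsOverPt β' z) (h'' : IsOverPt β'' z) (e' : IsBaseChange β' r β) (e'' : IsBaseChange β'' r β) : β' = β'' :=
  Subtype.ext (Iso.ext (lift_unique (bcLift A L r) (h'.trans h''.symm) (e'.trans e''.symm)))

theorem bc_mul {V T : Over S} {r : V ⟶ T} {α β : thetaPts A L T} {α' β' : thetaPts A L V}
    (hα : IsBaseChange α' r α) (hβ : IsBaseChange β' r β) : IsBaseChange (α' * β') r (α * β) := by
  show (α' * β').1.hom ≫ _ = _ ≫ (α * β).1.hom
  show (β'.1.hom ≫ α'.1.hom) ≫ _ = _ ≫ β.1.hom ≫ α.1.hom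
  rw [Category.assoc, hα, ← Category.assoc, hβ, Category.assoc]

/-- Equality of two points over the same point of the group is local. -/
theorem eq_of_local (hq : ∀ T : Over S, Coh.IsQCoh (X := (A ⊗ T).left) (thetaObj A L T).fiber) {T : Over S}
    {z : T ⟶ A} {α β : thetaPts A L T} (hα : IsOverPt α z) (hβ : IsOverPt β z) {J : Type u}
    (U : J → T.left.Opens) (hU : ∀ t, ∃ i, t ∈ U i)
    (h : ∀ i (α' β' : thetaPts A L (sub T (U i))), IsOverPt α' (subι T (U i) ≫ z) → IsOverPt β' (subι T (U i) ≫ z) →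
      IsBaseChange α' (subι T (U i)) α → IsBaseChange β' (subι T (U i)) β → α' = β') : α = β := by
  refine Subtype.ext (Iso.ext ?_)
  haveI := hq T
  refine hom_ext_cover (fun i => bcLift A L (subι T (U i))) (cover_mem A U hU) (hα.trans hβ.symm) fun i => ?_
  obtain ⟨α', hα', eα⟩ := exists_bc_pt (subι T (U i)) hα
  obtain ⟨β', hβ', eβ⟩ := exists_bc_pt (subι T (U i)) hβ
  rw [← eα, ← eβ, h i α' β' hα' hβ' eα eβ]

/-- Commutation is local. -/
theorem comm_of_local [IsCommMonObj A] (hq : ∀ T : Over S, Coh.IsQCoh (X := (A ⊗ T).left) (thetaObj A L T).fiber)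
    {T : Over S} {x y : T ⟶ A} {α β : thetaPts A L T} (hα : IsOverPt α x) (hβ : IsOverPt β y) {J : Type u}
    (U : J → T.left.Opens) (hU : ∀ t, ∃ i, t ∈ U i)
    (h : ∀ i (α' β' : thetaPts A L (sub T (U i))), IsOverPt α' (subι T (U i) ≫ x) → IsOverPt β' (subι T (U i) ≫ y) →
      IsBaseChange α' (subι T (U i)) α → IsBaseChange β' (subι T (U i)) β → α' * β' = β' * α') :
    α * β = β * α := by
  refine eq_of_local hq (isOverPt_mul hα hβ) (z := y * x) ?_ U hU fun i α' β' h₁ h₂ e₁ e₂ => ?_
  · rw [_root_.mul_comm]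
    exact isOverPt_mul hβ hα
  obtain ⟨a, ha, ea⟩ := exists_bc_pt (subι T (U i)) hα
  obtain ⟨b, hb, eb⟩ := exists_bc_pt (subι T (U i)) hβ
  have hab : IsOverPt (a * b) (subι T (U i) ≫ (y * x)) := by
    rw [MonObj.comp_mul]; exact isOverPt_mul ha hb
  have hba : IsOverPt (b * a) (subι T (U i) ≫ (y * x)) := by
    rw [MonObj.comp_mul, _root_.mul_comm]; exact isOverPt_mul hb ha
  rw [bc_unique h₁ hab e₁ (bc_mul ea eb), bc_unique h₂ hba e₂ (bc_mul eb ea)]
  exact h i a b ha hb ea eb

end Groth.Agent.ThetaLib
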