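import Groth.Agent.AVLib.KL
import Groth.Agent.AVLib.SeesawBase
import Groth.Agent.GenSeesawLib.Scheme
import Groth.Agent.ThetaLib.BC

/-!
# Existence of `K(L)` over a field
-/

set_option autoImplicit false
set_option backward.isDefEq.respectTransparency false
set_option linter.style.haveILetI false

universe u

open CategoryTheory CategoryTheory.Limits MonoidalCategory CartesianMonoidalCategory MonObj AlgebraicGeometry
open Groth.Agent Groth.Agent.PicLib Groth.Agent.AVLib

noncomputable section

namespace Groth.Agent.ThetaLib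

variable {k : Type u} [Field k] {A : Over (Spec (CommRingCat.of k))} [GrpObj A] [IsProper A.hom]
  [GeometricallyIntegral A.hom] {L : A.left.Modules}

/-- The subscheme `K(L)` exists. -/
theorem exists_isKL (hL : PicF.IsInvertible L) :
    ∃ (K : Over (Spec (CommRingCat.of k))) (iK : K ⟶ A), ThetaGrp.IsKL A L iK := by
  let f := (snd A A).left
  have hsq : IsPullback (fst A A).left f A.hom A.hom := IsPullback.of_hasPullback A.hom A.hom
  haveI : IsProper f := MorphismProperty.of_isPullback hsq ‹_›
  haveI : Flat A.hom := inferInstance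
  haveI : Flat f := MorphismProperty.of_isPullback hsq ‹_›
  haveI : GeometricallyIntegral f := MorphismProperty.of_isPullback hsq ‹_›
  haveI : IsLocallyNoetherian A.left := LocallyOfFiniteType.isLocallyNoetherian A.hom
  haveI : LocallyOfFinitePresentation f := inferInstance
  obtain ⟨D, hD, hDc⟩ := exists_cls (pull (fst A A * snd A A).left (cls hL) *
    (pull (fst A A).left (cls hL) * pull (snd A A).left (cls hL))⁻¹)
  obtain ⟨Z, j, hj, -, hu⟩ := GenSeesawLib.exists_seesaw_subscheme f hD
  let K : Over (Spec (CommRingCat.of k)) := Over.mk (j ≫ A.hom)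
  let iK : K ⟶ A := Over.homMk j rfl
  refine ⟨K, iK, hj, fun T z => ?_⟩
  have hpb : IsPullback (A ◁ z).left (snd A T).left f z.left := isPullback_whiskerLeft_left A z
  have key : (∃ u' : T.left ⟶ Z, u' ≫ j = z.left) ↔ ThetaGrp.IsMumfordTriv A L z := by
    rw [hu T.left z.left, isMumfordTriv_iff hL]
    have he : ∀ c : Pic A.left, pull (A ◁ z).left (pull (fst A A).left c) = pull (fst A T).left c ∧
        pull (A ◁ z).left (pull (snd A A).left c) = pull (snd A T ≫ z).left c ∧
        pull (A ◁ z).left (pull (fst A A * snd A A).left c) = pull (fst A T * (snd A T ≫ z)).left c := fun c => by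
      refine ⟨?_, ?_, ?_⟩ <;> rw [pull_left_comp]
      · rw [whiskerLeft_fst]
      · rw [whiskerLeft_snd]
      · rw [MonObj.comp_mul, whiskerLeft_fst, whiskerLeft_snd]
    have hDz : pull (A ◁ z).left (cls hD) = pull (fst A T * (snd A T ≫ z)).left (cls hL) *
        (pull (fst A T).left (cls hL) * pull (snd A T ≫ z).left (cls hL))⁻¹ := by
      rw [hDc, map_mul, map_inv, map_mul, (he _).1, (he _).2.1, (he _).2.2]
    constructor
    · rintro ⟨M, hM, ⟨e⟩⟩
      have h1 : pull (pullback.snd f z.left) (cls hM) = pull (pullback.fst f z.left) (cls hD) := by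
        rw [pull_cls, pull_cls]
        exact (cls_eq_cls _ _).2 ⟨e⟩
      have h2 := congrArg (pull hpb.isoPullback.hom) h1
      rw [← pull_comp, ← pull_comp, IsPullback.isoPullback_hom_fst, IsPullback.isoPullback_hom_snd, hDz,
        eq_mul_inv_iff_mul_eq, ← _root_.mul_assoc] at h2
      rw [eq_one_of_eq (cls hL) z h2, map_one, _root_.one_mul] at h2
      exact h2.symm
    · intro h
      refine ⟨_, ParaFLib.isInvertible_structureModule, (cls_eq_cls
        (AmpleLib.isInvertible_pullback _ ParaFLib.isInvertible_structureModule)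
        (AmpleLib.isInvertible_pullback _ hD)).1 ?_⟩
      rw [← pull_cls _ ParaFLib.isInvertible_structureModule, ← pull_cls _ hD, cls_structureModule, map_one]
      have h3 : pull (A ◁ z).left (cls hD) = 1 := by
        rw [hDz, show pull (fst A T * (snd A T ≫ z)).left (cls hL) = _ from h, mul_inv_cancel]
      have h4 := congrArg (pull hpb.isoPullback.inv) h3
      rw [← pull_comp, map_one, IsPullback.isoPullback_inv_fst] at h4
      exact h4.symm
  refine key.symm.trans ⟨fun ⟨u', hu'⟩ => ?_, fun ⟨y, hy⟩ => ⟨y.left, congrArg CommaMorphism.left hy⟩⟩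
  exact ⟨Over.homMk u' (by show u' ≫ j ≫ A.hom = T.hom; rw [← Category.assoc, hu', Over.w z]),
    Over.OverMorphism.ext hu'⟩

end Groth.Agent.ThetaLib
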