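import Mathlib

/-!
# The commutator pairing of a theta group (points over a field)
-/

universe u v

open scoped commutatorElement

set_option linter.style.haveILetI false

namespace Groth.Agent.ThetaLib

variable {k : Type u} [Field k] {Γ : Type v} [Group Γ]

/-- `ι` is the inclusion of the scalars as the centre of a theta group, with quotient of order
invertible in `k`. -/
structure IsTheta (ι : kˣ →* Γ) : Prop where
  inj : Function.Injective ι
  cent : ι.range = Subgroup.center Γ
  comm : commutator Γ ≤ ι.range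
  fin : Finite (Γ ⧸ ι.range)
  card_ne : (Nat.card (Γ ⧸ ι.range) : k) ≠ 0

theorem natCast_ne_zero_of_coprime {n : ℕ} (hn : n ≠ 0) (h : n.Coprime (ringExpChar k)) :
    (n : k) ≠ 0 := by
  intro h0
  have hdvd : ringChar k ∣ n := (ringChar.spec k n).mp h0
  rcases CharP.char_is_prime_or_zero k (ringChar k) with hp | hp
  · rw [ringExpChar, max_eq_left hp.one_lt.le] at h
    exact hp.one_lt.ne' (Nat.dvd_one.mp (h ▸ Nat.dvd_gcd hdvd dvd_rfl))
  · exact hn (zero_dvd_iff.mp (hp ▸ hdvd))

theorem IsTheta.of (ι : kˣ →* Γ) (hι : Function.Injective ι) (hcent : ι.range = Subgroup.center Γ)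
    (hcomm : commutator Γ ≤ ι.range) [Finite (Γ ⧸ ι.range)]
    (hcop : (Nat.card (Γ ⧸ ι.range)).Coprime (ringExpChar k)) : IsTheta ι :=
  ⟨hι, hcent, hcomm, inferInstance, natCast_ne_zero_of_coprime Nat.card_pos.ne' hcop⟩

/-- Summing over cosets a function on the group which is invariant under the subgroup. -/
theorem sum_out_shift {M : Type*} [AddCommMonoid M] (J : Subgroup Γ) [Fintype (Γ ⧸ J)] (F : Γ → M)
    (hF : ∀ g, ∀ j ∈ J, F (g * j) = F g) (h : Γ) :
    ∑ q : Γ ⧸ J, F (h * q.out) = ∑ q : Γ ⧸ J, F q.out := by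
  refine Fintype.sum_equiv (MulAction.toPerm h) _ _ fun q => ?_
  have : ((h * q.out : Γ) : Γ ⧸ J) = h • q := by
    conv_rhs => rw [← QuotientGroup.out_eq' q]
    rfl
  rw [MulAction.toPerm_apply, ← this]
  obtain ⟨j, hj⟩ := QuotientGroup.mk_out_eq_mul J (h * q.out)
  rw [hj, hF _ _ j.2]

/-- A non-trivial character trivial on `J` sums to zero over the cosets of `J`. -/
theorem sum_char_eq_zero (J : Subgroup Γ) [Fintype (Γ ⧸ J)] (χ : Γ →* kˣ) (hJ : ∀ j ∈ J, χ j = 1)
    {h : Γ} (hh : χ h ≠ 1) : ∑ q : Γ ⧸ J, (χ q.out : k) = 0 := by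
  have H := sum_out_shift J (fun g => (χ g : k))
    (fun g j hj => by simp only [map_mul, hJ j hj, mul_one]) h
  simp only [map_mul, Units.val_mul, ← Finset.mul_sum] at H
  have : ((χ h : k) - 1) * ∑ q : Γ ⧸ J, (χ q.out : k) = 0 := by rw [sub_mul, one_mul, H, sub_self]
  refine (mul_eq_zero.mp this).resolve_left fun h1 => hh (Units.ext ?_)
  rw [Units.val_one]
  exact sub_eq_zero.mp h1

/-- There are at most `[A : B]` characters trivial on `B`. -/
theorem card_le_index {A : Type*} [Group A] (B : Subgroup A) [Fintype (A ⧸ B)] {σ : Type*}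
    [Fintype σ] (χ : σ → A →* kˣ) (hχ : Function.Injective χ)
    (hB : ∀ i, ∀ b ∈ B, χ i b = 1) : Fintype.card σ ≤ Fintype.card (A ⧸ B) := by
  have hψ : Function.Injective (fun i => (Units.coeHom k).comp (χ i)) := fun i j h =>
    hχ (MonoidHom.ext fun a => Units.ext (DFunLike.congr_fun h a))
  have hli : LinearIndependent k (fun i => fun a => (χ i a : k)) :=
    (linearIndependent_monoidHom A k).comp _ hψ
  have hli' : LinearIndependent k (fun i => fun q : A ⧸ B => (χ i q.out : k)) := by
    rw [Fintype.linearIndependent_iff] at hli ⊢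
    refine fun g hg => hli g (funext fun a => ?_)
    have h := congrFun hg (QuotientGroup.mk a)
    obtain ⟨b, hb⟩ := QuotientGroup.mk_out_eq_mul B a
    simp only [Finset.sum_apply, Pi.smul_apply, Pi.zero_apply, smul_eq_mul] at h ⊢
    rw [← h]
    exact Finset.sum_congr rfl fun i _ => by rw [hb, map_mul, hB i b b.2, mul_one]
  simpa using hli'.fintype_card_le_finrank

namespace IsTheta

variable {ι : kˣ →* Γ} (T : IsTheta ι)

include T

theorem mem_range_comm (z : kˣ) (g : Γ) : ι z * g = g * ι z :=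
  (Subgroup.mem_center_iff.mp (T.cent ▸ ⟨z, rfl⟩ : ι z ∈ Subgroup.center Γ) g).symm

theorem range_normal : ι.range.Normal := T.cent ▸ inferInstance

theorem commutatorElement_mem (g h : Γ) : ⁅g, h⁆ ∈ ι.range :=
  T.comm (commutator_def Γ ▸ Subgroup.commutator_mem_commutator (Subgroup.mem_top g) (Subgroup.mem_top h))

/-- The commutator pairing. -/
noncomputable def c (g h : Γ) : kˣ := (T.commutatorElement_mem g h).choose

theorem ι_c (g h : Γ) : ι (T.c g h) = g * h * g⁻¹ * h⁻¹ :=
  (T.commutatorElement_mem g h).choose_spec.trans (commutatorElement_def g h)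

theorem mul_eq (g h : Γ) : g * h = ι (T.c g h) * (h * g) := by
  rw [ι_c]; group

theorem c_eq_of {g h : Γ} {z : kˣ} (e : g * h = ι z * (h * g)) : T.c g h = z :=
  T.inj (mul_right_cancel ((T.mul_eq g h).symm.trans e))

theorem c_eq_one_iff {g h : Γ} : T.c g h = 1 ↔ g * h = h * g := by
  refine ⟨fun e => ?_, fun e => T.c_eq_of (by rw [map_one, one_mul, e])⟩
  rw [T.mul_eq g h, e, map_one, one_mul]

theorem c_mul_right (g h h' : Γ) : T.c g (h * h') = T.c g h * T.c g h' := by
  refine T.c_eq_of ?_
  calc g * (h * h') = ι (T.c g h) * (h * (g * h')) := by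
        rw [← mul_assoc, T.mul_eq g h, mul_assoc, mul_assoc]
    _ = ι (T.c g h) * (ι (T.c g h') * (h * (h' * g))) := by
        rw [T.mul_eq g h', ← mul_assoc h, ← T.mem_range_comm, mul_assoc]
    _ = _ := by rw [map_mul]; group

theorem c_mul_left (g g' h : Γ) : T.c (g * g') h = T.c g h * T.c g' h := by
  refine T.c_eq_of ?_
  calc g * g' * h = ι (T.c g' h) * (g * (h * g')) := by
        rw [mul_assoc, T.mul_eq g' h, ← mul_assoc g, ← T.mem_range_comm, mul_assoc]
    _ = ι (T.c g' h) * (ι (T.c g h) * (h * g * g')) := by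
        rw [← mul_assoc g h, T.mul_eq g h, mul_assoc]
    _ = _ := by rw [← mul_assoc, ← map_mul, mul_comm (T.c g' h), mul_assoc h]

/-- `h ↦ c g h`. -/
noncomputable def cR (g : Γ) : Γ →* kˣ where
  toFun h := T.c g h
  map_one' := T.c_eq_one_iff.mpr (by simp)
  map_mul' := T.c_mul_right g

/-- `g ↦ c g h`. -/
noncomputable def cL (h : Γ) : Γ →* kˣ where
  toFun g := T.c g h
  map_one' := T.c_eq_one_iff.mpr (by simp)
  map_mul' g g' := T.c_mul_left g g' h

theorem mem_range_iff {g : Γ} : g ∈ ι.range ↔ ∀ h, T.c g h = 1 := by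
  rw [T.cent, Subgroup.mem_center_iff]
  exact forall_congr' fun h => by rw [T.c_eq_one_iff, eq_comm]

theorem exists_c_ne_one {h : Γ} (hh : h ∉ ι.range) : ∃ g, T.c g h ≠ 1 := by
  by_contra! hcon
  exact hh (T.mem_range_iff.mpr fun g => T.c_eq_one_iff.mpr (T.c_eq_one_iff.mp (hcon g)).symm)

theorem range_le_centralizer (s : Set Γ) : ι.range ≤ Subgroup.centralizer s :=
  T.cent ▸ Subgroup.center_le_centralizer s

/-- `[Γ : H^⊥] = [H : Z]`. -/
theorem index_centralizer {H : Subgroup Γ} (hH : ι.range ≤ H) :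
    (Subgroup.centralizer (H : Set Γ)).index = ι.range.relIndex H := by
  classical
  set C := Subgroup.centralizer (H : Set Γ) with hC
  have := T.fin
  have hfi : ι.range.FiniteIndex := Subgroup.finiteIndex_of_finite_quotient
  have : C.FiniteIndex := Subgroup.finiteIndex_of_le (T.range_le_centralizer _)
  have : (ι.range.subgroupOf H).FiniteIndex := inferInstance
  have : Fintype (Γ ⧸ C) := Subgroup.fintypeQuotientOfFiniteIndex
  have : Fintype (H ⧸ ι.range.subgroupOf H) := Subgroup.fintypeQuotientOfFiniteIndex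
  apply le_antisymm
  · have h := card_le_index (k := k) (ι.range.subgroupOf H)
      (fun q : Γ ⧸ C => (T.cR q.out).comp H.subtype)
      (fun q r hqr => by
        rw [← QuotientGroup.out_eq' q, ← QuotientGroup.out_eq' r, QuotientGroup.eq]
        refine Subgroup.mem_centralizer_iff.mpr fun x hx => (T.c_eq_one_iff.mp ?_).symm
        rw [T.c_mul_left]
        have e : T.c q.out x = T.c r.out x := DFunLike.congr_fun hqr ⟨x, hx⟩
        rw [← e, ← T.c_mul_left, inv_mul_cancel, T.c_eq_one_iff, one_mul, mul_one])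
      (fun q b hb => by
        obtain ⟨z, hz⟩ := Subgroup.mem_subgroupOf.mp hb
        show T.c q.out b.1 = 1
        rw [← hz, T.c_eq_one_iff, T.mem_range_comm])
    rwa [← Nat.card_eq_fintype_card, ← Nat.card_eq_fintype_card] at h
  · have h := card_le_index (k := k) C (fun q : H ⧸ ι.range.subgroupOf H => T.cR q.out.1)
      (fun q r hqr => by
        rw [← QuotientGroup.out_eq' q, ← QuotientGroup.out_eq' r, QuotientGroup.eq,
          Subgroup.mem_subgroupOf, T.mem_range_iff]
        intro x
        have e : T.c q.out.1 x = T.c r.out.1 x := DFunLike.congr_fun hqr x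
        rw [Subgroup.coe_mul, T.c_mul_left, ← e, ← T.c_mul_left, Subgroup.coe_inv, inv_mul_cancel,
          T.c_eq_one_iff, one_mul, mul_one])
      (fun q g hg => T.c_eq_one_iff.mpr (Subgroup.mem_centralizer_iff.mp hg _ q.out.2))
    rwa [← Nat.card_eq_fintype_card, ← Nat.card_eq_fintype_card] at h

theorem relIndex_mul_relIndex_centralizer {H : Subgroup Γ} (hH : ι.range ≤ H) :
    ι.range.relIndex (Subgroup.centralizer (H : Set Γ)) * ι.range.relIndex H = ι.range.index := by
  rw [← T.index_centralizer hH]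
  exact Subgroup.relIndex_mul_index (T.range_le_centralizer _)

theorem centralizer_eq_iff {H : Subgroup Γ} (hH : ι.range ≤ H) :
    H = Subgroup.centralizer (H : Set Γ) ↔
      IsMulCommutative H ∧ (ι.range.relIndex H) ^ 2 = ι.range.index := by
  constructor
  · intro h
    refine ⟨⟨⟨fun a b => Subtype.ext (Subgroup.mem_centralizer_iff.mp (h ▸ b.2) _ a.2)⟩⟩, ?_⟩
    conv_rhs => rw [← T.relIndex_mul_relIndex_centralizer hH, ← h]
    rw [sq]
  · rintro ⟨hcomm, hidx⟩
    have := T.fin
    have : ι.range.FiniteIndex := Subgroup.finiteIndex_of_finite_quotient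
    have hle : H ≤ Subgroup.centralizer (H : Set Γ) := fun x hx =>
      Subgroup.mem_centralizer_iff.mpr fun y hy => congrArg Subtype.val (hcomm.is_comm.comm ⟨y, hy⟩ ⟨x, hx⟩)
    have hne : ι.range.relIndex H ≠ 0 := fun h0 =>
      Subgroup.FiniteIndex.index_ne_zero (H := ι.range) (by rw [← hidx, h0]; rfl)
    rw [← T.relIndex_mul_relIndex_centralizer hH, sq,
      ← Subgroup.relIndex_mul_relIndex _ _ _ hH hle, mul_eq_mul_right_iff] at hidx
    refine le_antisymm hle (Subgroup.relIndex_eq_one.mp ?_)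
    exact (Nat.eq_of_mul_eq_mul_left (Nat.pos_of_ne_zero hne)
      ((mul_one _).trans (hidx.resolve_right hne))).symm

end IsTheta

end Groth.Agent.ThetaLib
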