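import Mathlib
import Groth.Agent.ThetaLib.Pairing

/-!
# Weight one representations of a theta group
-/

universe u v w w'

set_option linter.style.haveILetI false

namespace Groth.Agent.ThetaLib

variable {k : Type u} [Field k] {Γ : Type v} [Group Γ] {ι : kˣ →* Γ}
variable {V : Type w} [AddCommGroup V] [Module k V] {W : Type w'} [AddCommGroup W] [Module k W]

/-- Weight one: the scalars act as scalars. -/
def WeightOne (ι : kˣ →* Γ) (ρ : Representation k Γ V) : Prop :=
  ∀ (z : kˣ) (v : V), ρ (ι z) v = (z : k) • v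

theorem rho_inv_apply (ρ : Representation k Γ V) (g : Γ) (v : V) : ρ g⁻¹ (ρ g v) = v := by
  rw [← Module.End.mul_apply, ← map_mul, inv_mul_cancel, map_one, Module.End.one_apply]

theorem rho_apply_inv (ρ : Representation k Γ V) (g : Γ) (v : V) : ρ g (ρ g⁻¹ v) = v := by
  rw [← Module.End.mul_apply, ← map_mul, mul_inv_cancel, map_one, Module.End.one_apply]

theorem rho_mul_apply (ρ : Representation k Γ V) (g h : Γ) (v : V) : ρ (g * h) v = ρ g (ρ h v) := by
  rw [map_mul, Module.End.mul_apply]

variable (T : IsTheta ι) {ρ : Representation k Γ V} (σ : Representation k Γ W)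

section avg

variable [Fintype (Γ ⧸ ι.range)]

/-- The average of a linear map over the quotient of the group by the scalars. -/
noncomputable def avg (ρ : Representation k Γ V) (σ : Representation k Γ W) (L : V →ₗ[k] W) :
    V →ₗ[k] W :=
  ∑ q : Γ ⧸ ι.range, σ q.out ∘ₗ L ∘ₗ ρ q.out⁻¹

theorem avg_apply (ρ : Representation k Γ V) (L : V →ₗ[k] W) (v : V) :
    avg (ι := ι) ρ σ L v = ∑ q : Γ ⧸ ι.range, σ q.out (L (ρ q.out⁻¹ v)) := by
  simp [avg, LinearMap.sum_apply]

theorem avg_comm (hρ : WeightOne ι ρ) {σ : Representation k Γ W} (hσ : WeightOne ι σ) (L : V →ₗ[k] W)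
    (h : Γ) (v : V) : avg (ι := ι) ρ σ L (ρ h v) = σ h (avg (ι := ι) ρ σ L v) := by
  rw [avg_apply, avg_apply, map_sum,
    ← sum_out_shift ι.range (fun g => σ g (L (ρ g⁻¹ (ρ h v)))) ?_ h]
  · refine Finset.sum_congr rfl fun q _ => ?_
    rw [mul_inv_rev, rho_mul_apply ρ, rho_inv_apply, rho_mul_apply σ]
  · rintro g _ ⟨z, rfl⟩
    rw [mul_inv_rev, rho_mul_apply ρ, ← map_inv ι, hρ, map_smul, rho_mul_apply σ, hσ]
    simp only [map_smul, smul_smul, ← Units.val_mul, mul_inv_cancel, inv_mul_cancel, Units.val_one, one_smul]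

end avg

include T in
theorem rho_conj (hρ : WeightOne ι ρ) (g h : Γ) (v : V) :
    ρ g (ρ h (ρ g⁻¹ v)) = (T.c g h : k) • ρ h v := by
  rw [← rho_mul_apply, T.mul_eq g h, rho_mul_apply, hρ, rho_mul_apply, rho_apply_inv]

include T in
/-- The operators attached to coset representatives are linearly independent. -/
theorem linearIndependent_rho [Fintype (Γ ⧸ ι.range)] [Nontrivial V] (hρ : WeightOne ι ρ) :
    LinearIndependent k (fun q : Γ ⧸ ι.range => ρ q.out) := by
  classical
  rw [Fintype.linearIndependent_iff]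
  intro a ha q₀
  obtain ⟨v, hv⟩ := exists_ne (0 : V)
  have ha' : ∀ w, ∑ q, a q • ρ q.out w = 0 := fun w => by
    simpa [LinearMap.sum_apply] using LinearMap.congr_fun ha w
  have hconj : ∀ g, ∑ q, (a q * T.c g q.out) • ρ q.out v = 0 := fun g => by
    have := congrArg (ρ g) (ha' (ρ g⁻¹ v))
    simpa [map_sum, map_smul, rho_conj T hρ, smul_smul] using this
  have hsum : ∑ r : Γ ⧸ ι.range, ((T.c r.out q₀.out)⁻¹ : kˣ).val •
      ∑ q, (a q * T.c r.out q.out) • ρ q.out v = 0 := by simp [hconj]
  simp only [Finset.smul_sum, smul_smul] at hsum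
  rw [Finset.sum_comm] at hsum
  simp only [← Finset.sum_smul] at hsum
  rw [Finset.sum_eq_single q₀ ?_ (by simp)] at hsum
  · have : ∀ r : Γ ⧸ ι.range, ((T.c r.out q₀.out)⁻¹ : kˣ).val * (a q₀ * T.c r.out q₀.out) = a q₀ := by
      intro r
      rw [mul_left_comm, Units.inv_mul, mul_one]
    rw [Finset.sum_congr rfl fun r _ => this r, Finset.sum_const, Finset.card_univ,
      ← Nat.card_eq_fintype_card, nsmul_eq_mul, smul_eq_zero, mul_eq_zero] at hsum
    rcases hsum with (h | h) | h
    · exact absurd h T.card_ne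
    · exact h
    · exact absurd ((rho_inv_apply ρ q₀.out v).symm.trans (by rw [h, map_zero])) hv
  intro q _ hq
  obtain ⟨g, hg⟩ := T.exists_c_ne_one (h := q₀.out⁻¹ * q.out) (fun h => hq (by
    rw [← QuotientGroup.out_eq' q, ← QuotientGroup.out_eq' q₀]
    exact (QuotientGroup.eq.mpr h).symm))
  have h0 := sum_char_eq_zero ι.range (T.cL (q₀.out⁻¹ * q.out))
    (fun j hj => T.mem_range_iff.mp hj _) (h := g) hg
  rw [show (∑ r : Γ ⧸ ι.range, ((T.c r.out q₀.out)⁻¹ : kˣ).val * (a q * T.c r.out q.out)) = 0 from ?_,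
    zero_smul]
  calc _ = a q * ∑ r : Γ ⧸ ι.range, ((T.cL (q₀.out⁻¹ * q.out)) r.out : k) := by
        rw [Finset.mul_sum]
        refine Finset.sum_congr rfl fun r _ => ?_
        have e : T.c r.out q.out = T.c r.out q₀.out * T.c r.out (q₀.out⁻¹ * q.out) := by
          rw [← T.c_mul_right, mul_inv_cancel_left]
        show _ = a q * (T.c r.out (q₀.out⁻¹ * q.out) : k)
        rw [e, Units.val_mul, mul_left_comm, Units.inv_mul_cancel_left]
    _ = 0 := by rw [h0, mul_zero]

include T in
/-- Two non-zero weight one representations are connected by a non-zero equivariant map. -/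
theorem exists_intertwining_ne_zero [Nontrivial V] [Nontrivial W] (hρ : WeightOne ι ρ)
    (hσ : WeightOne ι σ) : ∃ f : Representation.IntertwiningMap ρ σ, f.toLinearMap ≠ 0 := by
  classical
  have := T.fin
  have := Fintype.ofFinite (Γ ⧸ ι.range)
  by_contra! hcon
  have h0 : ∀ L : V →ₗ[k] W, avg (ι := ι) ρ σ L = 0 := fun L =>
    hcon ⟨avg (ι := ι) ρ σ L, fun g => LinearMap.ext fun v => avg_comm hρ hσ L g v⟩
  obtain ⟨v, hv⟩ := exists_ne (0 : V)
  obtain ⟨φ, hφ⟩ : ∃ φ : Module.Dual k V, φ v ≠ 0 := by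
    by_contra! h
    exact hv ((Module.forall_dual_apply_eq_zero_iff k v).mp h)
  obtain ⟨w, hw⟩ := exists_ne (0 : W)
  set q₀ : Γ ⧸ ι.range := QuotientGroup.mk 1
  have hli := Fintype.linearIndependent_iff.mp (linearIndependent_rho T (ρ := σ) hσ)
    (fun q => φ (ρ q.out⁻¹ (ρ q₀.out v))) (LinearMap.ext fun w' => by
      have := LinearMap.congr_fun (h0 (φ.smulRight w')) (ρ q₀.out v)
      simpa [avg_apply, LinearMap.sum_apply] using this) q₀
  rw [rho_inv_apply] at hli
  exact hφ hli

section irr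

variable [FiniteDimensional k V]

theorem nontrivial_of_irreducible (ρ : Representation k Γ V) [ρ.IsIrreducible] : Nontrivial V := by
  by_contra h
  rw [not_nontrivial_iff_subsingleton] at h
  obtain ⟨a, b, hab⟩ := exists_pair_ne (Subrepresentation ρ)
  exact hab (Subrepresentation.toSubmodule_injective (Subsingleton.elim _ _))

include T in
/-- Uniqueness of the irreducible weight one representation. -/
theorem nonempty_equiv [ρ.IsIrreducible] [σ.IsIrreducible] [FiniteDimensional k W]
    (hρ : WeightOne ι ρ) (hσ : WeightOne ι σ) : Nonempty (Representation.Equiv ρ σ) := by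
  have := nontrivial_of_irreducible ρ
  have := nontrivial_of_irreducible σ
  obtain ⟨f, hf⟩ := exists_intertwining_ne_zero T σ hρ hσ
  rcases Representation.IsIrreducible.bijective_or_eq_zero f with h | h
  · exact ⟨f.ofBijective h⟩
  · exact absurd (by rw [h]; rfl) hf

include T in
/-- `(dim V)² = [Γ : Z]` for an irreducible weight one representation. -/
theorem finrank_sq [IsAlgClosed k] [ρ.IsIrreducible] (hρ : WeightOne ι ρ) :
    Module.finrank k V ^ 2 = Nat.card (Γ ⧸ ι.range) := by
  classical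
  have := T.fin
  have := Fintype.ofFinite (Γ ⧸ ι.range)
  have := nontrivial_of_irreducible ρ
  have hscal : ∀ L : V →ₗ[k] V, ∃ c : k, ∀ v, avg (ι := ι) ρ ρ L v = c • v := by
    intro L
    obtain ⟨c, hc⟩ := Module.End.exists_eigenvalue (avg (ι := ι) ρ ρ L : Module.End k V)
    obtain ⟨v, hv⟩ := hc.exists_hasEigenvector
    refine ⟨c, ?_⟩
    let f : Representation.IntertwiningMap ρ ρ :=
      ⟨avg (ι := ι) ρ ρ L - c • LinearMap.id, fun g => LinearMap.ext fun x => by
        simp [avg_comm hρ hρ]⟩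
    rcases Representation.IsIrreducible.injective_or_eq_zero f with h | h
    · refine absurd (h ?_) hv.2
      rw [map_zero]
      show avg (ι := ι) ρ ρ L v - c • v = 0
      rw [hv.apply_eq_smul, sub_self]
    · intro x
      exact sub_eq_zero.mp (DFunLike.congr_fun h x)
  obtain ⟨v, hv⟩ := exists_ne (0 : V)
  have htr : ∀ (φ : Module.Dual k V) (w : V) (c : k),
      (∀ x, avg (ι := ι) ρ ρ (φ.smulRight w) x = c • x) →
        c * Module.finrank k V = Nat.card (Γ ⧸ ι.range) * φ w := by
    intro φ w c hc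
    have e : avg (ι := ι) ρ ρ (φ.smulRight w) = c • LinearMap.id := LinearMap.ext fun x => hc x
    have h1 := congrArg (LinearMap.trace k V) e
    rw [map_smul, LinearMap.trace_id, avg, map_sum, smul_eq_mul] at h1
    rw [← h1, Finset.sum_congr rfl fun (q : Γ ⧸ ι.range) _ => show
      LinearMap.trace k V (ρ q.out ∘ₗ φ.smulRight w ∘ₗ ρ q.out⁻¹) = φ w by
        rw [LinearMap.trace_comp_comm', LinearMap.comp_assoc, ← Module.End.mul_eq_comp (f := ρ q.out⁻¹), ← map_mul,
          inv_mul_cancel, map_one, Module.End.one_eq_id, LinearMap.comp_id, LinearMap.trace_smulRight],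
      Finset.sum_const, Finset.card_univ, ← Nat.card_eq_fintype_card, nsmul_eq_mul]
  have hd : (Module.finrank k V : k) ≠ 0 := by
    obtain ⟨φ, hφ⟩ : ∃ φ : Module.Dual k V, φ v ≠ 0 := by
      by_contra! h
      exact hv ((Module.forall_dual_apply_eq_zero_iff k v).mp h)
    obtain ⟨c, hc⟩ := hscal (φ.smulRight v)
    intro h0
    have := htr φ v c hc
    rw [h0, mul_zero] at this
    exact mul_ne_zero T.card_ne hφ this.symm
  have hspan : Submodule.span k (Set.range fun q : Γ ⧸ ι.range => ρ q.out) = ⊤ := by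
    refine eq_top_iff.mpr fun L _ => ?_
    let b := Module.finBasis k V
    have hL : L = ∑ i, (b.coord i).smulRight (L (b i)) := LinearMap.ext fun x => by
      conv_lhs => rw [← b.sum_repr x, map_sum]
      simp [LinearMap.sum_apply, Module.Basis.coord_apply]
    rw [hL]
    refine Submodule.sum_mem _ fun i _ => ?_
    set φ := b.coord i
    set u := L (b i)
    have key : (Nat.card (Γ ⧸ ι.range) / Module.finrank k V : k) • φ.smulRight u =
        ∑ q : Γ ⧸ ι.range, φ (ρ q.out⁻¹ u) • ρ q.out := by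
      refine LinearMap.ext fun w => ?_
      obtain ⟨c, hc⟩ := hscal (φ.smulRight w)
      have h := hc u
      rw [avg_apply] at h
      simp only [LinearMap.coe_smulRight, map_smul] at h
      rw [LinearMap.sum_apply]
      simp only [LinearMap.smul_apply, LinearMap.smulRight_apply]
      rw [h, smul_smul, div_mul_eq_mul_div, ← htr φ w c hc, mul_div_assoc, div_self hd, mul_one]
    have hne : (Nat.card (Γ ⧸ ι.range) / Module.finrank k V : k) ≠ 0 := div_ne_zero T.card_ne hd
    rw [← inv_smul_smul₀ hne (φ.smulRight u), key]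
    exact Submodule.smul_mem _ _ (Submodule.sum_mem _ fun q _ =>
      Submodule.smul_mem _ _ (Submodule.subset_span ⟨q, rfl⟩))
  have hb := Module.finrank_eq_card_basis
    (Module.Basis.mk (linearIndependent_rho T hρ) hspan.ge)
  rw [Module.finrank_linearMap] at hb
  rw [sq, Nat.card_eq_fintype_card, hb]

end irr

include T in
/-- Weight one representations are semisimple. -/
theorem isSemisimple (hσ : WeightOne ι σ) :
    Representation.IsSemisimpleRepresentation σ := by
  classical
  have := T.fin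
  have := Fintype.ofFinite (Γ ⧸ ι.range)
  refine ⟨fun U => ?_⟩
  obtain ⟨π, hπ⟩ := LinearMap.exists_extend (LinearMap.id : U.toSubmodule →ₗ[k] U.toSubmodule)
  set L : W →ₗ[k] W := U.toSubmodule.subtype ∘ₗ π
  set P : W →ₗ[k] W := (Nat.card (Γ ⧸ ι.range) : k)⁻¹ • avg (ι := ι) σ σ L with hP
  have hmem : ∀ x, P x ∈ U.toSubmodule := fun x => by
    rw [hP, LinearMap.smul_apply, avg_apply]
    exact Submodule.smul_mem _ _ (Submodule.sum_mem _ fun q _ =>
      U.apply_mem_toSubmodule _ (π _).2)
  have hfix : ∀ x ∈ U.toSubmodule, P x = x := fun x hx => by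
    rw [hP, LinearMap.smul_apply, avg_apply]
    have : ∀ q : Γ ⧸ ι.range, σ q.out (L (σ q.out⁻¹ x)) = x := fun q => by
      have h := congrArg Subtype.val (LinearMap.congr_fun hπ ⟨σ q.out⁻¹ x, U.apply_mem_toSubmodule _ hx⟩)
      change L (σ q.out⁻¹ x) = σ q.out⁻¹ x at h
      rw [h, rho_apply_inv]
    rw [Finset.sum_congr rfl fun q _ => this q, Finset.sum_const, Finset.card_univ,
      ← Nat.card_eq_fintype_card, ← Nat.cast_smul_eq_nsmul k, inv_smul_smul₀ T.card_ne]
  refine ⟨⟨LinearMap.ker P, fun g x hx => ?_⟩, ?_, ?_⟩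
  · rw [LinearMap.mem_ker] at hx ⊢
    rw [hP, LinearMap.smul_apply, avg_comm hσ hσ, ← map_smul, ← LinearMap.smul_apply, ← hP, hx, map_zero]
  · rw [disjoint_iff]
    apply Subrepresentation.toSubmodule_injective
    show U.toSubmodule ⊓ LinearMap.ker P = ⊥
    refine (Submodule.eq_bot_iff _).mpr fun x hx => ?_
    rw [← hfix x hx.1]
    exact LinearMap.mem_ker.mp hx.2
  · rw [codisjoint_iff]
    apply Subrepresentation.toSubmodule_injective
    show U.toSubmodule ⊔ LinearMap.ker P = ⊤
    refine eq_top_iff.mpr fun x _ => ?_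
    rw [show x = P x + (x - P x) by abel]
    exact Submodule.add_mem_sup (hmem x) (by rw [LinearMap.mem_ker, map_sub, hfix _ (hmem x), sub_self])

end Groth.Agent.ThetaLib
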