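import Mathlib
import Groth.Agent.ThetaLib.Rep

/-!
# Existence of an irreducible weight one representation
-/

universe u

set_option linter.style.haveILetI false

namespace Groth.Agent.ThetaLib

variable {k : Type u} [Field k] {Γ : Type u} [Group Γ] (ι : kˣ →* Γ)

/-- Functions transforming by the identity character under the scalars. -/
def weightFun : Submodule k (Γ → k) where
  carrier := {f | ∀ (z : kˣ) (g : Γ), f (ι z * g) = z * f g}
  add_mem' := fun {f f'} hf hf' z g => by simp [hf z g, hf' z g, mul_add]
  zero_mem' := fun z g => by simp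
  smul_mem' := fun a f hf z g => by simp [hf z g, mul_left_comm]

/-- Right translation. -/
def weightRep : Representation k Γ (weightFun ι) where
  toFun h :=
    { toFun := fun f => ⟨fun g => f.1 (g * h), fun z g => by
        show f.1 (ι z * g * h) = z * f.1 (g * h)
        rw [mul_assoc]; exact f.2 z (g * h)⟩
      map_add' := fun _ _ => rfl
      map_smul' := fun _ _ => rfl }
  map_one' := by ext f g; simp
  map_mul' a b := by ext f g; simp [mul_assoc]

set_option backward.isDefEq.respectTransparency false in
theorem exists_irreducible (T : IsTheta ι) :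
    ∃ V : FDRep k Γ, Representation.IsIrreducible V.ρ ∧
      ∀ (z : kˣ) (v : V), V.ρ (ι z) v = (z : k) • v := by
  classical
  have := T.fin
  have := Fintype.ofFinite (Γ ⧸ ι.range)
  have hn := T.range_normal
  let res : weightFun ι →ₗ[k] ((Γ ⧸ ι.range) → k) :=
    { toFun := fun f q => f.1 q.out
      map_add' := fun _ _ => rfl
      map_smul' := fun _ _ => rfl }
  have hres : Function.Injective res := fun f f' h => Subtype.ext (funext fun g => by
    obtain ⟨⟨_, z, rfl⟩, hz⟩ := QuotientGroup.mk_out_eq_mul ι.range g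
    have h1 : f.1 (QuotientGroup.mk g : Γ ⧸ ι.range).out = f'.1 (QuotientGroup.mk g : Γ ⧸ ι.range).out :=
      congrFun h _
    rw [hz, ← T.mem_range_comm, f.2, f'.2] at h1
    exact mul_left_cancel₀ z.ne_zero h1)
  have : FiniteDimensional k (weightFun ι) := FiniteDimensional.of_injective res hres
  have hw : WeightOne ι (weightRep ι) := fun z f => Subtype.ext (funext fun g => by
    show f.1 (g * ι z) = (z : k) * f.1 g
    rw [← T.mem_range_comm, f.2])
  -- a non-zero function
  have hmem : ∀ g : Γ, g * (QuotientGroup.mk g : Γ ⧸ ι.range).out⁻¹ ∈ ι.range := fun g => by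
    obtain ⟨⟨j, hj'⟩, hj⟩ := QuotientGroup.mk_out_eq_mul ι.range g
    rw [hj, mul_inv_rev, ← mul_assoc]
    exact hn.conj_mem _ (inv_mem hj') g
  let e : kˣ ≃* ι.range := MonoidHom.ofInjective T.inj
  let f₀ : weightFun ι := ⟨fun g => (e.symm ⟨_, hmem g⟩ : k), fun z g => by
    show (e.symm _ : k) = z * (e.symm _ : k)
    rw [← Units.val_mul]
    congr 1
    apply e.injective
    rw [map_mul, MulEquiv.apply_symm_apply, MulEquiv.apply_symm_apply]
    apply Subtype.ext
    have hq : (QuotientGroup.mk (ι z * g) : Γ ⧸ ι.range) = QuotientGroup.mk g := by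
      rw [T.mem_range_comm]
      exact QuotientGroup.mk_mul_of_mem g ⟨z, rfl⟩
    show ι z * g * (QuotientGroup.mk (ι z * g) : Γ ⧸ ι.range).out⁻¹ = ι z * (g * _)
    rw [hq, mul_assoc]⟩
  have hf₀ : f₀ ≠ 0 := fun h => (e.symm ⟨_, hmem 1⟩).ne_zero (congrFun (congrArg Subtype.val h) 1)
  -- a minimal non-zero subrepresentation
  have hex : ∃ n, ∃ U : Subrepresentation (weightRep ι), U.toSubmodule ≠ ⊥ ∧
      Module.finrank k U.toSubmodule = n :=
    ⟨_, ⊤, fun h => hf₀ ((Submodule.eq_bot_iff _).mp h f₀ Submodule.mem_top), rfl⟩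
  obtain ⟨U, hU, hUn⟩ := Nat.find_spec hex
  let ρ' : @Representation k Γ U.toSubmodule _ _ AddCommGroup.toAddCommMonoid _ := U.toRepresentation
  refine ⟨FDRep.of (R := k) (G := Γ) (V := U.toSubmodule) ρ', ?_, ?_⟩
  · show Representation.IsIrreducible (k := k) (G := Γ) (V := U.toSubmodule) ρ'
    have : Nontrivial (Subrepresentation ρ') := ⟨⟨⊥, ⊤, fun h => hU (by
      refine (Submodule.eq_bot_iff _).mpr fun x hx => ?_
      have h1 : (⟨x, hx⟩ : U.toSubmodule) ∈ (⊤ : Subrepresentation ρ').toSubmodule :=
        Submodule.mem_top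
      rw [← h] at h1
      exact congrArg Subtype.val ((Submodule.mem_bot k).mp h1))⟩⟩
    refine ⟨fun S => ?_⟩
    by_cases hS : S.toSubmodule = ⊥
    · exact Or.inl (Subrepresentation.toSubmodule_injective hS)
    refine Or.inr (Subrepresentation.toSubmodule_injective ?_)
    let U' : Subrepresentation (weightRep ι) := ⟨S.toSubmodule.map U.toSubmodule.subtype, fun g v hv => by
      obtain ⟨w, hw', rfl⟩ := hv
      exact ⟨_, S.apply_mem_toSubmodule g hw', rfl⟩⟩
    have hne : U'.toSubmodule ≠ ⊥ := fun h => hS (by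
      rwa [← (Submodule.map_injective_of_injective U.toSubmodule.injective_subtype).eq_iff, Submodule.map_bot])
    have hle := Nat.find_min' hex ⟨U', hne, rfl⟩
    rw [← hUn] at hle
    have hrk : Module.finrank k U'.toSubmodule = Module.finrank k S.toSubmodule :=
      (Submodule.equivMapOfInjective _ U.toSubmodule.injective_subtype S.toSubmodule).symm.finrank_eq
    exact Submodule.eq_top_of_finrank_eq (K := k) (V := U.toSubmodule) (S := S.toSubmodule)
      (le_antisymm (Submodule.finrank_le (R := k) (M := U.toSubmodule) S.toSubmodule) (hle.trans hrk.le))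
  · intro z v
    exact Subtype.ext (hw z v.1)

end Groth.Agent.ThetaLib
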