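import Mathlib
import Groth.Agent.ThetaLib.Rep

/-!
# Maximal level subgroups and their invariants
-/

universe u v w

set_option linter.style.haveILetI false

namespace Groth.Agent.ThetaLib

variable {k : Type u} [Field k] {Γ : Type v} [Group Γ] {ι : kˣ →* Γ}

theorem mul_comm_of_level (T : IsTheta ι) {H : Subgroup Γ} (hH : H ⊓ ι.range = ⊥) {a b : Γ}
    (ha : a ∈ H) (hb : b ∈ H) : a * b = b * a := by
  have h : a * b * a⁻¹ * b⁻¹ ∈ H ⊓ ι.range := ⟨H.mul_mem (H.mul_mem (H.mul_mem ha hb) (H.inv_mem ha))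
    (H.inv_mem hb), T.ι_c a b ▸ ⟨_, rfl⟩⟩
  rw [hH, Subgroup.mem_bot] at h
  rw [mul_inv_eq_one, mul_inv_eq_iff_eq_mul] at h
  exact h

theorem centralizer_eq_sup [IsAlgClosed k] (T : IsTheta ι) {H : Subgroup Γ}
    (hH : H ⊓ ι.range = ⊥) (hmax : ∀ H' : Subgroup Γ, H' ⊓ ι.range = ⊥ → H ≤ H' → H' = H) :
    H ⊔ ι.range = Subgroup.centralizer ((H ⊔ ι.range : Subgroup Γ) : Set Γ) := by
  classical
  have := T.fin
  have := T.range_normal
  have : ι.range.FiniteIndex := Subgroup.finiteIndex_of_finite_quotient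
  have hmem : ∀ {x}, x ∈ H ⊔ ι.range ↔ ∃ h ∈ H, ∃ z, h * ι z = x := fun {x} => by
    rw [Subgroup.mem_sup_of_normal_right]
    exact ⟨fun ⟨h, hh, _, ⟨z, rfl⟩, e⟩ => ⟨h, hh, z, e⟩, fun ⟨h, hh, z, e⟩ => ⟨h, hh, _, ⟨z, rfl⟩, e⟩⟩
  refine le_antisymm (fun x hx => Subgroup.mem_centralizer_iff.mpr fun y hy => ?_) fun g hg => ?_
  · obtain ⟨a, ha, z, rfl⟩ := hmem.mp hx
    obtain ⟨b, hb, z', rfl⟩ := hmem.mp hy
    rw [← T.c_eq_one_iff, T.c_mul_left, T.c_mul_right, T.c_mul_right,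
      T.c_eq_one_iff.mpr (mul_comm_of_level T hH hb ha), T.c_eq_one_iff.mpr (T.mem_range_comm z b).symm,
      T.c_eq_one_iff.mpr (T.mem_range_comm z' a), T.c_eq_one_iff.mpr (T.mem_range_comm z' (ι z))]
    simp
  rw [Subgroup.mem_centralizer_iff] at hg
  have hsub : ι.range ≤ H ⊔ ι.range := le_sup_right
  have hex : ∃ m, 0 < m ∧ g ^ m ∈ H ⊔ ι.range := by
    obtain ⟨m, hm, -, hmem'⟩ := Subgroup.exists_pow_mem_of_index_ne_zero
      (Subgroup.finiteIndex_of_le hsub).index_ne_zero g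
    exact ⟨m, hm, hmem'⟩
  obtain ⟨hm, hgm⟩ := Nat.find_spec hex
  set m := Nat.find hex
  obtain ⟨h₀, hh₀, z₀, e₀⟩ := hmem.mp hgm
  obtain ⟨r, hr⟩ := IsAlgClosed.exists_pow_nat_eq ((z₀⁻¹ : kˣ) : k) hm
  have hr0 : r ≠ 0 := fun h => by
    rw [h, zero_pow hm.ne'] at hr
    exact (z₀⁻¹).ne_zero hr.symm
  set z : kˣ := Units.mk0 r hr0
  have hzm : z ^ m = z₀⁻¹ := Units.ext (by rw [Units.val_pow_eq_pow_val]; exact hr)
  set g' := g * ι z
  have hg'comm : ∀ y ∈ H, Commute y g' := fun y hy =>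
    (show Commute y g from hg y (Subgroup.mem_sup_left hy)).mul_right (T.mem_range_comm z y).symm
  have hg'm : g' ^ m ∈ H := by
    rw [(show Commute g (ι z) from (T.mem_range_comm z g).symm).mul_pow, ← map_pow, hzm, ← e₀, mul_assoc,
      ← map_mul, mul_inv_cancel, map_one, mul_one]
    exact hh₀
  have hpow : ∀ j : ℤ, g' ^ j ∈ H ⊔ ι.range → g' ^ j ∈ H := by
    intro j hj
    rw [← Int.emod_add_mul_ediv j m, zpow_add, zpow_mul, zpow_natCast] at hj ⊢
    have hq : (g' ^ m) ^ (j / (m : ℤ)) ∈ H := H.zpow_mem hg'm _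
    obtain ⟨i, hi⟩ : ∃ i : ℕ, j % (m : ℤ) = i :=
      ⟨(j % (m : ℤ)).toNat, (Int.toNat_of_nonneg (Int.emod_nonneg j (by omega))).symm⟩
    have hilt : i < m := by
      have := Int.emod_lt_of_pos j (show (0 : ℤ) < m by omega)
      omega
    rw [hi, zpow_natCast] at hj ⊢
    have hgi : g ^ i ∈ H ⊔ ι.range := by
      have h1 := (Subgroup.mul_mem_cancel_right _ (Subgroup.mem_sup_left hq)).mp hj
      rw [(show Commute g (ι z) from (T.mem_range_comm z g).symm).mul_pow] at h1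
      exact (Subgroup.mul_mem_cancel_right _ (hsub (pow_mem (⟨z, rfl⟩ : ι z ∈ ι.range) i))).mp h1
    rcases Nat.eq_zero_or_pos i with rfl | hipos
    · rwa [pow_zero, one_mul]
    · exact absurd ⟨hipos, hgi⟩ (Nat.find_min hex hilt)
  let H' : Subgroup Γ :=
    { carrier := {x | ∃ a ∈ H, ∃ j : ℤ, a * g' ^ j = x}
      mul_mem' := by
        rintro _ _ ⟨a, ha, i, rfl⟩ ⟨b, hb, j, rfl⟩
        refine ⟨a * b, H.mul_mem ha hb, i + j, ?_⟩
        rw [zpow_add, ← mul_assoc, mul_assoc a b, ((hg'comm b hb).zpow_right i).eq]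
        group
      one_mem' := ⟨1, H.one_mem, 0, by simp⟩
      inv_mem' := by
        rintro _ ⟨a, ha, i, rfl⟩
        refine ⟨a⁻¹, H.inv_mem ha, -i, ?_⟩
        rw [mul_inv_rev, zpow_neg]
        exact ((hg'comm a ha).zpow_right i).inv_inv }
  have hH'bot : H' ⊓ ι.range = ⊥ := by
    rw [eq_bot_iff]
    rintro _ ⟨⟨a, ha, j, rfl⟩, hz⟩
    rw [← hH]
    refine ⟨H.mul_mem ha (hpow j ?_), hz⟩
    rw [← inv_mul_cancel_left a (g' ^ j)]
    exact Subgroup.mul_mem _ (Subgroup.mem_sup_left (H.inv_mem ha)) (hsub hz)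
  have hle : H ≤ H' := fun a ha => ⟨a, ha, 0, by simp⟩
  have hg'0 : g' ∈ H' := show ∃ a ∈ H, ∃ j : ℤ, a * g' ^ j = g' from ⟨1, H.one_mem, 1, by simp⟩
  have hg' : g' ∈ H := by rwa [hmax H' hH'bot hle] at hg'0
  rw [show g = g' * ι z⁻¹ by rw [map_inv, mul_inv_cancel_right]]
  exact hmem.mpr ⟨g', hg', z⁻¹, rfl⟩

theorem card_sq [IsAlgClosed k] (T : IsTheta ι) {H : Subgroup Γ} (hH : H ⊓ ι.range = ⊥)
    (hmax : ∀ H' : Subgroup Γ, H' ⊓ ι.range = ⊥ → H ≤ H' → H' = H) :
    Nat.card H ^ 2 = ι.range.index ∧ (H ⊔ ι.range).index = Nat.card H := by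
  have := T.range_normal
  have := T.fin
  have : ι.range.FiniteIndex := Subgroup.finiteIndex_of_finite_quotient
  have h1 := ((T.centralizer_eq_iff le_sup_right).mp (centralizer_eq_sup T hH hmax)).2
  have h2 : ι.range.relIndex (H ⊔ ι.range) = Nat.card H := by
    rw [Subgroup.relIndex_sup_right, ← Subgroup.inf_relIndex_right, inf_comm, hH,
      Subgroup.relIndex_bot_left]
  rw [h2] at h1
  refine ⟨h1, ?_⟩
  have h3 := Subgroup.relIndex_mul_index (le_sup_right : ι.range ≤ H ⊔ ι.range)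
  rw [h2, ← h1, sq] at h3
  exact mul_left_cancel₀ (fun h => Subgroup.FiniteIndex.index_ne_zero (H := ι.range)
    (by rw [← h1, h]; rfl)) h3

/-- `dim W = |H| · dim W^H`. -/
theorem finrank_eq_invariants_mul [IsAlgClosed k] (T : IsTheta ι) {W : Type w} [AddCommGroup W]
    [Module k W] [FiniteDimensional k W] {σ : Representation k Γ W} (hσ : WeightOne ι σ)
    {H : Subgroup Γ} (hH : H ⊓ ι.range = ⊥)
    (hmax : ∀ H' : Subgroup Γ, H' ⊓ ι.range = ⊥ → H ≤ H' → H' = H) :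
    Module.finrank k W = Nat.card H * Module.finrank k (Representation.invariants (σ.comp H.subtype)) := by
  classical
  have := T.fin
  have := T.range_normal
  have : ι.range.FiniteIndex := Subgroup.finiteIndex_of_finite_quotient
  obtain ⟨hsq, hidx⟩ := card_sq T hH hmax
  have hJ := centralizer_eq_sup T hH hmax
  set J := H ⊔ ι.range
  have : J.FiniteIndex := Subgroup.finiteIndex_of_le le_sup_right
  have : Fintype (Γ ⧸ J) := Subgroup.fintypeQuotientOfFiniteIndex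
  have hcard : Nat.card H ≠ 0 := fun h => Subgroup.FiniteIndex.index_ne_zero (H := ι.range)
    (by rw [← hsq, h]; rfl)
  have hcardk : (Nat.card H : k) ≠ 0 := fun h => T.card_ne (by
    rw [← Subgroup.index_eq_card, ← hsq, Nat.cast_pow, h]; simp)
  have : Finite H := Nat.finite_of_card_ne_zero hcard
  have := Fintype.ofFinite H
  set U := Representation.invariants (σ.comp H.subtype)
  let e : W →ₗ[k] W := (Nat.card H : k)⁻¹ • ∑ h : H, σ h.1
  have he_apply : ∀ w, e w = (Nat.card H : k)⁻¹ • ∑ h : H, σ h.1 w := fun w => by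
    simp [e, LinearMap.sum_apply]
  have heH : ∀ (h : H) w, e (σ h.1 w) = e w := fun h w => by
    rw [he_apply, he_apply]
    congr 1
    exact Fintype.sum_equiv (Equiv.mulRight h) _ _ fun x => (rho_mul_apply σ x.1 h.1 w).symm
  have hHe : ∀ (h : H) w, σ h.1 (e w) = e w := fun h w => by
    rw [he_apply, map_smul, map_sum]
    congr 1
    exact Fintype.sum_equiv (Equiv.mulLeft h) _ _ fun x => (rho_mul_apply σ h.1 x.1 w).symm
  have hemem : ∀ w, e w ∈ U := fun w => (Representation.mem_invariants _ _).mpr fun h => hHe h w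
  have heU : ∀ u ∈ U, e u = u := fun u hu => by
    rw [he_apply, Finset.sum_congr rfl fun (h : H) _ =>
      (show σ h.1 u = u from (Representation.mem_invariants _ _).mp hu h), Finset.sum_const,
      Finset.card_univ, ← Nat.card_eq_fintype_card, ← Nat.cast_smul_eq_nsmul k, inv_smul_smul₀ hcardk]
  have hzero : ∀ g ∉ J, ∀ u ∈ U, e (σ g u) = 0 := by
    intro g hg u hu
    obtain ⟨h, hc⟩ : ∃ h : H, T.c g h.1 ≠ 1 := by
      by_contra! hcon
      refine hg ?_
      rw [hJ, Subgroup.mem_centralizer_iff]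
      intro y hy
      obtain ⟨a, ha, _, ⟨z, rfl⟩, rfl⟩ := Subgroup.mem_sup_of_normal_right.mp hy
      rw [eq_comm, ← T.c_eq_one_iff, T.c_mul_right, show T.c g a = 1 from hcon ⟨a, ha⟩,
        T.c_eq_one_iff.mpr (T.mem_range_comm z g).symm, one_mul]
    have h1 : e (σ g u) = (T.c g h.1 : k) • e (σ g u) := by
      conv_lhs => rw [← (Representation.mem_invariants _ _).mp hu h]
      show e (σ g (σ h.1 u)) = _
      rw [← rho_mul_apply, T.mul_eq g h.1, rho_mul_apply, hσ, map_smul, rho_mul_apply, heH]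
    have h2 : ((T.c g h.1 : k) - 1) • e (σ g u) = 0 := by rw [sub_smul, one_smul, ← h1, sub_self]
    exact (smul_eq_zero.mp h2).resolve_left fun h3 => hc (Units.ext (by
      rw [Units.val_one]; exact sub_eq_zero.mp h3))
  have hsum : ∀ w, ∑ q : Γ ⧸ J, σ q.out (e (σ q.out⁻¹ w)) = w := by
    intro w
    have h1 : ∀ q : Γ ⧸ J, σ q.out (e (σ q.out⁻¹ w)) =
        (Nat.card H : k)⁻¹ • ∑ h : H, (T.c q.out h.1 : k) • σ h.1 w := fun q => by
      rw [he_apply, map_smul, map_sum]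
      simp only [rho_conj T hσ]
    rw [Finset.sum_congr rfl fun q _ => h1 q, ← Finset.smul_sum, Finset.sum_comm]
    simp only [← Finset.sum_smul]
    rw [Finset.sum_eq_single (1 : H) ?_ (by simp)]
    · simp only [OneMemClass.coe_one, map_one, Module.End.one_apply]
      rw [Finset.sum_congr rfl fun q _ => show ((T.c q.out 1 : k)) = 1 by
          rw [T.c_eq_one_iff.mpr (by simp), Units.val_one],
        Finset.sum_const, Finset.card_univ, ← Nat.card_eq_fintype_card, ← Subgroup.index_eq_card, hidx,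
        nsmul_one, smul_smul, inv_mul_cancel₀ hcardk, one_smul]
    · intro h _ hne
      obtain ⟨g, hg⟩ := T.exists_c_ne_one (h := h.1) fun hr => hne (Subtype.ext (by
        have : h.1 ∈ H ⊓ ι.range := ⟨h.2, hr⟩
        rwa [hH, Subgroup.mem_bot] at this))
      rw [show (∑ q : Γ ⧸ J, (T.c q.out h.1 : k)) = 0 from sum_char_eq_zero J (T.cL h.1) (fun j hj =>
        T.c_eq_one_iff.mpr (by
          rw [hJ] at hj
          exact (Subgroup.mem_centralizer_iff.mp hj _ (Subgroup.mem_sup_left h.2)).symm)) hg, zero_smul]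
  let Φ : W →ₗ[k] ((Γ ⧸ J) → U) :=
    LinearMap.pi fun q => LinearMap.codRestrict U (e ∘ₗ σ q.out⁻¹) fun w => hemem _
  let Ψ : ((Γ ⧸ J) → U) →ₗ[k] W := ∑ q, σ q.out ∘ₗ U.subtype ∘ₗ LinearMap.proj q
  have hΨ : ∀ f, Ψ f = ∑ q, σ q.out (f q).1 := fun f => by simp [Ψ, LinearMap.sum_apply]
  let E : W ≃ₗ[k] ((Γ ⧸ J) → U) := LinearEquiv.ofLinear Φ Ψ
    (LinearMap.ext fun f => funext fun q => Subtype.ext (by
      show e (σ q.out⁻¹ (Ψ f)) = (f q).1
      rw [hΨ, map_sum, map_sum, Finset.sum_eq_single q ?_ (by simp), rho_inv_apply, heU _ (f q).2]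
      intro r _ hr
      rw [← rho_mul_apply]
      refine hzero _ (fun h => hr ?_) _ (f r).2
      rw [← QuotientGroup.out_eq' r, ← QuotientGroup.out_eq' q]
      exact (QuotientGroup.eq.mpr h).symm))
    (LinearMap.ext fun w => by
      show Ψ (Φ w) = w
      rw [hΨ]
      exact hsum w)
  rw [E.finrank_eq, Module.finrank_pi_fintype, Finset.sum_const, Finset.card_univ,
    ← Nat.card_eq_fintype_card, ← Subgroup.index_eq_card, hidx, smul_eq_mul]

end Groth.Agent.ThetaLib
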