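import Groth.Agent.ThetaLib.Level
import Groth.Agent.ThetaLib.BC
import Groth.Agent.FamilyDesc.Effective
import Groth.Agent.PullbackMod.LimFree
import Groth.Agent.CurveLib.DegTensor
import Groth.Agent.VBLib.Point

/-!
# Descent of an invertible module along a homomorphism from a multiplicative lift of the kernel

A lift of the kernel to the theta group moves every morphism to the module along the fibres of the homomorphism; this is
a descent datum.
-/

set_option autoImplicit false
set_option backward.isDefEq.respectTransparency false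
set_option backward.defeqAttrib.useBackward true
set_option linter.style.haveILetI false

universe u

open CategoryTheory CategoryTheory.Limits MonoidalCategory CartesianMonoidalCategory MonObj AlgebraicGeometry
open Pseudofunctor Bicategory
open Groth.Agent

noncomputable section

namespace Groth.Agent.ThetaLib

open ThetaGrp

variable {S : Scheme.{u}} {A B : Over S} [GrpObj A] [GrpObj B] {f : A ⟶ B} {N : Over S} [GrpObj N] {i : N ⟶ A}
  {L : A.left.Modules}

/-- A multiplicative choice of lifts of the kernel. -/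
structure KerLift (i : N ⟶ A) (L : A.left.Modules) where
  /-- The lifts. -/
  pt : ∀ {T : Over S}, (T ⟶ N) → thetaPts A L T
  isOver : ∀ {T : Over S} (n : T ⟶ N), IsOverPt (pt n) (n ≫ i)
  nat : ∀ {V T : Over S} (r : V ⟶ T) (n : T ⟶ N), IsBaseChange (pt (r ≫ n)) r (pt n)
  mul : ∀ {T : Over S} (n m : T ⟶ N), pt (n * m) = pt n * pt m

theorem bc_trans {V T G : Over S} {r : V ⟶ T} {g : T ⟶ G} {u : thetaPts A L G} {β : thetaPts A L T}
    {β' : thetaPts A L V} (h : IsBaseChange β' r β) (h' : IsBaseChange β g u) : IsBaseChange β' (r ≫ g) u := by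
  show β'.1.hom ≫ _ = _
  rw [bcLift_comp, ← Category.assoc, h, Category.assoc, h', ← Category.assoc]

/-- A homomorphism to the theta group over the inclusion of the kernel gives such lifts. -/
theorem exists_kerLift [IsCommMonObj A] [IsMonHom i] {G : Over S} [GrpObj G] {u : thetaPts A L G}
    (hG : IsThetaGrpSch A L G u) (j : N ⟶ G) [IsMonHom j]
    (hover : ∀ (T : Over S) (n : T ⟶ N) (β : thetaPts A L T), IsBaseChange β (n ≫ j) u → IsOverPt β (n ≫ i)) :
    Nonempty (KerLift i L) := by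
  have hex := fun {T : Over S} (n : T ⟶ N) => (hG.exists_bc T (n ≫ j))
  let pt := fun {T : Over S} (n : T ⟶ N) => (hex n).choose
  have hpt : ∀ {T : Over S} (n : T ⟶ N), IsBaseChange (pt n) (n ≫ j) u := fun n => (hex n).choose_spec.1
  refine ⟨⟨pt, fun n => hover _ n _ (hpt n), fun {V T} r n => ?_, fun {T} n m => ?_⟩⟩
  · obtain ⟨b, hb, hbc⟩ := exists_bc_pt r (hover T n _ (hpt n))
    have h := bc_trans hbc (hpt n)
    rw [← Category.assoc] at h
    rw [(hex (r ≫ n)).unique (hpt (r ≫ n)) h]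
    exact hbc
  · refine (hex (n * m)).unique (hpt (n * m)) ?_
    rw [MonObj.mul_comp]
    exact hG.mul T _ _ _ _ (hpt n) (hpt m)

variable [IsMonHom f] [IsCommMonObj A] [IsMonHom i] (hN : AlgGrp.IsKernel i f) (K : KerLift i L)

include hN in
theorem exists_move {Z : CoGrothendieck (modPF.{u})} (h : Z ⟶ baseObj A L) (b : Z.base ⟶ A.left)
    (e : h.base ≫ f.left = b ≫ f.left) :
    ∃ g : Z ⟶ baseObj A L, g.base = b ∧ ∀ {T : Over S} (n : T ⟶ N) (s : Z ⟶ thetaObj A L T),
      s ≫ proj A L T = h → (s.base ≫ (transl A (n ≫ i)).left ≫ (fst A T).left) = b →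
        g = s ≫ (K.pt n).1.hom ≫ proj A L T := by
  let Z' : Over S := Over.mk (h.base ≫ A.hom)
  let z : Z' ⟶ A := Over.homMk h.base rfl
  let z' : Z' ⟶ A := Over.homMk b (by
    show b ≫ A.hom = h.base ≫ A.hom
    rw [← Over.w f, ← Category.assoc, ← e, Category.assoc])
  have hm : (z' * z⁻¹) ≫ f = 1 := by
    rw [MonObj.mul_comp, show z' ≫ f = z ≫ f from Over.OverMorphism.ext e.symm, ← MonObj.mul_comp, mul_inv_cancel,
      MonObj.one_comp]
  let n₀ : Z' ⟶ N := hN.lift (z' * z⁻¹) (toUnit Z') (by rw [hm, Hom.one_def])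
  have hn₀ : n₀ ≫ i = z' * z⁻¹ := hN.lift_fst _ _ _
  obtain ⟨s₀, hsb, hs, -⟩ := exists_lift (proj A L Z') h (lift z (𝟙 Z')).left (by
    show (lift z (𝟙 Z')).left ≫ (fst A Z').left = z.left
    rw [← Over.comp_left, lift_fst])
  refine ⟨s₀ ≫ (K.pt n₀).1.hom ≫ proj A L Z', ?_, fun {T} n s hse hsn => ?_⟩
  · show s₀.base ≫ (K.pt n₀).1.hom.base ≫ (fst A Z').left = z'.left
    rw [hsb, K.isOver n₀, ← Over.comp_left, ← Over.comp_left]
    congr 1
    simp [transl, MonObj.comp_mul, hn₀]
  · have hb1 : s.base ≫ (fst A T).left = h.base := congrArg CoGrothendieck.Hom.base hse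
    let r : Z' ⟶ T := Over.homMk (s.base ≫ (snd A T).left) (by
      show (s.base ≫ (snd A T).left) ≫ T.hom = h.base ≫ A.hom
      rw [← hb1, Category.assoc, Category.assoc, Over.w, Over.w])
    let q : Z' ⟶ A ⊗ T := Over.homMk s.base (by
      show s.base ≫ (A ⊗ T).hom = h.base ≫ A.hom
      rw [← hb1, Category.assoc, Over.w])
    have hq : q = lift z r := CartesianMonoidalCategory.hom_ext _ _
      (by rw [lift_fst]; exact Over.OverMorphism.ext hb1) (by rw [lift_snd]; exact Over.OverMorphism.ext rfl)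
    have hnn : r ≫ n = n₀ := by
      refine hN.hom_ext ?_ (Subsingleton.elim _ _)
      rw [hn₀, eq_mul_inv_iff_mul_eq]
      have h2 : q ≫ transl A (n ≫ i) ≫ fst A T = z' := Over.OverMorphism.ext hsn
      rw [hq] at h2
      simp [transl, MonObj.comp_mul] at h2
      rw [← h2, Category.assoc, _root_.mul_comm]
    have hss : s = s₀ ≫ bcLift A L r := by
      refine lift_unique (proj A L T) ?_ ?_
      · show q.left = s₀.base ≫ (A ◁ r).left
        rw [hsb, ← Over.comp_left, hq]
        congr 1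
        apply CartesianMonoidalCategory.hom_ext <;> simp
      · rw [hse, Category.assoc, bcLift_proj, hs]
    have hnat : (K.pt n₀).1.hom ≫ bcLift A L r = bcLift A L r ≫ (K.pt n).1.hom := hnn ▸ K.nat r n
    rw [hss, Category.assoc, ← Category.assoc (bcLift A L r), ← hnat, Category.assoc, bcLift_proj]

/-- The transported morphism. -/
def move {Z : CoGrothendieck (modPF.{u})} (h : Z ⟶ baseObj A L) (b : Z.base ⟶ A.left)
    (e : h.base ≫ f.left = b ≫ f.left) : Z ⟶ baseObj A L := (exists_move hN K h b e).choose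

theorem move_base {Z : CoGrothendieck (modPF.{u})} (h : Z ⟶ baseObj A L) (b : Z.base ⟶ A.left)
    (e : h.base ≫ f.left = b ≫ f.left) : (move hN K h b e).base = b := (exists_move hN K h b e).choose_spec.1

theorem move_eq {Z : CoGrothendieck (modPF.{u})} (h : Z ⟶ baseObj A L) (b : Z.base ⟶ A.left)
    (e : h.base ≫ f.left = b ≫ f.left) {T : Over S} (n : T ⟶ N) (s : Z ⟶ thetaObj A L T)
    (hs : s ≫ proj A L T = h) (hn : s.base ≫ (transl A (n ≫ i)).left ≫ (fst A T).left = b) :
    move hN K h b e = s ≫ (K.pt n).1.hom ≫ proj A L T := (exists_move hN K h b e).choose_spec.2 n s hs hn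

/-- Data for a transport. -/
theorem exists_data {Z : CoGrothendieck (modPF.{u})} (h : Z ⟶ baseObj A L) (b : Z.base ⟶ A.left)
    (e : h.base ≫ f.left = b ≫ f.left) (hN : AlgGrp.IsKernel i f) :
    ∃ (T : Over S) (n : T ⟶ N) (s : Z ⟶ thetaObj A L T), s ≫ proj A L T = h ∧
      s.base ≫ (transl A (n ≫ i)).left ≫ (fst A T).left = b := by
  let Z' : Over S := Over.mk (h.base ≫ A.hom)
  let z : Z' ⟶ A := Over.homMk h.base rfl
  let z' : Z' ⟶ A := Over.homMk b (by
    show b ≫ A.hom = h.base ≫ A.hom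
    rw [← Over.w f, ← Category.assoc, ← e, Category.assoc])
  have hm : (z' * z⁻¹) ≫ f = 1 := by
    rw [MonObj.mul_comp, show z' ≫ f = z ≫ f from Over.OverMorphism.ext e.symm, ← MonObj.mul_comp, mul_inv_cancel,
      MonObj.one_comp]
  obtain ⟨s₀, hsb, hs, -⟩ := exists_lift (proj A L Z') h (lift z (𝟙 Z')).left (by
    show (lift z (𝟙 Z')).left ≫ (fst A Z').left = z.left
    rw [← Over.comp_left, lift_fst])
  refine ⟨Z', hN.lift (z' * z⁻¹) (toUnit Z') (by rw [hm, Hom.one_def]), s₀, hs, ?_⟩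
  show _ = z'.left
  rw [hsb, ← Over.comp_left, ← Over.comp_left, hN.lift_fst]
  congr 1
  simp [transl, MonObj.comp_mul]

theorem move_congr {Z : CoGrothendieck (modPF.{u})} {h h' : Z ⟶ baseObj A L} (eh : h = h') {b b' : Z.base ⟶ A.left}
    (eb : b = b') (e : h.base ≫ f.left = b ≫ f.left) (e' : h'.base ≫ f.left = b' ≫ f.left) :
    move hN K h b e = move hN K h' b' e' := by
  subst eh eb
  rfl

theorem comp_move {Z' Z : CoGrothendieck (modPF.{u})} (q : Z' ⟶ Z) (h : Z ⟶ baseObj A L) (b : Z.base ⟶ A.left)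
    (e : h.base ≫ f.left = b ≫ f.left) (e' : (q ≫ h).base ≫ f.left = (q.base ≫ b) ≫ f.left) :
    q ≫ move hN K h b e = move hN K (q ≫ h) (q.base ≫ b) e' := by
  obtain ⟨T, n, s, hs, hn⟩ := exists_data h b e hN
  rw [move_eq hN K h b e n s hs hn, move_eq hN K (q ≫ h) (q.base ≫ b) e' n (q ≫ s) (by rw [Category.assoc, hs])
    (by rw [CoGrothendieck.categoryStruct_comp_base, Category.assoc]; exact congrArg (q.base ≫ ·) hn)]
  simp only [Category.assoc]

theorem move_self {Z : CoGrothendieck (modPF.{u})} (h : Z ⟶ baseObj A L) (e : h.base ≫ f.left = h.base ≫ f.left) :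
    move hN K h h.base e = h := by
  obtain ⟨T, -, s, hs, -⟩ := exists_data h h.base e hN
  have hb1 : s.base ≫ (fst A T).left = h.base := congrArg CoGrothendieck.Hom.base hs
  have h1 : K.pt (1 : T ⟶ N) = 1 := by
    have := K.mul (1 : T ⟶ N) 1
    rwa [_root_.mul_one, left_eq_mul] at this
  rw [move_eq hN K h h.base e (1 : T ⟶ N) s hs (by
    rw [MonObj.one_comp, transl_one, Over.id_left, Category.id_comp, hb1]), h1]
  show s ≫ 𝟙 _ ≫ proj A L T = h
  rw [Category.id_comp, hs]

set_option maxHeartbeats 1000000 in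
theorem move_trans {Z : CoGrothendieck (modPF.{u})} (h : Z ⟶ baseObj A L) (b c : Z.base ⟶ A.left)
    (e : h.base ≫ f.left = b ≫ f.left) (e₂ : (move hN K h b e).base ≫ f.left = c ≫ f.left)
    (e₃ : h.base ≫ f.left = c ≫ f.left) :
    move hN K (move hN K h b e) c e₂ = move hN K h c e₃ := by
  obtain ⟨T, n, s, hs, hn⟩ := exists_data h b e hN
  obtain ⟨Tc, nc, sc, hsc, hnc⟩ := exists_data h c e₃ hN
  have hb1 : s.base ≫ (fst A T).left = h.base := congrArg CoGrothendieck.Hom.base hs
  -- express the second difference on the first base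
  let Z' : Over S := Over.mk (s.base ≫ (A ⊗ T).hom)
  let q : Z' ⟶ A ⊗ T := Over.homMk s.base rfl
  let c' : Z' ⟶ A := Over.homMk c (by
    show c ≫ A.hom = s.base ≫ (A ⊗ T).hom
    rw [← Over.w f, ← Category.assoc, ← e₃, Category.assoc, Over.w, ← hb1, Category.assoc, Over.w])
  let z : Z' ⟶ A := q ≫ fst A T
  let r : Z' ⟶ T := q ≫ snd A T
  let m₁ : Z' ⟶ A := r ≫ n ≫ i
  have hm : (c' * (z * m₁)⁻¹) ≫ f = 1 := by
    have h1 : c' ≫ f = z ≫ f := Over.OverMorphism.ext (by
      show c ≫ f.left = (s.base ≫ (fst A T).left) ≫ f.left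
      rw [hb1, e₃])
    have h2 : m₁ ≫ f = 1 := by
      simp only [m₁, Category.assoc, hN.w]
      rw [← Hom.one_def]
      simp [MonObj.comp_one]
    rw [MonObj.mul_comp, GrpObj.inv_comp, MonObj.mul_comp, h1, h2, _root_.mul_one, mul_inv_cancel]
  let n₂ : Z' ⟶ N := hN.lift (c' * (z * m₁)⁻¹) (toUnit Z') (by rw [hm, Hom.one_def])
  have hn₂ : n₂ ≫ i = c' * (z * m₁)⁻¹ := hN.lift_fst _ _ _
  obtain ⟨s', hs'b, hs', -⟩ := exists_lift (bcLift A L r) s (lift z (𝟙 Z')).left (by
    show (lift z (𝟙 Z')).left ≫ (A ◁ r).left = q.left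
    rw [← Over.comp_left]
    congr 1
    apply CartesianMonoidalCategory.hom_ext <;> simp [z, r])
  have hsp : s' ≫ proj A L Z' = h := by rw [← bcLift_proj A L r, ← Category.assoc, hs', hs]
  have hz : (lift z (𝟙 Z') : Z' ⟶ A ⊗ Z') ≫ transl A (r ≫ n ≫ i) = lift (z * m₁) (𝟙 Z') := by
    apply CartesianMonoidalCategory.hom_ext <;> simp [transl, MonObj.comp_mul, m₁]
  have hmove : move hN K h b e = (s' ≫ (K.pt (r ≫ n)).1.hom) ≫ proj A L Z' := by
    rw [move_eq hN K h b e n s hs hn, ← hs']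
    simp only [Category.assoc]
    rw [← Category.assoc (bcLift A L r), ← K.nat r n, Category.assoc, bcLift_proj]
  rw [move_eq hN K (move hN K h b e) c e₂ n₂ (s' ≫ (K.pt (r ≫ n)).1.hom) hmove.symm (by
      show (s'.base ≫ (K.pt (r ≫ n)).1.hom.base) ≫ _ = c'.left
      rw [hs'b, K.isOver (r ≫ n), ← Over.comp_left, ← Over.comp_left, ← Over.comp_left, Category.assoc r, hz]
      congr 1
      simp [transl, MonObj.comp_mul, hn₂]
      rw [_root_.mul_left_comm, _root_.mul_assoc z, mul_inv_cancel_left, mul_inv_cancel, _root_.mul_one]),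
    move_eq hN K h c e₃ (n₂ * (r ≫ n)) s' hsp (by
      show s'.base ≫ _ = c'.left
      rw [hs'b, ← Over.comp_left, ← Over.comp_left]
      congr 1
      simp only [transl, lift_fst, MonObj.comp_mul, lift_snd_assoc, Category.id_comp, MonObj.mul_comp, Category.assoc, hn₂]
      show z * (c' * (z * m₁)⁻¹ * m₁) = c'
      rw [_root_.mul_inv, _root_.mul_assoc c', inv_mul_cancel_right, _root_.mul_left_comm, mul_inv_cancel,
        _root_.mul_one]), K.mul, mul_hom', Category.assoc, Category.assoc]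
  simp only [Category.assoc]
where
  mul_hom' {T : Over S} (α β : thetaPts A L T) : (α * β).1.hom = β.1.hom ≫ α.1.hom := rfl

/-- The module part of a morphism over a given map. -/
def fib {T : Scheme.{u}} {M : T.Modules} (P : pr T M ⟶ baseObj A L) {b : T ⟶ A.left} (hP : P.base = b) :
    M ⟶ (Scheme.Modules.pullback b).obj L :=
  P.fiber ≫ (Scheme.Modules.pullbackCongr hP).hom.app L

theorem mor_fib {T : Scheme.{u}} {M : T.Modules} (P : pr T M ⟶ baseObj A L) {b : T ⟶ A.left} (hP : P.base = b) :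
    mor (pr T M) (baseObj A L) b (fib P hP) = P := by
  subst hP
  refine CoGrothendieck.Hom.ext _ _ rfl ?_
  simp [fib, Scheme.Modules.pullbackCongr]

theorem fib_congr {T : Scheme.{u}} {M : T.Modules} {P Q : pr T M ⟶ baseObj A L} (h : P = Q) {b : T ⟶ A.left}
    (hP : P.base = b) (hQ : Q.base = b) : fib P hP = fib Q hQ := by
  subst h
  rfl

theorem fib_eq {T : Scheme.{u}} {M : T.Modules} (P : pr T M ⟶ baseObj A L) {b : T ⟶ A.left} (hP : P.base = b)
    (φ : M ⟶ (Scheme.Modules.pullback b).obj L) (h : P = mor (pr T M) (baseObj A L) b φ) : fib P hP = φ := by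
  subst h
  simp [fib, Scheme.Modules.pullbackCongr]

/-- A morphism preceded by a map of modules. -/
theorem vert_comp {T : Scheme.{u}} {M M' : T.Modules} (θ : M ⟶ M') (P : pr T M' ⟶ baseObj A L) {b : T ⟶ A.left}
    (hP : P.base = b) :
    (⟨𝟙 T, θ ≫ (𝟙 (pr T M') : pr T M' ⟶ pr T M').fiber⟩ : pr T M ⟶ pr T M') ≫ P =
      mor (pr T M) (baseObj A L) b (θ ≫ fib P hP) := by
  subst hP
  refine CoGrothendieck.Hom.ext _ _ (Category.id_comp _) ?_
  have h := fiber_congr (Category.id_comp P)
  rw [comp_fiber] at h ⊢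
  simp [fib, Scheme.Modules.pullbackCongr, Category.assoc]
  refine congrArg (θ ≫ ·) (h.trans ?_)
  simp

/-- A morphism preceded by the canonical one. -/
theorem cart_comp {T T' : Scheme.{u}} (g : T' ⟶ T) {a : T ⟶ A.left} {a' : T' ⟶ A.left} (ha : g ≫ a = a')
    (P : pr T ((Scheme.Modules.pullback a).obj L) ⟶ baseObj A L) {b : T ⟶ A.left} (hP : P.base = b) {b' : T' ⟶ A.left}
    (hb : g ≫ b = b') :
    (mor (pr T' ((Scheme.Modules.pullback a').obj L)) (pr T ((Scheme.Modules.pullback a).obj L)) g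
        (FpqcQCoh.cmpIso L g ha).inv) ≫ P =
      mor (pr T' ((Scheme.Modules.pullback a').obj L)) (baseObj A L) b'
        ((FpqcQCoh.cmpIso L g ha).inv ≫ (Scheme.Modules.pullback g).map (fib P hP) ≫ (FpqcQCoh.cmpIso L g hb).hom) := by
  subst hP hb
  refine CoGrothendieck.Hom.ext _ _ rfl ?_
  rw [comp_fiber]
  simp [fib, FpqcQCoh.cmpIso, Scheme.Modules.pullbackCongr]

/-- The gluing system of the transport. -/
def sys [Coh.IsQCoh L] : FamilyDesc.Sys (fun _ : PUnit.{u + 1} => f.left) where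
  obj _ := L
  qcoh _ := inferInstance
  θ T _ _ _ a b ea eb :=
    fib (move hN K (Z := pr T ((Scheme.Modules.pullback a).obj L)) (cartMor a L) b (ea.trans eb.symm))
      (move_base hN K (cartMor a L) b (ea.trans eb.symm))
  natural T T' g h h' eh _ _ a b ea eb a' b' ha hb ea' eb' := by
    rw [FpqcQCoh.vMap, FpqcQCoh.vMap, ← Adjunction.homEquiv_naturality_left, ← Adjunction.homEquiv_naturality_right]
    refine congrArg _ ?_
    let q : pr T' ((Scheme.Modules.pullback a').obj L) ⟶ pr T ((Scheme.Modules.pullback a).obj L) :=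
      mor _ _ g (FpqcQCoh.cmpIso L g ha).inv
    have hq : q ≫ cartMor a L = cartMor a' L := by
      refine CoGrothendieck.Hom.ext _ _ ha ?_
      rw [comp_fiber]
      subst ha
      simp [q, FpqcQCoh.cmpIso, Scheme.Modules.pullbackCongr]
    have e₁ : (q ≫ cartMor a L).base ≫ f.left = (q.base ≫ b) ≫ f.left := by
      show (g ≫ a) ≫ f.left = (g ≫ b) ≫ f.left
      rw [Category.assoc, Category.assoc, ea, eb]
    have e₂ : (cartMor a' L).base ≫ f.left = b' ≫ f.left := ea'.trans eb'.symm
    have key : q ≫ move hN K (cartMor a L) b (ea.trans eb.symm) = move hN K (cartMor a' L) b' e₂ :=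
      (comp_move hN K q (cartMor a L) b _ e₁).trans (move_congr hN K hq hb _ _)
    rw [← Iso.inv_comp_eq]
    exact (fib_eq _ _ _ (key.symm.trans (cart_comp g ha _ (move_base hN K (cartMor a L) b (ea.trans eb.symm)) hb))).symm
  θ_self T _ _ a e := by
    refine fib_eq _ _ _ ?_
    exact move_self hN K (cartMor a L) rfl
  θ_comp T _ _ _ _ a b c ea eb ec := by
    let P₁ := move hN K (Z := pr T ((Scheme.Modules.pullback a).obj L)) (cartMor a L) b (ea.trans eb.symm)
    let θ := fib P₁ (move_base hN K (cartMor a L) b (ea.trans eb.symm))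
    let q : pr T ((Scheme.Modules.pullback a).obj L) ⟶ pr T ((Scheme.Modules.pullback b).obj L) :=
      ⟨𝟙 T, θ ≫ (𝟙 (pr T ((Scheme.Modules.pullback b).obj L)) : pr T ((Scheme.Modules.pullback b).obj L) ⟶ _).fiber⟩
    have hq : q ≫ cartMor b L = P₁ := by
      refine (vert_comp θ (cartMor b L) rfl).trans ?_
      rw [fib_eq (cartMor b L) rfl (𝟙 _) rfl, Category.comp_id]
      exact mor_fib P₁ _
    have e₂ : P₁.base ≫ f.left = c ≫ f.left := by rw [move_base]; exact eb.trans ec.symm
    have e₁ : (q ≫ cartMor b L).base ≫ f.left = (q.base ≫ c) ≫ f.left := by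
      show (𝟙 T ≫ b) ≫ f.left = (𝟙 T ≫ c) ≫ f.left
      rw [Category.id_comp, Category.id_comp]; exact eb.trans ec.symm
    have key : q ≫ move hN K (cartMor b L) c (eb.trans ec.symm) = move hN K (cartMor a L) c (ea.trans ec.symm) :=
      (comp_move hN K q (cartMor b L) c _ e₁).trans
        ((move_congr hN K hq (Category.id_comp c) _ e₂).trans (move_trans hN K (cartMor a L) b c (ea.trans eb.symm) e₂ (ea.trans ec.symm)))
    exact (fib_eq _ _ _ (key.symm.trans (vert_comp θ _ (move_base hN K (cartMor b L) c (eb.trans ec.symm))))).symm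

include hN K in
/-- The module descends. -/
theorem exists_descended_module (hL : PicF.IsInvertible L) [Flat f.left] [Surjective f.left] [QuasiCompact f.left] :
    ∃ M : B.left.Modules, PicF.IsInvertible M ∧ Nonempty ((Scheme.Modules.pullback f.left).obj M ≅ L) := by
  haveI : Coh.IsQCoh L := InvExt.isQCoh_of_isInvertible hL
  let D := sys hN K
  have hf : Presieve.ofArrows (fun _ : PUnit.{u + 1} => A.left) (fun _ => f.left) ∈ Scheme.fpqcPrecoverage B.left := by
    rw [Presieve.ofArrows_pUnit]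
    exact Scheme.Hom.singleton_mem_fpqcPrecoverage _
  haveI : IsIso (FamilyDesc.ψ D PUnit.unit) := FamilyDesc.isIso_ψ D hf PUnit.unit
  haveI : Coh.IsQCoh (FamilyDesc.glued D) := FamilyDesc.isQCoh_glued D hf
  let M := FamilyDesc.glued D
  let e : (Scheme.Modules.pullback f.left).obj M ≅ L := asIso (FamilyDesc.ψ D PUnit.unit)
  have hr : FlatMod.IsFinLocFreeOfRank 1 ((Scheme.Modules.pullback f.left).obj M) :=
    CurveLib.isFinLocFreeOfRank_one (ParaFLib.isInvertible_of_iso e.symm hL)
  have hF : FlatMod.IsFinLocFree M := PullbackMod.isFinLocFree_descent f.left M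
    (fun W hW => PullbackMod.hasAffineLift_of_quasiCompact f.left hW) fun x => ⟨(hr x).choose, 1, (hr x).choose_spec⟩
  have hfp := ((PullbackMod.isFinLocFree_iff M).1 hF).2.1
  haveI := PullbackMod.isQCoh_pullback f.left M
  refine ⟨M, VBLib.isInvertible_of_rank ((PullbackMod.isFinLocFreeOfRank_iff_freeAt M hfp 1).2 fun x => ?_), ⟨e⟩⟩
  obtain ⟨x', rfl⟩ := f.left.surjective x
  obtain ⟨n, hn⟩ := (PullbackMod.isFinLocFree_iff_freeAt M hfp).1 hF (f.left x')
  obtain rfl : n = 1 := PullbackMod.freeAt_unique _ (PullbackMod.freeAt_pullback M f.left x' hn)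
    ((PullbackMod.isFinLocFreeOfRank_iff_freeAt _ (PullbackMod.isFP_pullback f.left M hfp) 1).1 hr x')
  exact hn

end Groth.Agent.ThetaLib
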