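import Groth.Agent.ThetaLib.Basic
import Groth.Agent.AVLib.KL

/-!
# Points of `K(L)` and points of the theta group

A point factors through `K(L)` exactly when, locally on the base, the translation by it lifts to the theta group.
-/

set_option autoImplicit false
set_option backward.isDefEq.respectTransparency false
set_option linter.style.haveILetI false

universe u

open CategoryTheory CategoryTheory.Limits MonoidalCategory CartesianMonoidalCategory MonObj AlgebraicGeometry
open Groth.Agent.PicLib Groth.Agent.AVLib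

noncomputable section

namespace Groth.Agent.ThetaLib

variable {k : Type u} [Field k] {A T : Over (Spec (CommRingCat.of k))} [GrpObj A] {L : A.left.Modules}

theorem isIso_transl (x : T ⟶ A) : IsIso (ThetaGrp.transl A x) :=
  ⟨ThetaGrp.transl A x⁻¹, by rw [← ThetaGrp.transl_mul, mul_inv_cancel, ThetaGrp.transl_one],
    by rw [← ThetaGrp.transl_mul, inv_mul_cancel, ThetaGrp.transl_one]⟩

/-- The translated module is the inverse image along the translated projection. -/
def translIso (x : T ⟶ A) :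
    (Scheme.Modules.pullback (ThetaGrp.transl A x).left).obj ((Scheme.Modules.pullback (fst A T).left).obj L) ≅
      (Scheme.Modules.pullback (fst A T * (snd A T ≫ x)).left).obj L :=
  (Scheme.Modules.pullbackComp (ThetaGrp.transl A x).left (fst A T).left).app L ≪≫
    (Scheme.Modules.pullbackCongr (by rw [← Over.comp_left, ThetaGrp.transl_fst])).app L

/-- A lift of the translation makes the class invariant. -/
theorem pull_eq_of_isOverPt (hL : PicF.IsInvertible L) {x : T ⟶ A} {β : ThetaGrp.thetaPts A L T}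
    (h : ThetaGrp.IsOverPt β x) :
    pull (fst A T).left (cls hL) = pull (fst A T * (snd A T ≫ x)).left (cls hL) := by
  haveI : IsIso β.1.hom.fiber := isIso_fiber β.1.hom
  rw [pull_cls, pull_cls, cls_eq_cls]
  exact ⟨(asIso β.1.hom.fiber : (Scheme.Modules.pullback (fst A T).left).obj L ≅
      (Scheme.Modules.pullback β.1.hom.base).obj _) ≪≫
    (Scheme.Modules.pullbackCongr h).app _ ≪≫ translIso x⟩

/-- An invariant class gives a lift of the translation. -/
theorem exists_isOverPt (hL : PicF.IsInvertible L) (x : T ⟶ A)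
    (h : pull (fst A T).left (cls hL) = pull (fst A T * (snd A T ≫ x)).left (cls hL)) :
    ∃ β : ThetaGrp.thetaPts A L T, ThetaGrp.IsOverPt β x := by
  rw [pull_cls, pull_cls, cls_eq_cls] at h
  obtain ⟨e⟩ := h
  let φ := e ≪≫ (translIso x).symm
  let f : ThetaGrp.thetaObj A L T ⟶ ThetaGrp.thetaObj A L T := ⟨(ThetaGrp.transl A x).left, φ.hom⟩
  haveI := isIso_transl x
  haveI : IsIso f.base := inferInstanceAs (IsIso ((Over.forget _).map (ThetaGrp.transl A x)))
  haveI : IsIso f.fiber := inferInstanceAs (IsIso φ.hom)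
  haveI : IsIso f := isIso_of_components f
  exact ⟨⟨asIso f, x, rfl⟩, rfl⟩

/-- Near every point the pullback of the class along a point is trivial. -/
theorem exists_pull_eq_one (hL : PicF.IsInvertible L) (x : T ⟶ A) (t : T.left) :
    ∃ U : T.left.Opens, t ∈ U ∧
      ∀ {V : Over (Spec (CommRingCat.of k))} (j : V ⟶ T), Set.range j.left ⊆ (U : Set T.left) →
        pull (j ≫ x).left (cls hL) = 1 := by
  obtain ⟨W, hW, ⟨e⟩⟩ := hL (x.left t)
  refine ⟨x.left ⁻¹ᵁ W, hW, fun {V} j hj => ?_⟩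
  have hr : Set.range (j ≫ x).left ⊆ Set.range W.ι := by
    rw [Scheme.Opens.range_ι]
    rintro _ ⟨v, rfl⟩
    exact hj ⟨v, rfl⟩
  rw [← IsOpenImmersion.lift_fac W.ι (j ≫ x).left hr, pull_comp]
  have h1 : pull W.ι (cls hL) = 1 := by
    rw [pull_cls, cls_eq_one]
    exact ⟨((Scheme.Modules.restrictFunctorIsoPullback W.ι).app L).symm ≪≫ e⟩
  rw [h1, map_one]

theorem pull_snd_eq_one (hL : PicF.IsInvertible L) (x : T ⟶ A) (h : pull x.left (cls hL) = 1) :
    pull (snd A T ≫ x).left (cls hL) = 1 := by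
  rw [Over.comp_left, pull_comp, h, map_one]

/-- A point factors through a closed subscheme if it does so locally. -/
theorem exists_factor {K : Over (Spec (CommRingCat.of k))} (iK : K ⟶ A) [IsClosedImmersion iK.left] (x : T ⟶ A)
    (h : ∀ t : T.left, ∃ U : T.left.Opens, t ∈ U ∧
      ∃ y : Over.mk (U.ι ≫ T.hom) ⟶ K, y ≫ iK = (Over.homMk U.ι rfl : Over.mk (U.ι ≫ T.hom) ⟶ T) ≫ x) :
    ∃ y : T ⟶ K, y ≫ iK = x := by
  choose U hU y hy using h
  let C := T.left.openCoverOfIsOpenCover U (eq_top_iff.2 fun t _ =>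
    TopologicalSpace.Opens.mem_iSup.2 ⟨t, hU t⟩)
  have hy' : ∀ t, (y t).left ≫ iK.left = (U t).ι ≫ x.left := fun t => congrArg CommaMorphism.left (hy t)
  let z : T.left ⟶ K.left := C.glueMorphisms (fun t => (y t).left) fun a b => by
    rw [← cancel_mono iK.left, Category.assoc, Category.assoc]
    refine (congrArg (pullback.fst _ _ ≫ ·) (hy' a)).trans ?_
    refine Eq.trans ?_ (congrArg (pullback.snd _ _ ≫ ·) (hy' b)).symm
    exact pullback.condition_assoc x.left
  have hz : z ≫ iK.left = x.left := C.hom_ext _ _ fun t => by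
    rw [Scheme.Cover.ι_glueMorphisms_assoc]
    exact hy' t
  refine ⟨Over.homMk z ?_, Over.OverMorphism.ext hz⟩
  rw [← Over.w iK, ← Category.assoc, hz]
  exact Over.w x

variable {K : Over (Spec (CommRingCat.of k))} {iK : K ⟶ A}

theorem factor_iff (hL : PicF.IsInvertible L) (hK : ThetaGrp.IsKL A L iK) (x : T ⟶ A) :
    (∃ y : T ⟶ K, y ≫ iK = x) ↔
      ∀ t : ↥T.left, ∃ U : T.left.Opens, t ∈ U ∧
        ∃ β : ThetaGrp.thetaPts A L (Over.mk (U.ι ≫ T.hom)),
          ThetaGrp.IsOverPt β ((Over.homMk U.ι rfl : Over.mk (U.ι ≫ T.hom) ⟶ T) ≫ x) := by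
  have key : ∀ (V : Over (Spec (CommRingCat.of k))) (z : V ⟶ A), pull z.left (cls hL) = 1 →
      ((∃ y : V ⟶ K, y ≫ iK = z) ↔
        pull (fst A V).left (cls hL) = pull (fst A V * (snd A V ≫ z)).left (cls hL)) := fun V z h1 => by
    rw [← hK.univ, isMumfordTriv_iff hL, AddAlong, pull_snd_eq_one hL z h1, _root_.mul_one]
    exact eq_comm
  constructor
  · rintro ⟨y, hy⟩ t
    obtain ⟨U, ht, hU⟩ := exists_pull_eq_one hL x t
    let j : Over.mk (U.ι ≫ T.hom) ⟶ T := Over.homMk U.ι rfl
    refine ⟨U, ht, exists_isOverPt hL _ ((key _ (j ≫ x) (hU j ?_)).1 ⟨j ≫ y, ?_⟩)⟩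
    · exact (Scheme.Opens.range_ι U).le
    · rw [Category.assoc, hy]
  · intro h
    haveI := hK.closed
    refine exists_factor iK x fun t => ?_
    obtain ⟨U, ht, β, hβ⟩ := h t
    obtain ⟨W, htW, hW⟩ := exists_pull_eq_one hL x t
    let j : Over.mk ((U ⊓ W).ι ≫ T.hom) ⟶ T := Over.homMk (U ⊓ W).ι rfl
    let r : Over.mk ((U ⊓ W).ι ≫ T.hom) ⟶ Over.mk (U.ι ≫ T.hom) :=
      Over.homMk (T.left.homOfLE inf_le_left) (by simp)
    have hr : r ≫ (Over.homMk U.ι rfl : Over.mk (U.ι ≫ T.hom) ⟶ T) = j :=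
      Over.OverMorphism.ext (by simp [r, j])
    refine ⟨U ⊓ W, ⟨ht, htW⟩, (key _ (j ≫ x) (hW j ?_)).2 ?_⟩
    · rintro _ ⟨v, rfl⟩
      exact ((Scheme.Opens.range_ι (U ⊓ W)).le ⟨v, rfl⟩).2
    · have h2 := congrArg (pull (A ◁ r).left) (pull_eq_of_isOverPt hL hβ)
      rw [pull_left_comp, pull_left_comp, MonObj.comp_mul, whiskerLeft_fst, whiskerLeft_snd_assoc,
        ← Category.assoc r, hr] at h2
      exact h2

end Groth.Agent.ThetaLib
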