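import Groth.Agent.ThetaLib.Cartesian
import Groth.Prelude.Def_AlgGrp

/-!
# The level subgroup of a descended module

If the module descends along a homomorphism, the kernel lifts canonically to the theta group.
-/

set_option autoImplicit false
set_option backward.isDefEq.respectTransparency false
set_option linter.style.haveILetI false

universe u

open CategoryTheory CategoryTheory.Limits MonoidalCategory CartesianMonoidalCategory MonObj AlgebraicGeometry
open Pseudofunctor Bicategory

noncomputable section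

namespace Groth.Agent.ThetaLib

open ThetaGrp

variable {S : Scheme.{u}} {A B : Over S} [GrpObj A] [GrpObj B] {L : A.left.Modules} {M : B.left.Modules}
  (f : A ⟶ B)

section

variable (e : (Scheme.Modules.pullback f.left).obj M ≅ L)

/-- The projection to the target with its module. -/
abbrev descMor (T : Over S) : thetaObj A L T ⟶ (⟨B.left, M⟩ : CoGrothendieck (modPF.{u})) :=
  proj A L T ≫ ⟨f.left, e.inv⟩

instance isIso_descMor_fiber (T : Over S) : IsIso (descMor f e T).fiber := by
  haveI : IsIso (proj A L T).fiber := inferInstance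
  have h2 : IsIso ((modPF.map (proj A L T).base.op.toLoc).toFunctor.map e.inv) := inferInstance
  exact @IsIso.comp_isIso _ _ _ _ _ (proj A L T).fiber _ this (@IsIso.comp_isIso _ _ _ _ _ _ _ h2 inferInstance)

theorem descMor_natural {T G : Over S} (g : T ⟶ G) : bcLift A L g ≫ descMor f e G = descMor f e T := by
  rw [descMor, ← Category.assoc, bcLift_proj]

theorem transl_fst_comp [IsMonHom f] {T : Over S} (x : T ⟶ A) (hx : x ≫ f = 1) :
    (transl A x).left ≫ (fst A T).left ≫ f.left = (fst A T).left ≫ f.left := by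
  simp only [← Over.comp_left]
  congr 1
  rw [← Category.assoc, transl_fst, MonObj.mul_comp, Category.assoc, hx, MonObj.comp_one, _root_.mul_one]

theorem isIso_transl' {T : Over S} (x : T ⟶ A) : IsIso (transl A x).left := by
  haveI : IsIso (transl A x) := ⟨transl A x⁻¹, by rw [← transl_mul, mul_inv_cancel, transl_one],
    by rw [← transl_mul, inv_mul_cancel, transl_one]⟩
  exact inferInstanceAs (IsIso ((Over.forget _).map (transl A x)))

theorem exists_canonical [IsMonHom f] {T : Over S} (x : T ⟶ A) (hx : x ≫ f = 1) :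
    ∃ β : thetaPts A L T, IsOverPt β x ∧ β.1.hom ≫ descMor f e T = descMor f e T := by
  obtain ⟨g, hb, hg, hiso⟩ := exists_lift (descMor f e T) (descMor f e T) (transl A x).left (transl_fst_comp f x hx)
  haveI : IsIso g.fiber := hiso inferInstance
  haveI : IsIso g.base := hb ▸ isIso_transl' x
  haveI : IsIso g := isIso_of_components g
  exact ⟨⟨asIso g, x, hb⟩, hb, hg⟩

theorem canonical_unique {T : Over S} {x : T ⟶ A} {β β' : thetaPts A L T}
    (h : IsOverPt β x) (h' : IsOverPt β' x) (hβ : β.1.hom ≫ descMor f e T = descMor f e T)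
    (hβ' : β'.1.hom ≫ descMor f e T = descMor f e T) : β = β' :=
  Subtype.ext (Iso.ext (lift_unique (descMor f e T) (h.trans h'.symm) (hβ.trans hβ'.symm)))

end

theorem isOverPt_mul {T : Over S} {x y : T ⟶ A} {α β : thetaPts A L T} (hα : IsOverPt α x) (hβ : IsOverPt β y) :
    IsOverPt (α * β) (y * x) := by
  show (α.1 * β.1).hom.base = _
  rw [Aut.Aut_mul_def, Iso.trans_hom, CoGrothendieck.categoryStruct_comp_base, hα, hβ, transl_mul, Over.comp_left]

theorem transl_injective {T : Over S} {x y : T ⟶ A} (h : (transl A x).left = (transl A y).left) : x = y := by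
  have h' : transl A x = transl A y := Over.OverMorphism.ext h
  have h2 := congrArg (fun z => lift 1 (𝟙 T) ≫ z ≫ fst A T) h'
  simp only [transl_fst, MonObj.comp_mul, lift_fst, lift_snd_assoc, Category.id_comp, _root_.one_mul] at h2
  exact h2

variable [IsMonHom f] (e : (Scheme.Modules.pullback f.left).obj M ≅ L) [IsCommMonObj A]
  {N : Over S} [GrpObj N] (i : N ⟶ A) [IsMonHom i] {G : Over S} [GrpObj G] {u : thetaPts A L G}
  (hG : IsThetaGrpSch A L G u)

include e hG in
theorem exists_level_hom (hi : i ≫ f = 1) :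
    ∃ j : N ⟶ G, IsMonHom j ∧ ∀ (T : Over S) (n : T ⟶ N) (β : thetaPts A L T),
      IsBaseChange β (n ≫ j) u → IsOverPt β (n ≫ i) := by
  have hni : ∀ {T : Over S} (n : T ⟶ N), (n ≫ i) ≫ f = 1 := fun n => by
    rw [Category.assoc, hi, MonObj.comp_one]
  obtain ⟨b, hb1, hb2⟩ := exists_canonical f e i hi
  obtain ⟨j, hj, -⟩ := hG.univ N b
  -- the base change of the universal lift along a point is the canonical lift
  have key : ∀ (T : Over S) (n : T ⟶ N) (β : thetaPts A L T), IsOverPt β (n ≫ i) →
      β.1.hom ≫ descMor f e T = descMor f e T → IsBaseChange β (n ≫ j) u := fun T n β h1 h2 => by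
    have h3 : β.1.hom ≫ bcLift A L n = bcLift A L n ≫ b.1.hom := by
      refine lift_unique (descMor f e N) ?_ ?_
      · show β.1.hom.base ≫ (A ◁ n).left = (A ◁ n).left ≫ b.1.hom.base
        rw [h1, hb1, ← Over.comp_left, ← Over.comp_left]
        congr 1
        apply CartesianMonoidalCategory.hom_ext
        · simp [transl, MonObj.comp_mul]
        · simp [transl]
      · rw [Category.assoc, descMor_natural, Category.assoc, hb2, h2, descMor_natural]
    have h4 : bcLift A L (n ≫ j) = bcLift A L n ≫ bcLift A L j := by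
      refine lift_unique (proj A L G) ?_ ?_
      · show (A ◁ (n ≫ j)).left = (A ◁ n).left ≫ (A ◁ j).left
        rw [← Over.comp_left, MonoidalCategory.whiskerLeft_comp]
      · rw [Category.assoc, bcLift_proj, bcLift_proj, bcLift_proj]
    show β.1.hom ≫ bcLift A L (n ≫ j) = bcLift A L (n ≫ j) ≫ u.1.hom
    rw [h4, ← Category.assoc, h3, Category.assoc, Category.assoc]
    exact congrArg (bcLift A L n ≫ ·) hj
  have hov : ∀ (T : Over S) (n : T ⟶ N) (β : thetaPts A L T),
      IsBaseChange β (n ≫ j) u → IsOverPt β (n ≫ i) := fun T n β h => by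
    obtain ⟨β₀, h1, h2⟩ := exists_canonical f e (n ≫ i) (hni n)
    rw [(hG.exists_bc T (n ≫ j)).unique h (key T n β₀ h1 h2)]
    exact h1
  have hmul : ∀ (T : Over S) (n m : T ⟶ N), (n * m) ≫ j = (n ≫ j) * (m ≫ j) := fun T n m => by
    obtain ⟨β₁, h1, h1'⟩ := exists_canonical f e (n ≫ i) (hni n)
    obtain ⟨β₂, h2, h2'⟩ := exists_canonical f e (m ≫ i) (hni m)
    have h3 := hG.mul T _ _ β₁ β₂ (key T n β₁ h1 h1') (key T m β₂ h2 h2')
    have h4 : IsOverPt (β₁ * β₂) ((n * m) ≫ i) := by
      rw [MonObj.mul_comp, _root_.mul_comm]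
      exact isOverPt_mul h1 h2
    have h5 : (β₁ * β₂).1.hom ≫ descMor f e T = descMor f e T := by
      show (β₁.1 * β₂.1).hom ≫ _ = _
      rw [Aut.Aut_mul_def, Iso.trans_hom, Category.assoc, h1', h2']
    exact (hG.univ T (β₁ * β₂)).unique (key T (n * m) _ h4 h5) h3
  refine ⟨j, ?_, hov⟩
  constructor
  · have h := hmul (𝟙_ _) (η[N]) (η[N])
    have e1 : (η[N] : 𝟙_ _ ⟶ N) = 1 := by rw [Hom.one_def, toUnit_unit, Category.id_comp]
    rw [e1, _root_.mul_one, left_eq_mul] at h
    rw [e1, h, Hom.one_def, toUnit_unit, Category.id_comp]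
  · have h := hmul (N ⊗ N) (fst N N) (snd N N)
    rw [Hom.mul_def, lift_fst_snd, Category.id_comp] at h
    rw [h, Hom.mul_def]
    congr 1

include hG in
/-- A lift of the kernel is a level subgroup. -/
theorem isLevelSubgrp_of_over [IsImmersion i.left] (j : N ⟶ G) [IsMonHom j]
    (hover : ∀ (T : Over S) (n : T ⟶ N) (β : thetaPts A L T), IsBaseChange β (n ≫ j) u → IsOverPt β (n ≫ i)) :
    IsLevelSubgrp u j := by
  haveI : Mono i := (Over.forget _).mono_of_mono_map (inferInstanceAs (Mono i.left))
  obtain ⟨xu, hxu⟩ := u.2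
  have hpt : ∀ (T : Over S) (g : T ⟶ G) (β : thetaPts A L T), IsBaseChange β g u → IsOverPt β (g ≫ xu) :=
    fun T g β hb => by
    obtain ⟨y, hy⟩ := β.2
    have h := congrArg CoGrothendieck.Hom.base hb
    change β.1.hom.base ≫ (A ◁ g).left = (A ◁ g).left ≫ u.1.hom.base at h
    rw [hy, hxu, ← Over.comp_left, ← Over.comp_left] at h
    have h2 := congrArg (fun z => lift 1 (𝟙 T) ≫ z ≫ fst A G) (Over.OverMorphism.ext h)
    simp only [Category.assoc, whiskerLeft_fst, transl_fst, MonObj.comp_mul, whiskerLeft_snd_assoc,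
      lift_fst, lift_snd_assoc, Category.id_comp, _root_.one_mul] at h2
    show β.1.hom.base = _
    rw [hy, h2]
  refine ⟨?_, inferInstance, fun T h β hb hb1 => ?_⟩
  · have hji : j ≫ xu = i := by
      obtain ⟨b, hb, -⟩ := hG.exists_bc N j
      have h1 := hover N (𝟙 N) b (by rwa [Category.id_comp])
      rw [Category.id_comp] at h1
      exact transl_injective ((hpt N j b hb).symm.trans h1)
    haveI : IsImmersion (j.left ≫ xu.left) := by rw [← Over.comp_left, hji]; infer_instance
    exact IsImmersion.of_comp j.left xu.left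
  · have h1 : h ≫ i = 1 := transl_injective ((hover T h β hb).symm.trans hb1)
    rw [← cancel_mono i, h1, MonObj.one_comp]

end Groth.Agent.ThetaLib
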