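import Groth.Agent.ThetaLib.Descend
import Groth.Agent.ThetaLib.Level
import Groth.Agent.S11759
import Groth.Agent.PicTrivLib.UnivApp
import Groth.Agent.AVLib.SeesawBase

/-!
# Scalars of the theta group

Points over the identity translation are multiplications by functions on the base, hence central.
-/

set_option autoImplicit false
set_option backward.isDefEq.respectTransparency false
set_option backward.defeqAttrib.useBackward true
set_option linter.style.haveILetI false

universe u

open CategoryTheory CategoryTheory.Limits MonoidalCategory CartesianMonoidalCategory MonObj AlgebraicGeometry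
open Pseudofunctor Bicategory
open Groth.Agent

noncomputable section

namespace Groth.Agent.ThetaLib

open ThetaGrp

section Smul

variable {X Y : CoGrothendieck (modPF.{u})}

/-- A morphism multiplied by a function. -/
def smulL (r : Γ(X.base, ⊤)) (h : X ⟶ Y) : X ⟶ Y :=
  mor X Y h.base (Formal.smulModΓ X.fiber r ≫ h.fiber)

/-- Multiplication by a function. -/
abbrev smul (X : CoGrothendieck (modPF.{u})) (r : Γ(X.base, ⊤)) : X ⟶ X := smulL r (𝟙 X)

theorem smulL_congr (r : Γ(X.base, ⊤)) {h h' : X ⟶ Y} (e : h = h') : smulL r h = smulL r h' := by rw [e]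

theorem smul_comp (r : Γ(X.base, ⊤)) (h : X ⟶ Y) : smul X r ≫ h = smulL r h := by
  refine Eq.trans ?_ (smulL_congr r (Category.id_comp h))
  refine CoGrothendieck.Hom.ext _ _ rfl ?_
  rw [eqToHom_refl, Category.comp_id, comp_fiber]
  show _ = Formal.smulModΓ X.fiber r ≫ (𝟙 X ≫ h).fiber
  rw [comp_fiber]
  exact Category.assoc _ _ _

theorem comp_smul [Coh.IsQCoh (X := Y.base) Y.fiber] (h : X ⟶ Y) (r : Γ(Y.base, ⊤)) :
    h ≫ smul Y r = smulL (h.base.appTop r) h := by
  refine Eq.trans ?_ (smulL_congr _ (Category.comp_id h))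
  refine CoGrothendieck.Hom.ext _ _ rfl ?_
  rw [eqToHom_refl, Category.comp_id, comp_fiber]
  show h.fiber ≫ (Scheme.Modules.pullback h.base).map (Formal.smulModΓ Y.fiber r ≫ (𝟙 Y : Y ⟶ Y).fiber) ≫ _ =
    Formal.smulModΓ X.fiber _ ≫ (h ≫ 𝟙 Y).fiber
  rw [comp_fiber, Functor.map_comp, BCLib.pullback_map_smulModΓ, Category.assoc]
  show h.fiber ≫ Formal.smulModΓ _ (h.base.appTop r) ≫ _ = _
  rw [← Category.assoc h.fiber, KLin.comp_smulModΓ h.fiber]
  exact Category.assoc _ _ _

theorem comp_smul_eq [Coh.IsQCoh (X := Y.base) Y.fiber] (h : X ⟶ Y) (r : Γ(Y.base, ⊤)) :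
    h ≫ smul Y r = smul X (h.base.appTop r) ≫ h := (comp_smul h r).trans (smul_comp _ h).symm

theorem smul_one (X : CoGrothendieck (modPF.{u})) : smul X 1 = 𝟙 X := by
  refine CoGrothendieck.Hom.ext _ _ rfl ?_
  rw [eqToHom_refl, Category.comp_id]
  show Formal.smulModΓ X.fiber 1 ≫ _ = _
  rw [KLin.smulModΓ_one, Category.id_comp]

end Smul

theorem smulModΓ_injective {X : Scheme.{u}} {L : X.Modules} (hL : PicF.IsInvertible L) {r r' : Γ(X, ⊤)}
    (h : Formal.smulModΓ L r = Formal.smulModΓ L r') : r = r' := by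
  refine TopCat.Presheaf.section_ext X.sheaf ⊤ _ _ fun x hx => ?_
  obtain ⟨e, he⟩ := ParaFLib.exists_stalk_gen hL x
  refine he.1 ?_
  show X.presheaf.germ ⊤ x hx r • e = X.presheaf.germ ⊤ x hx r' • e
  rw [← BCLib.stalkLin_smulModΓ, ← BCLib.stalkLin_smulModΓ, h]

variable {k : Type u} [Field k] {A : Over (Spec (CommRingCat.of k))} [GrpObj A]
  [IsProper A.hom] [GeometricallyIntegral A.hom] {L : A.left.Modules} {T : Over (Spec (CommRingCat.of k))}

omit [GrpObj A] [IsProper A.hom] [GeometricallyIntegral A.hom] in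
theorem isInvertible_fiber (hL : PicF.IsInvertible L) (T : Over (Spec (CommRingCat.of k))) :
    PicF.IsInvertible (Y := (A ⊗ T).left) (thetaObj A L T).fiber :=
  AmpleLib.isInvertible_pullback _ hL

theorem bijective_appTop (T : Over (Spec (CommRingCat.of k))) :
    Function.Bijective ((snd A T).left.appTop) := by
  have h : IsIso ((snd A T).left.appTop) :=
    PicTrivLib.isIso_app_univ A.hom (AVLib.bijective_fiber A.hom) T.left T.hom ⊤
  exact @ConcreteCategory.bijective_of_isIso _ _ _ _ _ _ _ _ _ h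

/-- A morphism over the identity is a multiplication by a function on the base. -/
theorem exists_smul (hL : PicF.IsInvertible L) (σ : thetaObj A L T ⟶ thetaObj A L T) (hσ : σ.base = 𝟙 _) :
    ∃ a : Γ(T.left, ⊤), σ = smul (thetaObj A L T) ((snd A T).left.appTop a) := by
  obtain ⟨b, φ⟩ := σ
  dsimp at hσ
  subst hσ
  let i : (thetaObj A L T).fiber ⟶ (Scheme.Modules.pullback (𝟙 (A ⊗ T).left)).obj (thetaObj A L T).fiber :=
    (𝟙 (thetaObj A L T) : thetaObj A L T ⟶ _).fiber
  haveI : IsIso i := isIso_fiber (𝟙 (thetaObj A L T))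
  obtain ⟨g, hg⟩ := S11759.exists_eq_smulModΓ (isInvertible_fiber hL T) (φ ≫ inv i)
  obtain ⟨a, ha⟩ := (bijective_appTop T).2 g
  refine ⟨a, ?_⟩
  refine CoGrothendieck.Hom.ext _ _ rfl ?_
  rw [eqToHom_refl, Category.comp_id]
  show φ = Formal.smulModΓ _ _ ≫ i
  rw [ha, ← hg, Category.assoc, IsIso.inv_hom_id, Category.comp_id]

theorem eq_one_of_smul_eq (hL : PicF.IsInvertible L) {a : Γ(T.left, ⊤)}
    (h : smul (thetaObj A L T) ((snd A T).left.appTop a) = 𝟙 _) : a = 1 := by
  have h1 := fiber_congr (h.trans (smul_one _).symm)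
  rw [eqToHom_refl, Category.comp_id] at h1
  let i : (thetaObj A L T).fiber ⟶ (Scheme.Modules.pullback (𝟙 (A ⊗ T).left)).obj (thetaObj A L T).fiber :=
    (𝟙 (thetaObj A L T) : thetaObj A L T ⟶ _).fiber
  haveI : IsIso i := isIso_fiber (𝟙 (thetaObj A L T))
  have h2 : Formal.smulModΓ (thetaObj A L T).fiber ((snd A T).left.appTop a) =
      Formal.smulModΓ (thetaObj A L T).fiber 1 := (cancel_mono i).1 h1
  refine (bijective_appTop (A := A) T).1 ?_
  rw [map_one]
  exact smulModΓ_injective (isInvertible_fiber hL T) h2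

omit [IsProper A.hom] [GeometricallyIntegral A.hom] in
theorem mul_hom (α β : thetaPts A L T) : (α * β).1.hom = β.1.hom ≫ α.1.hom := rfl

omit [IsProper A.hom] [GeometricallyIntegral A.hom] in
theorem one_hom : (1 : thetaPts A L T).1.hom = 𝟙 _ := rfl

omit [IsProper A.hom] [GeometricallyIntegral A.hom] in
theorem isOverPt_one : IsOverPt (1 : thetaPts A L T) 1 := by
  show 𝟙 _ = _
  rw [transl_one]
  rfl

omit [IsProper A.hom] [GeometricallyIntegral A.hom] in
theorem isOverPt_inv {α : thetaPts A L T} {x : T ⟶ A} (h : IsOverPt α x) : IsOverPt α⁻¹ x⁻¹ := by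
  obtain ⟨y, hy⟩ := α⁻¹.2
  have h1 := isOverPt_mul h hy
  rw [mul_inv_cancel] at h1
  rw [← eq_inv_of_mul_eq_one_left (transl_injective (h1.symm.trans isOverPt_one))]
  exact hy

/-- Points over the identity translation are central. -/
theorem central (hL : PicF.IsInvertible L) {σ : thetaPts A L T} (hσ : IsOverPt σ 1) (c : thetaPts A L T) :
    σ * c = c * σ := by
  have hb : σ.1.hom.base = 𝟙 _ := by rw [show σ.1.hom.base = _ from hσ, transl_one]; rfl
  obtain ⟨a, ha⟩ := exists_smul hL σ.1.hom hb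
  obtain ⟨x, hx⟩ := c.2
  haveI : Coh.IsQCoh (X := (A ⊗ T).left) (thetaObj A L T).fiber := InvExt.isQCoh_of_isInvertible (isInvertible_fiber hL T)
  refine Subtype.ext (Iso.ext ?_)
  rw [mul_hom, mul_hom, ha, comp_smul_eq]
  refine congrArg (smul _ · ≫ c.1.hom) ?_
  rw [hx]
  show ((transl A x).left ≫ (snd A T).left).appTop a = _
  rw [← Over.comp_left, transl, lift_snd]

/-- Commutation does not depend on the chosen lift. -/
theorem comm_of_over (hL : PicF.IsInvertible L) {x : T ⟶ A} {β β' c : thetaPts A L T}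
    (h : IsOverPt β x) (h' : IsOverPt β' x) (hc : β * c = c * β) : β' * c = c * β' := by
  have hσ : IsOverPt (β⁻¹ * β') 1 := by
    have := isOverPt_mul (isOverPt_inv h) h'
    rwa [mul_inv_cancel] at this
  have h1 : Commute (β⁻¹ * β') c := central hL hσ c
  have h2 : Commute β c := hc
  have := h2.mul_left h1
  rwa [mul_inv_cancel_left] at this

end Groth.Agent.ThetaLib
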