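import Groth.Agent.ThetaLib.SplitCocycle
import Groth.Agent.ThetaLib.Descent
import Groth.Agent.ThetaLib.Scalar
import Groth.Agent.ThetaLib.KLPoints
import Groth.Agent.S0235

/-!
# Isotropic finite subgroups of `K(L)` lift to the theta group over an algebraically closed field
-/

set_option autoImplicit false
set_option backward.isDefEq.respectTransparency false
set_option backward.defeqAttrib.useBackward true
set_option linter.style.haveILetI false

universe u

open CategoryTheory CategoryTheory.Limits MonoidalCategory CartesianMonoidalCategory MonObj AlgebraicGeometry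
open Pseudofunctor Bicategory
open Groth.Agent Groth.Agent.PicLib Groth.Agent.AVLib

noncomputable section

namespace Groth.Agent.ThetaLib

open ThetaGrp

variable {k : Type u} [Field k] {A : Over (Spec (CommRingCat.of k))} [GrpObj A] [IsCommMonObj A]
  [IsProper A.hom] [GeometricallyIntegral A.hom] {L : A.left.Modules}

omit [GrpObj A] [IsCommMonObj A] [IsProper A.hom] [GeometricallyIntegral A.hom] in
theorem smul_mul {X : CoGrothendieck (modPF.{u})} (r r' : Γ(X.base, ⊤)) :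
    ThetaLib.smul X r ≫ ThetaLib.smul X r' = ThetaLib.smul X (r' * r) := by
  rw [ThetaLib.smul_comp]
  refine CoGrothendieck.Hom.ext _ _ rfl ?_
  rw [eqToHom_refl, Category.comp_id]
  show Formal.smulModΓ X.fiber r ≫ Formal.smulModΓ X.fiber r' ≫ _ = Formal.smulModΓ X.fiber (r' * r) ≫ _
  rw [← Category.assoc, KLin.smulModΓ_mul]
  congr 1
  exact KLin.comp_smulModΓ (Formal.smulModΓ X.fiber r) r'

theorem smul_base {T : Over (Spec (CommRingCat.of k))} (r : Γ((A ⊗ T).left, ⊤)) :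
    (ThetaLib.smul (thetaObj A L T) r).base = (transl A (1 : T ⟶ A)).left := by
  rw [transl_one]
  rfl

/-- The scalar points of the theta group. -/
def sc {T : Over (Spec (CommRingCat.of k))} : Γ(T.left, ⊤)ˣ →* thetaPts A L T where
  toFun a := ⟨⟨ThetaLib.smul _ ((snd A T).left.appTop (a : Γ(T.left, ⊤))),
      ThetaLib.smul _ ((snd A T).left.appTop ((a⁻¹ : Γ(T.left, ⊤)ˣ) : Γ(T.left, ⊤))),
      by rw [smul_mul, ← map_mul, Units.inv_mul, map_one, ThetaLib.smul_one],
      by rw [smul_mul, ← map_mul, Units.mul_inv, map_one, ThetaLib.smul_one]⟩, 1, smul_base _⟩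
  map_one' := Subtype.ext (Iso.ext (by
    show ThetaLib.smul _ _ = 𝟙 _
    rw [Units.val_one, map_one, ThetaLib.smul_one]))
  map_mul' a b := Subtype.ext (Iso.ext (by
    show ThetaLib.smul _ _ = ThetaLib.smul _ _ ≫ ThetaLib.smul _ _
    rw [smul_mul, Units.val_mul, map_mul]))

theorem isOverPt_sc {T : Over (Spec (CommRingCat.of k))} (a : Γ(T.left, ⊤)ˣ) :
    IsOverPt (sc (A := A) (L := L) a) 1 := smul_base _

theorem sc_natural (hL : PicF.IsInvertible L) {V T : Over (Spec (CommRingCat.of k))} (r : V ⟶ T)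
    (a : Γ(T.left, ⊤)ˣ) (b : Γ(V.left, ⊤)ˣ) (h : (b : Γ(V.left, ⊤)) = r.left.appTop (a : Γ(T.left, ⊤))) :
    IsBaseChange (sc (A := A) (L := L) b) r (sc a) := by
  haveI : Coh.IsQCoh (X := (A ⊗ T).left) (thetaObj A L T).fiber :=
    InvExt.isQCoh_of_isInvertible (isInvertible_fiber hL T)
  show ThetaLib.smul _ _ ≫ bcLift A L r = bcLift A L r ≫ ThetaLib.smul _ _
  rw [comp_smul_eq, h]
  refine congrArg (ThetaLib.smul _ · ≫ bcLift A L r) ?_
  show ((snd A V).left ≫ r.left).appTop _ = ((A ◁ r).left ≫ (snd A T).left).appTop _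
  rw [← Over.comp_left, ← Over.comp_left, whiskerLeft_snd]

theorem exists_sc (hL : PicF.IsInvertible L) {T : Over (Spec (CommRingCat.of k))} (σ : thetaPts A L T)
    (hσ : IsOverPt σ 1) : ∃! a : Γ(T.left, ⊤)ˣ, sc a = σ := by
  have hb : ∀ τ : thetaPts A L T, IsOverPt τ 1 → τ.1.hom.base = 𝟙 _ := fun τ hτ => by
    rw [show τ.1.hom.base = _ from hτ, transl_one]; rfl
  obtain ⟨a, ha⟩ := exists_smul hL σ.1.hom (hb σ hσ)
  have hinv : IsOverPt σ⁻¹ 1 := by simpa using isOverPt_inv hσ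
  obtain ⟨a', ha'⟩ := exists_smul hL σ⁻¹.1.hom (hb _ hinv)
  have h1 : a * a' = 1 := by
    refine eq_one_of_smul_eq (A := A) hL ?_
    rw [map_mul, ← smul_mul, ← ha, ← ha', ← mul_hom]
    exact congrArg (fun τ : thetaPts A L T => τ.1.hom) (mul_inv_cancel σ)
  let v : Γ(T.left, ⊤)ˣ := ⟨a, a', h1, by rw [_root_.mul_comm, h1]⟩
  refine ⟨v, Subtype.ext (Iso.ext ha.symm), fun w hw => ?_⟩
  have h2 : (sc (v⁻¹ * w) : thetaPts A L T) = 1 := by
    rw [map_mul, map_inv, hw, show sc v = σ from Subtype.ext (Iso.ext ha.symm), inv_mul_cancel]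
  have h3 : ((v⁻¹ * w : Γ(T.left, ⊤)ˣ) : Γ(T.left, ⊤)) = 1 :=
    eq_one_of_smul_eq (A := A) hL (congrArg (fun τ : thetaPts A L T => τ.1.hom) h2)
  exact (inv_mul_eq_one.1 (Units.ext h3)).symm

theorem sc_injective (hL : PicF.IsInvertible L) {T : Over (Spec (CommRingCat.of k))} :
    Function.Injective (sc (A := A) (L := L) (T := T)) := fun a b h =>
  (exists_sc hL (sc b) (isOverPt_sc b)).unique h rfl

variable {N : Over (Spec (CommRingCat.of k))} [GrpObj N] {i : N ⟶ A} [IsMonHom i]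

omit [GrpObj N] [IsMonHom i] [IsCommMonObj A] in
theorem exists_global_lift (hL : PicF.IsInvertible L) [IsFinite N.hom] {K : Over (Spec (CommRingCat.of k))}
    {iK : K ⟶ A} (hK : IsKL A L iK) (h : ∃ y : N ⟶ K, y ≫ iK = i) :
    ∃ β : thetaPts A L N, IsOverPt β i := by
  obtain ⟨V, hV, ⟨e⟩⟩ := S0235.result N.hom _ (AmpleLib.isInvertible_pullback i.left hL)
    (show ↥(Spec (CommRingCat.of k)) from (default : PrimeSpectrum k))
  have hU : N.hom ⁻¹ᵁ V = ⊤ := by
    ext z
    simp only [TopologicalSpace.Opens.coe_top, Set.mem_univ, iff_true]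
    show N.hom z ∈ V
    rw [show N.hom z = (show ↥(Spec (CommRingCat.of k)) from (default : PrimeSpectrum k)) from
      (Subsingleton.elim (α := PrimeSpectrum k) _ _)]
    exact hV
  have hpull : pull i.left (cls hL) = 1 := by
    haveI : IsIso (N.hom ⁻¹ᵁ V).ι := by
      rw [hU]
      exact inferInstanceAs (IsIso N.left.topIso.hom)
    have h1 : pull (N.hom ⁻¹ᵁ V).ι (pull i.left (cls hL)) = 1 := by
      rw [pull_cls, pull_cls, cls_eq_one]
      exact ⟨((Scheme.Modules.restrictFunctorIsoPullback (N.hom ⁻¹ᵁ V).ι).app _).symm ≪≫ e⟩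
    have h2 := congrArg (pull (inv (N.hom ⁻¹ᵁ V).ι)) h1
    rw [← pull_comp, ← pull_comp, map_one, IsIso.inv_hom_id, Category.id_comp] at h2
    exact h2
  refine exists_isOverPt hL i ?_
  have h' := h
  rw [← hK.univ, isMumfordTriv_iff hL, AddAlong, pull_snd_eq_one hL i hpull, _root_.mul_one] at h'
  exact h'.symm

/-- An isotropic finite subgroup of `K(L)` has a multiplicative lift over an algebraically closed field. -/
theorem exists_kerLift_of_isotropic [IsAlgClosed k] (hL : PicF.IsInvertible L) [IsFinite N.hom] [Mono i]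
    {K : Over (Spec (CommRingCat.of k))} {iK : K ⟶ A} (hK : IsKL A L iK) (h : ∃ y : N ⟶ K, y ≫ iK = i)
    (hiso : IsIsotropic L i) : Nonempty (KerLift i L) := by
  obtain ⟨b, hb⟩ := exists_global_lift hL hK h
  have hbc : ∀ {T : Over (Spec (CommRingCat.of k))} (n : T ⟶ N), ∃ β : thetaPts A L T,
      IsOverPt β (n ≫ i) ∧ IsBaseChange β n b := fun n => exists_bc_pt n hb
  choose β₀ hβ₀ hβ₀' using @hbc
  let pt : ∀ {T : Over (Spec (CommRingCat.of k))}, (T ⟶ N) → thetaPts A L T :=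
    fun {T} n => β₀ n * (β₀ (1 : T ⟶ N))⁻¹
  have pt_over : ∀ {T : Over (Spec (CommRingCat.of k))} (n : T ⟶ N), IsOverPt (pt n) (n ≫ i) := fun n => by
    have h := isOverPt_mul (hβ₀ n) (isOverPt_inv (hβ₀ 1))
    rwa [MonObj.one_comp, inv_one, _root_.one_mul] at h
  have pt_one : ∀ {T : Over (Spec (CommRingCat.of k))}, pt (1 : T ⟶ N) = 1 := fun {T} => mul_inv_cancel _
  have bc_β : ∀ {V T : Over (Spec (CommRingCat.of k))} (r : V ⟶ T) (n : T ⟶ N),
      IsBaseChange (β₀ (r ≫ n)) r (β₀ n) := fun r n => by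
    obtain ⟨β', h1, h2⟩ := exists_bc_pt r (hβ₀ n)
    rw [← Category.assoc] at h1
    rwa [bc_unique (hβ₀ (r ≫ n)) h1 (hβ₀' (r ≫ n)) (bc_trans h2 (hβ₀' n))]
  have pt_nat : ∀ {V T : Over (Spec (CommRingCat.of k))} (r : V ⟶ T) (n : T ⟶ N),
      IsBaseChange (pt (r ≫ n)) r (pt n) := fun r n => by
    have h1 := bc_β r (1 : _ ⟶ N)
    rw [MonObj.comp_one] at h1
    refine bc_mul (bc_β r n) ?_
    show (β₀ _).1.inv ≫ _ = _ ≫ (β₀ _).1.inv
    rw [Iso.inv_comp_eq, ← Category.assoc]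
    exact (Iso.eq_comp_inv _).2 h1.symm
  have hcomm : ∀ (T : Over (Spec (CommRingCat.of k))) (n m : T ⟶ N), n * m = m * n := fun T n m => by
    rw [← cancel_mono i, MonObj.mul_comp, MonObj.mul_comp, _root_.mul_comm]
  have ov : ∀ {T : Over (Spec (CommRingCat.of k))} (n m : T ⟶ N),
      IsOverPt ((pt (n * m))⁻¹ * (pt n * pt m)) 1 := fun n m => by
    have h := isOverPt_mul (isOverPt_inv (pt_over (n * m))) (isOverPt_mul (pt_over n) (pt_over m))
    rwa [← MonObj.mul_comp, hcomm _ m n, mul_inv_cancel] at h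
  let cu := fun {T : Over (Spec (CommRingCat.of k))} (n m : T ⟶ N) => (exists_sc hL _ (ov n m)).choose
  have hcu : ∀ {T : Over (Spec (CommRingCat.of k))} (n m : T ⟶ N), pt n * pt m = pt (n * m) * sc (cu n m) :=
    fun n m => by
      rw [show sc (cu n m) = _ from (exists_sc hL _ (ov n m)).choose_spec.1, mul_inv_cancel_left]
  have hsymm : ∀ {T : Over (Spec (CommRingCat.of k))} (n m : T ⟶ N), cu n m = cu m n := fun {T} n m => by
    refine sc_injective (A := A) hL ?_
    have h1 := hcu n m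
    rw [hiso T n m (pt n) (pt m) (pt_over n) (pt_over m), hcu m n, hcomm T m n] at h1
    exact (mul_left_cancel h1).symm
  have hnat : ∀ {V T : Over (Spec (CommRingCat.of k))} (r : V ⟶ T) (n m : T ⟶ N),
      ((cu (r ≫ n) (r ≫ m)) : Γ(V.left, ⊤)) = r.left.appTop (cu n m : Γ(T.left, ⊤)) := fun {V T} r n m => by
    let w : Γ(V.left, ⊤)ˣ := Units.map (r.left.appTop.hom : Γ(T.left, ⊤) →* Γ(V.left, ⊤)) (cu n m)
    have hw := sc_natural (A := A) hL r (cu n m) w rfl
    have h1 := bc_mul (pt_nat r n) (pt_nat r m)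
    rw [hcu n m, hcu (r ≫ n) (r ≫ m)] at h1
    have h2 := bc_mul (pt_nat r (n * m)) hw
    rw [MonObj.comp_mul] at h2
    have e := bc_unique (isOverPt_mul (pt_over _) (isOverPt_sc _)) (isOverPt_mul (pt_over _) (isOverPt_sc _)) h1 h2
    exact congrArg Units.val (sc_injective (A := A) hL (mul_left_cancel e))
  have hone : ∀ {T : Over (Spec (CommRingCat.of k))} (m : T ⟶ N), cu 1 m = 1 := fun {T} m => by
    refine sc_injective (A := A) hL ?_
    have h1 := hcu 1 m
    rw [pt_one, _root_.one_mul, _root_.one_mul, left_eq_mul] at h1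
    rw [h1, map_one]
  have hsc : ∀ {T : Over (Spec (CommRingCat.of k))} (a : Γ(T.left, ⊤)ˣ) (g : thetaPts A L T), sc a * g = g * sc a :=
    fun a g => central hL (isOverPt_sc a) g
  have hcoc : ∀ {T : Over (Spec (CommRingCat.of k))} (n m l : T ⟶ N),
      cu n m * cu (n * m) l = cu m l * cu n (m * l) := fun {T} n m l => by
    refine sc_injective (A := A) hL ?_
    have e1 : pt n * pt m * pt l = pt (n * m * l) * sc (cu (n * m) l * cu n m) := by
      rw [hcu, _root_.mul_assoc, hsc, ← _root_.mul_assoc, hcu, map_mul, _root_.mul_assoc]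
    have e2 : pt n * (pt m * pt l) = pt (n * m * l) * sc (cu n (m * l) * cu m l) := by
      rw [hcu, ← _root_.mul_assoc, hcu, map_mul, _root_.mul_assoc, _root_.mul_assoc n]
    rw [_root_.mul_assoc, e2] at e1
    rw [_root_.mul_comm (cu n m), _root_.mul_comm (cu m l)]
    exact (mul_left_cancel e1).symm
  obtain ⟨F, hFu, hFnat, hF⟩ := exists_splitting hcomm (fun {T} n m => ((cu n m : Γ(T.left, ⊤)ˣ) : Γ(T.left, ⊤))) (fun n m => (cu n m).isUnit)
    (fun r n m => (hnat r n m).symm) (fun n m => congrArg Units.val (hsymm n m))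
    (fun m => congrArg Units.val (hone m)) (fun n m l => congrArg Units.val (hcoc n m l))
  let Fu := fun {T : Over (Spec (CommRingCat.of k))} (n : T ⟶ N) => (hFu n).unit
  have hFe : ∀ {T : Over (Spec (CommRingCat.of k))} (n m : T ⟶ N), cu n m * Fu (n * m) = Fu n * Fu m :=
    fun n m => Units.ext (hF n m)
  refine ⟨⟨fun n => pt n * sc (Fu n)⁻¹, fun n => ?_, fun {V T} r n => ?_, fun {T} n m => ?_⟩⟩
  · have h := isOverPt_mul (pt_over n) (isOverPt_sc (A := A) (L := L) (Fu n)⁻¹)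
    rwa [_root_.one_mul] at h
  · refine bc_mul (pt_nat r n) (sc_natural (A := A) hL r _ _ ?_)
    have h1 : Fu (r ≫ n) = Units.map (r.left.appTop.hom : Γ(T.left, ⊤) →* Γ(V.left, ⊤)) (Fu n) :=
      Units.ext (hFnat r n).symm
    rw [h1, ← map_inv]
    rfl
  · have e : cu n m * ((Fu n)⁻¹ * (Fu m)⁻¹) = (Fu (n * m))⁻¹ := by
      rw [← mul_inv, ← hFe, _root_.mul_inv, ← _root_.mul_assoc, mul_inv_cancel, _root_.one_mul]
    calc pt (n * m) * sc (Fu (n * m))⁻¹
        = pt (n * m) * (sc (cu n m) * (sc (Fu n)⁻¹ * sc (Fu m)⁻¹)) := by rw [← map_mul, ← map_mul, e]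
      _ = pt n * pt m * (sc (Fu n)⁻¹ * sc (Fu m)⁻¹) :=
          (_root_.mul_assoc _ _ _).symm.trans (congrArg (· * (sc (Fu n)⁻¹ * sc (Fu m)⁻¹)) (hcu n m).symm)
      _ = pt n * sc (Fu n)⁻¹ * (pt m * sc (Fu m)⁻¹) :=
          Commute.mul_mul_mul_comm (show Commute (pt m) (sc (Fu n)⁻¹) from (hsc _ _).symm) _ _

end Groth.Agent.ThetaLib
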