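import Groth.Agent.ThetaLib.Functor
import Groth.Agent.ThetaLib.KLExist
import Groth.Agent.ThetaLib.Isotropic
import Groth.Prelude.Def_GmPts

/-!
# The theta group of an invertible module on an abelian variety is a scheme

Over an open of `K(L)` with a lift, it is the product with the multiplicative group.
-/

set_option autoImplicit false
set_option backward.isDefEq.respectTransparency false
set_option backward.defeqAttrib.useBackward true
set_option linter.style.haveILetI false

universe u

open CategoryTheory CategoryTheory.Limits MonoidalCategory CartesianMonoidalCategory MonObj AlgebraicGeometry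
open Pseudofunctor Bicategory Opposite
open Groth.Agent

noncomputable section

namespace Groth.Agent.ThetaLib

open ThetaGrp

variable {k : Type u} [Field k] {A : Over (Spec (CommRingCat.of k))} [GrpObj A] [IsCommMonObj A]
  [IsProper A.hom] [GeometricallyIntegral A.hom] {L : A.left.Modules}

theorem hq (hL : PicF.IsInvertible L) (T : Over (Spec (CommRingCat.of k))) :
    Coh.IsQCoh (X := (A ⊗ T).left) (thetaObj A L T).fiber :=
  InvExt.isQCoh_of_isInvertible (isInvertible_fiber hL T)

theorem pullPt_sc (hL : PicF.IsInvertible L) {V T : Over (Spec (CommRingCat.of k))} (r : V ⟶ T)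
    (a : Γ(T.left, ⊤)ˣ) :
    pullPt r (sc (A := A) (L := L) a) = sc (Units.map r.left.appTop.hom.toMonoidHom a) :=
  (eq_pullPt (isOverPt_sc a) (by rw [MonObj.comp_one]; exact isOverPt_sc _) (sc_natural (A := A) hL r a _ rfl)).symm

/-- The point under a base change is the pullback of the point. -/
theorem isOverPt_of_bc {T G : Over (Spec (CommRingCat.of k))} {g : T ⟶ G} {u : thetaPts A L G} {xu : G ⟶ A}
    (hxu : IsOverPt u xu) {β : thetaPts A L T} (hb : IsBaseChange β g u) : IsOverPt β (g ≫ xu) := by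
  obtain ⟨y, hy⟩ := β.2
  have h := congrArg CoGrothendieck.Hom.base hb
  change β.1.hom.base ≫ (A ◁ g).left = (A ◁ g).left ≫ u.1.hom.base at h
  rw [hy, show u.1.hom.base = _ from hxu, ← Over.comp_left, ← Over.comp_left] at h
  have h2 := congrArg (fun z => lift 1 (𝟙 T) ≫ z ≫ fst A G) (Over.OverMorphism.ext h)
  simp only [Category.assoc, whiskerLeft_fst, transl_fst, MonObj.comp_mul, whiskerLeft_snd_assoc,
    lift_fst, lift_snd_assoc, Category.id_comp, _root_.one_mul] at h2
  show β.1.hom.base = _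
  rw [hy, h2]

theorem eq_pullPt_of_bc {T G : Over (Spec (CommRingCat.of k))} {g : T ⟶ G} {u : thetaPts A L G}
    {β : thetaPts A L T} (hb : IsBaseChange β g u) : β = pullPt g u :=
  eq_pullPt (isOverPt_ptOf u) (isOverPt_of_bc (isOverPt_ptOf u) hb) hb

/-- The functor of points is representable. -/
theorem exists_representableBy (hL : PicF.IsInvertible L) :
    ∃ Y : Over (Spec (CommRingCat.of k)), Nonempty ((ptsFun A L).RepresentableBy Y) := by
  obtain ⟨K, iK, hK⟩ := exists_isKL (A := A) hL
  haveI := hK.closed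
  haveI : Mono iK := Over.mono_of_mono_left iK
  choose U hU β hβ using (factor_iff hL hK iK).1 ⟨𝟙 K, Category.id_comp _⟩
  let Z := fun t => sub K (U t) ⊗ Red.Gm (Spec (CommRingCat.of k))
  let v : ∀ t, Γ((Z t).left, ⊤)ˣ := fun t => GmPts.unitOfPt (snd (sub K (U t)) (Red.Gm (Spec (CommRingCat.of k))))
  let e : ∀ t, thetaPts A L (Z t) := fun t => pullPt (fst _ _) (β t) * sc (v t)
  have he : ∀ t (T : Over (Spec (CommRingCat.of k))) (a : T ⟶ Z t),
      pullPt a (e t) = pullPt (a ≫ fst _ _) (β t) * sc (GmPts.unitOfPt (a ≫ snd _ _)) := fun t T a => by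
    show pullPt a (pullPt _ _ * sc _) = _
    rw [pullPt_mul, pullPt_comp, pullPt_sc hL, GmPts.unitOfPt_comp]
  have hover : ∀ t (T : Over (Spec (CommRingCat.of k))) (a : T ⟶ Z t),
      IsOverPt (pullPt a (e t)) ((a ≫ fst _ _) ≫ subι K (U t) ≫ iK) := fun t T a => by
    rw [he]
    have h := isOverPt_mul (isOverPt_pullPt (a ≫ fst _ _) (hβ t)) (isOverPt_sc (A := A) (L := L)
      (GmPts.unitOfPt (a ≫ snd _ _)))
    rwa [_root_.one_mul] at h
  have hy : ∀ (T : Over (Spec (CommRingCat.of k))) (s : thetaPts A L T), ∃ y : T ⟶ K, y ≫ iK = ptOf s :=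
    fun T s => (factor_iff hL hK (ptOf s)).2 fun p => ⟨⊤, trivial, pullPt (subι T ⊤) s,
      isOverPt_pullPt (subι T ⊤) (isOverPt_ptOf s)⟩
  choose y hy using hy
  -- membership of a chart
  have hchart : ∀ t (T : Over (Spec (CommRingCat.of k))) (s : thetaPts A L T)
      (T' : Over (Spec (CommRingCat.of k))) (r : T' ⟶ T),
      (∃ a : T' ⟶ Z t, pullPt a (e t) = pullPt r s) ↔
        Set.range r.left ⊆ ((y T s).left ⁻¹ᵁ U t : T.left.Opens) := by
    intro t T s T' r
    constructor
    · rintro ⟨a, ha⟩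
      have h1 : r ≫ y T s = (a ≫ fst _ _) ≫ subι K (U t) := by
        rw [← cancel_mono iK, Category.assoc, hy, Category.assoc]
        refine transl_injective ((isOverPt_pullPt r (isOverPt_ptOf s)).symm.trans ?_)
        rw [← ha]
        exact hover t T' a
      rintro _ ⟨p, rfl⟩
      show (y T s).left (r.left p) ∈ U t
      rw [← Scheme.Hom.comp_apply, ← Over.comp_left, h1, Over.comp_left, Scheme.Hom.comp_apply]
      exact ((a ≫ fst _ _).left p).2
    · intro hr
      have hr' : Set.range (r ≫ y T s).left ⊆ Set.range (U t).ι := by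
        rw [Scheme.Opens.range_ι]
        rintro _ ⟨p, rfl⟩
        exact hr ⟨p, rfl⟩
      let l : T' ⟶ sub K (U t) := Over.homMk (IsOpenImmersion.lift (U t).ι (r ≫ y T s).left hr') (by
        show _ ≫ (U t).ι ≫ K.hom = _
        rw [IsOpenImmersion.lift_fac_assoc]; exact Over.w (r ≫ y T s))
      have hl : l ≫ subι K (U t) = r ≫ y T s := Over.OverMorphism.ext (IsOpenImmersion.lift_fac _ _ _)
      have o1 : IsOverPt (pullPt l (β t)) (r ≫ ptOf s) := by
        have h := isOverPt_pullPt l (hβ t)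
        rwa [← Category.assoc, hl, Category.assoc, hy] at h
      have o2 := isOverPt_pullPt r (isOverPt_ptOf s)
      have o3 : IsOverPt ((pullPt l (β t))⁻¹ * pullPt r s) 1 := by
        have h := isOverPt_mul (isOverPt_inv o1) o2
        rwa [mul_inv_cancel] at h
      obtain ⟨w, hw, -⟩ := exists_sc hL _ o3
      refine ⟨lift l (GmPts.ptOfUnit w), ?_⟩
      rw [he, lift_fst, lift_snd, GmPts.unitOfPt_ptOfUnit, hw, mul_inv_cancel_left]
  refine OverRep.exists_representableBy_of_cover (F := ptsFun A L) (isSheaf_ptsFun (hq hL)) Z e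
    (fun t T a b hab => ?_) (fun t T s => ⟨(y T s).left ⁻¹ᵁ U t, fun T' r => hchart t T s T' r⟩) (fun T s p => ?_)
  · change pullPt a (e t) = pullPt b (e t) at hab
    have o := hover t T a
    rw [hab] at o
    have h2 := transl_injective (o.symm.trans (hover t T b))
    rw [← Category.assoc _ (subι K (U t)), ← Category.assoc _ (subι K (U t)), cancel_mono iK] at h2
    haveI : Mono (subι K (U t)) := Over.mono_of_mono_left _
    have h3 : a ≫ fst _ _ = b ≫ fst _ _ := (cancel_mono _).1 h2
    refine CartesianMonoidalCategory.hom_ext _ _ h3 ?_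
    rw [he, he, h3, mul_right_inj] at hab
    rw [← GmPts.ptOfUnit_unitOfPt (a ≫ snd _ _), ← GmPts.ptOfUnit_unitOfPt (b ≫ snd _ _), sc_injective hL hab]
  · let t := (y T s).left p
    obtain ⟨a, ha⟩ := (hchart t T s _ (subι T ((y T s).left ⁻¹ᵁ U t))).2 (Scheme.Opens.range_ι _).le
    exact ⟨t, _, subι T ((y T s).left ⁻¹ᵁ U t), a, inferInstanceAs (IsOpenImmersion ((y T s).left ⁻¹ᵁ U t).ι),
      ⟨⟨p, hU t⟩, rfl⟩, ha⟩

variable (A L) in
/-- The group-valued functor of points. -/
def grpFun : (Over (Spec (CommRingCat.of k)))ᵒᵖ ⥤ GrpCat.{u} where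
  obj T := GrpCat.of (thetaPts A L T.unop)
  map g := GrpCat.ofHom (MonoidHom.mk' (pullPt g.unop) (pullPt_mul g.unop))
  map_id T := GrpCat.hom_ext (MonoidHom.ext pullPt_id)
  map_comp g h := GrpCat.hom_ext (MonoidHom.ext fun β => (pullPt_comp h.unop g.unop β).symm)

/-- The theta group scheme exists. -/
theorem exists_isThetaGrpSch (hL : PicF.IsInvertible L) :
    ∃ (G : Over (Spec (CommRingCat.of k))) (_ : GrpObj G) (u : thetaPts A L G), IsThetaGrpSch A L G u := by
  obtain ⟨Y, ⟨r⟩⟩ := exists_representableBy (A := A) hL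
  let α : (grpFun A L ⋙ forget _).RepresentableBy Y :=
    { homEquiv := fun {T} => r.homEquiv, homEquiv_comp := fun f g => r.homEquiv_comp f g }
  letI := GrpObj.ofRepresentableBy Y (grpFun A L) α
  let u : thetaPts A L Y := r.homEquiv (𝟙 Y)
  have hpull : ∀ {T : Over (Spec (CommRingCat.of k))} (g : T ⟶ Y), (r.homEquiv g : thetaPts A L T) = pullPt g u :=
    fun g => r.homEquiv_eq g
  have hbc : ∀ {T : Over (Spec (CommRingCat.of k))} (g : T ⟶ Y) (β : thetaPts A L T),
      IsBaseChange β g u ↔ r.homEquiv g = β := fun g β => by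
    rw [hpull]
    exact ⟨fun h => (eq_pullPt_of_bc h).symm, fun h => h ▸ isBaseChange_pullPt g u⟩
  refine ⟨Y, inferInstance, u, fun T β => ?_, fun T g => ?_, fun T g h β₁ β₂ h₁ h₂ => ?_⟩
  · exact ⟨r.homEquiv.symm β, (hbc _ _).2 (Equiv.apply_symm_apply _ _),
      fun g hg => r.homEquiv.injective (((hbc g β).1 hg).trans (Equiv.apply_symm_apply _ _).symm)⟩
  · exact ⟨r.homEquiv g, (hbc _ _).2 rfl, fun β hb => ((hbc g β).1 hb).symm⟩
  · rw [hbc, ← (hbc g β₁).1 h₁, ← (hbc h β₂).1 h₂]
    exact ((yonedaGrpObjIsoOfRepresentableBy Y (grpFun A L) α).hom.app (op T)).hom.map_mul g h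

end Groth.Agent.ThetaLib
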