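import Groth.Agent.ThetaLib.BC
import Groth.Agent.ThetaLib.KLPoints

/-!
# The theta group of a module with `K(L)` everything is commutative

The commutators of universal local lifts glue to a scalar on `A × A`, which is constant and trivial at the origin.
-/

set_option autoImplicit false
set_option backward.isDefEq.respectTransparency false
set_option backward.defeqAttrib.useBackward true
set_option linter.style.haveILetI false

universe u

open CategoryTheory CategoryTheory.Limits MonoidalCategory CartesianMonoidalCategory MonObj AlgebraicGeometry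
open Pseudofunctor Bicategory
open Groth.Agent

noncomputable section

namespace Groth.Agent.ThetaLib

open ThetaGrp

variable {k : Type u} [Field k] {A : Over (Spec (CommRingCat.of k))} [GrpObj A] [IsCommMonObj A]
  [IsProper A.hom] [GeometricallyIntegral A.hom] {L : A.left.Modules}

/-- The commutator. -/
abbrev com {T : Over (Spec (CommRingCat.of k))} (α β : thetaPts A L T) : thetaPts A L T := (β * α)⁻¹ * (α * β)

omit [IsProper A.hom] [GeometricallyIntegral A.hom] in
theorem isOverPt_com {T : Over (Spec (CommRingCat.of k))} {x y : T ⟶ A} {α β : thetaPts A L T}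
    (hα : IsOverPt α x) (hβ : IsOverPt β y) : IsOverPt (com α β) 1 := by
  have h := isOverPt_mul (isOverPt_inv (isOverPt_mul hβ hα)) (isOverPt_mul hα hβ)
  rwa [_root_.mul_comm y x, mul_inv_cancel] at h

/-- The commutator depends only on the points. -/
theorem com_eq (hL : PicF.IsInvertible L) {T : Over (Spec (CommRingCat.of k))} {x y : T ⟶ A}
    {α β α' β' : thetaPts A L T} (hα : IsOverPt α x) (hβ : IsOverPt β y) (hα' : IsOverPt α' x) (hβ' : IsOverPt β' y) :
    com α β = com α' β' := by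
  obtain ⟨σ, hσ, rfl⟩ : ∃ σ, IsOverPt σ 1 ∧ α' = σ * α := by
    refine ⟨α' * α⁻¹, ?_, (inv_mul_cancel_right _ _).symm⟩
    have := isOverPt_mul hα' (isOverPt_inv hα)
    rwa [inv_mul_cancel] at this
  obtain ⟨τ, hτ, rfl⟩ : ∃ τ, IsOverPt τ 1 ∧ β' = τ * β := by
    refine ⟨β' * β⁻¹, ?_, (inv_mul_cancel_right _ _).symm⟩
    have := isOverPt_mul hβ' (isOverPt_inv hβ)
    rwa [inv_mul_cancel] at this
  have s : ∀ g : thetaPts A L T, σ * g = g * σ := central hL hσ
  have t : ∀ g : thetaPts A L T, τ * g = g * τ := central hL hτ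
  have e1 : σ * α * (τ * β) = σ * τ * (α * β) := by
    rw [_root_.mul_assoc, ← _root_.mul_assoc α, ← t α, _root_.mul_assoc τ α β, ← _root_.mul_assoc σ]
  have e2 : τ * β * (σ * α) = σ * τ * (β * α) := by
    rw [_root_.mul_assoc, ← _root_.mul_assoc β, ← s β, _root_.mul_assoc σ β α, ← _root_.mul_assoc τ, ← s τ]
  show (β * α)⁻¹ * (α * β) = (τ * β * (σ * α))⁻¹ * (σ * α * (τ * β))
  rw [e1, e2]
  group

omit [IsCommMonObj A] [IsProper A.hom] [GeometricallyIntegral A.hom] in
theorem bc_inv {V T : Over (Spec (CommRingCat.of k))} {r : V ⟶ T} {α : thetaPts A L T} {α' : thetaPts A L V}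
    (h : IsBaseChange α' r α) : IsBaseChange α'⁻¹ r α⁻¹ := by
  show α'.1.inv ≫ _ = _ ≫ α.1.inv
  rw [Iso.inv_comp_eq, ← Category.assoc]
  exact (Iso.eq_comp_inv α.1).2 h.symm

omit [IsCommMonObj A] [IsProper A.hom] [GeometricallyIntegral A.hom] in
theorem bc_com {V T : Over (Spec (CommRingCat.of k))} {r : V ⟶ T} {α β : thetaPts A L T} {α' β' : thetaPts A L V}
    (hα : IsBaseChange α' r α) (hβ : IsBaseChange β' r β) : IsBaseChange (com α' β') r (com α β) :=
  bc_mul (bc_inv (bc_mul hβ hα)) (bc_mul hα hβ)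

/-- Functions on the square of the group are constant. -/
theorem surjective_appTop_square :
    Function.Surjective ((toUnit (A ⊗ A)).left.appTop) := fun a => by
  obtain ⟨b, rfl⟩ := (bijective_appTop (A := A) A).2 a
  obtain ⟨c, hc⟩ := (bijective_appTop (A := A) (𝟙_ _)).2 ((fst A (𝟙_ _)).left.appTop b)
  refine ⟨c, ?_⟩
  have h := congrArg (lift (𝟙 A) (toUnit A)).left.appTop hc
  have h' : (lift (𝟙 A) (toUnit A) ≫ snd A (𝟙_ _)).left.appTop c = (lift (𝟙 A) (toUnit A) ≫ fst A (𝟙_ _)).left.appTop b := h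
  rw [lift_snd, lift_fst] at h'
  rw [← comp_toUnit (snd A A)]
  exact congrArg (snd A A).left.appTop h'

/-- If every point is a point of `K(L)`, the theta group is commutative. -/
theorem comm_of_isKL_id (hL : PicF.IsInvertible L) (hK : IsKL A L (𝟙 A)) {T : Over (Spec (CommRingCat.of k))}
    (β₁ β₂ : thetaPts A L T) : β₁ * β₂ = β₂ * β₁ := by
  have hq : ∀ V : Over (Spec (CommRingCat.of k)), Coh.IsQCoh (X := (A ⊗ V).left) (thetaObj A L V).fiber :=
    fun V => InvExt.isQCoh_of_isInvertible (isInvertible_fiber hL V)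
  choose U₁ hU₁ a₁ ha₁ using (factor_iff hL hK (fst A A)).1 ⟨fst A A, Category.comp_id _⟩
  choose U₂ hU₂ a₂ ha₂ using (factor_iff hL hK (snd A A)).1 ⟨snd A A, Category.comp_id _⟩
  let U : ↥(A ⊗ A).left → (A ⊗ A).left.Opens := fun t => U₁ t ⊓ U₂ t
  -- lifts on the cover
  have hl : ∀ t, ∃ a b : thetaPts A L (sub (A ⊗ A) (U t)),
      IsOverPt a (subι (A ⊗ A) (U t) ≫ fst A A) ∧ IsOverPt b (subι (A ⊗ A) (U t) ≫ snd A A) := fun t => by
    let r : sub (A ⊗ A) (U t) ⟶ sub (A ⊗ A) (U₁ t) := Over.homMk ((A ⊗ A).left.homOfLE inf_le_left) (by simp [U])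
    let s : sub (A ⊗ A) (U t) ⟶ sub (A ⊗ A) (U₂ t) := Over.homMk ((A ⊗ A).left.homOfLE inf_le_right) (by simp [U])
    have hr : r ≫ subι (A ⊗ A) (U₁ t) = subι (A ⊗ A) (U t) := Over.OverMorphism.ext (by simp [r, U])
    have hs : s ≫ subι (A ⊗ A) (U₂ t) = subι (A ⊗ A) (U t) := Over.OverMorphism.ext (by simp [s, U])
    obtain ⟨a, ha, -⟩ := exists_bc_pt r (ha₁ t)
    obtain ⟨b, hb, -⟩ := exists_bc_pt s (ha₂ t)
    rw [← Category.assoc, hr] at ha
    rw [← Category.assoc, hs] at hb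
    exact ⟨a, b, ha, hb⟩
  choose la lb hla hlb using hl
  let p := fun t => bcLift A L (subι (A ⊗ A) (U t))
  let c := fun t => com (la t) (lb t)
  have hc : ∀ t, (c t).1.hom.base = 𝟙 _ := fun t => by
    rw [show (c t).1.hom.base = _ from isOverPt_com (hla t) (hlb t), transl_one]; rfl
  haveI := hq (A ⊗ A)
  -- the commutators glue
  obtain ⟨q, hqb, hqp⟩ := exists_desc_cover p (cover_mem A U fun t => ⟨t, hU₁ t, hU₂ t⟩)
      (fun t => (c t).1.hom ≫ p t) (𝟙 _) (fun t => by
        show _ = (c t).1.hom.base ≫ _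
        rw [hc t, Category.comp_id, Category.id_comp]) (fun Z t t' a a' h => by
    let W := U t ⊓ U t'
    let r : sub (A ⊗ A) W ⟶ sub (A ⊗ A) (U t) := Over.homMk ((A ⊗ A).left.homOfLE inf_le_left) (by simp [W])
    let r' : sub (A ⊗ A) W ⟶ sub (A ⊗ A) (U t') := Over.homMk ((A ⊗ A).left.homOfLE inf_le_right) (by simp [W])
    have hr : r ≫ subι (A ⊗ A) (U t) = subι (A ⊗ A) W := Over.OverMorphism.ext (by simp [r, W])
    have hr' : r' ≫ subι (A ⊗ A) (U t') = subι (A ⊗ A) W := Over.OverMorphism.ext (by simp [r', W])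
    have hb : a.base ≫ (A ◁ subι (A ⊗ A) (U t)).left = a'.base ≫ (A ◁ subι (A ⊗ A) (U t')).left :=
      congrArg CoGrothendieck.Hom.base h
    have e : ∀ (v : ↥(A ⊗ A).left → Prop) (t : ↥(A ⊗ A).left) (a : Z.base ⟶ (A ⊗ sub (A ⊗ A) (U t)).left) (z : Z.base),
        (∀ w ∈ U t, v w) → v (((a ≫ (A ◁ subι (A ⊗ A) (U t)).left) ≫ (snd A (A ⊗ A)).left) z) := fun v t a z hv => by
      rw [Category.assoc, (isPullback_whiskerLeft_left A (subι (A ⊗ A) (U t))).w]
      exact hv _ ((snd A (sub (A ⊗ A) (U t))).left (a z)).2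
    have hrange : Set.range ((a.base ≫ (A ◁ subι (A ⊗ A) (U t)).left) ≫ (snd A (A ⊗ A)).left) ⊆ Set.range W.ι := by
      rw [Scheme.Opens.range_ι]
      rintro _ ⟨z, rfl⟩
      refine ⟨e _ t a.base z fun w hw => hw, ?_⟩
      rw [hb]
      exact e _ t' a'.base z fun w hw => hw
    let w := (isPullback_whiskerLeft_left A (subι (A ⊗ A) W)).lift (a.base ≫ (A ◁ subι (A ⊗ A) (U t)).left)
      (IsOpenImmersion.lift W.ι _ hrange) (IsOpenImmersion.lift_fac _ _ _).symm
    have hw : w ≫ (A ◁ subι (A ⊗ A) W).left = a.base ≫ (A ◁ subι (A ⊗ A) (U t)).left :=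
      (isPullback_whiskerLeft_left A (subι (A ⊗ A) W)).lift_fst _ _ _
    obtain ⟨s, hsb, hs, -⟩ := exists_lift (bcLift A L (subι (A ⊗ A) W)) (a ≫ p t) w hw
    have hm : ∀ t, Mono (A ◁ subι (A ⊗ A) (U t)).left := fun t => by
      haveI : IsOpenImmersion (A ◁ subι (A ⊗ A) (U t)).left :=
        MorphismProperty.of_isPullback (P := @IsOpenImmersion) (isPullback_whiskerLeft_left A (subι (A ⊗ A) (U t))).flip
          (inferInstanceAs (IsOpenImmersion (U t).ι))
      infer_instance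
    have hsa : s ≫ bcLift A L r = a := by
      haveI := hm t
      refine lift_unique (p t) ((cancel_mono (A ◁ subι (A ⊗ A) (U t)).left).1 ?_) ?_
      · show (s.base ≫ (A ◁ r).left) ≫ _ = _
        rw [hsb, Category.assoc, ← Over.comp_left, ← MonoidalCategory.whiskerLeft_comp, hr, hw]
      · rw [Category.assoc, ← bcLift_comp, hr, hs]
    have hsa' : s ≫ bcLift A L r' = a' := by
      haveI := hm t'
      refine lift_unique (p t') ((cancel_mono (A ◁ subι (A ⊗ A) (U t')).left).1 ?_) ?_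
      · show (s.base ≫ (A ◁ r').left) ≫ _ = _
        rw [hsb, Category.assoc, ← Over.comp_left, ← MonoidalCategory.whiskerLeft_comp, hr', hw]
        exact hb
      · rw [Category.assoc, ← bcLift_comp, hr', hs, h]
    obtain ⟨α, hα, eα⟩ := exists_bc_pt r (hla t)
    obtain ⟨β, hβ, eβ⟩ := exists_bc_pt r (hlb t)
    obtain ⟨α', hα', eα'⟩ := exists_bc_pt r' (hla t')
    obtain ⟨β', hβ', eβ'⟩ := exists_bc_pt r' (hlb t')
    rw [← Category.assoc, hr] at hα hβ
    rw [← Category.assoc, hr'] at hα' hβ'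
    have h1 := bc_com eα eβ
    have h2 := bc_com eα' eβ'
    rw [com_eq hL hα hβ hα' hβ'] at h1
    show a ≫ (c t).1.hom ≫ p t = a' ≫ (c t').1.hom ≫ p t'
    rw [← hsa, ← hsa', Category.assoc, Category.assoc, ← Category.assoc (bcLift A L r),
      ← Category.assoc (bcLift A L r'), ← h1, ← h2, Category.assoc, Category.assoc, ← bcLift_comp, ← bcLift_comp, hr, hr'])
  -- the glued commutator is constant
  obtain ⟨g, hg⟩ := exists_smul hL q hqb
  obtain ⟨κ, rfl⟩ := surjective_appTop_square (A := A) g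
  let o : 𝟙_ (Over (Spec (CommRingCat.of k))) ⟶ A ⊗ A := lift 1 1
  let t₀ := o.left (show ↥(𝟙_ (Over (Spec (CommRingCat.of k)))).left from (default : PrimeSpectrum k))
  have ho : Set.range o.left ⊆ Set.range (U t₀).ι := by
    rw [Scheme.Opens.range_ι]
    rintro _ ⟨z, rfl⟩
    rw [show z = (show ↥(𝟙_ (Over (Spec (CommRingCat.of k)))).left from (default : PrimeSpectrum k)) from
      (Subsingleton.elim (α := PrimeSpectrum k) _ _)]
    exact ⟨hU₁ t₀, hU₂ t₀⟩
  let o' : 𝟙_ (Over (Spec (CommRingCat.of k))) ⟶ sub (A ⊗ A) (U t₀) :=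
    Over.homMk (IsOpenImmersion.lift (U t₀).ι o.left ho) (by
      show IsOpenImmersion.lift (U t₀).ι o.left ho ≫ (U t₀).ι ≫ (A ⊗ A).hom = _
      rw [IsOpenImmersion.lift_fac_assoc]; exact Over.w o)
  have ho' : o' ≫ subι (A ⊗ A) (U t₀) = o := Over.OverMorphism.ext (IsOpenImmersion.lift_fac _ _ _)
  have hκ : κ = 1 := by
    obtain ⟨α, hα, eα⟩ := exists_bc_pt o' (hla t₀)
    obtain ⟨β, hβ, eβ⟩ := exists_bc_pt o' (hlb t₀)
    rw [← Category.assoc, ho'] at hα hβ
    simp only [o, lift_fst, lift_snd] at hα hβ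
    have h1 : com α β = 1 := inv_mul_eq_one.2 (central hL hβ α)
    have h2 : (com α β).1.hom ≫ bcLift A L o' = _ := bc_com eα eβ
    rw [h1, one_hom, Category.id_comp] at h2
    have h3 : bcLift A L o ≫ q = bcLift A L o := by
      rw [← ho', bcLift_comp, Category.assoc, show bcLift A L (subι (A ⊗ A) (U t₀)) ≫ q = _ from hqp t₀,
        ← Category.assoc, ← h2]
    rw [hg, comp_smul_eq] at h3
    refine eq_one_of_smul_eq (A := A) hL (lift_unique (bcLift A L o) rfl ?_)
    rw [Category.id_comp]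
    refine Eq.trans (congrArg (smul _ · ≫ bcLift A L o) ?_) h3
    show (snd A (𝟙_ _)).left.appTop κ = ((A ◁ o) ≫ snd A (A ⊗ A) ≫ toUnit (A ⊗ A)).left.appTop κ
    rw [Subsingleton.elim ((A ◁ o) ≫ snd A (A ⊗ A) ≫ toUnit (A ⊗ A)) (snd A (𝟙_ _))]
  have hq1 : q = 𝟙 _ := by
    rw [hg, hκ, map_one, map_one]
    exact smul_one _
  have hcomm : ∀ t, la t * lb t = lb t * la t := fun t => by
    have h1 : (c t).1.hom = 𝟙 _ := lift_unique (p t) (hc t) (by
      rw [Category.id_comp]
      exact ((hqp t).symm.trans (by rw [hq1]; exact Category.comp_id _)))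
    exact (inv_mul_eq_one.1 (Subtype.ext (Iso.ext h1) : c t = 1)).symm
  -- pull back to the points
  obtain ⟨x, hx⟩ := β₁.2
  obtain ⟨y, hy⟩ := β₂.2
  let z := lift x y
  refine comm_of_local hq hx hy (fun t => z.left ⁻¹ᵁ U (z.left t)) (fun t => ⟨t, hU₁ (z.left t), hU₂ (z.left t)⟩)
    fun t α' β' hα hβ _ _ => ?_
  let r : sub T (z.left ⁻¹ᵁ U (z.left t)) ⟶ sub (A ⊗ A) (U (z.left t)) :=
    Over.homMk (z.left ∣_ U (z.left t)) (by
      show (z.left ∣_ U (z.left t)) ≫ (U (z.left t)).ι ≫ (A ⊗ A).hom = _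
      rw [morphismRestrict_ι_assoc, Over.w z]; rfl)
  have hr : r ≫ subι (A ⊗ A) (U (z.left t)) = subι T (z.left ⁻¹ᵁ U (z.left t)) ≫ z :=
    Over.OverMorphism.ext (morphismRestrict_ι _ _)
  obtain ⟨α, ha, eα⟩ := exists_bc_pt r (hla (z.left t))
  obtain ⟨β, hb, eβ⟩ := exists_bc_pt r (hlb (z.left t))
  rw [← Category.assoc, hr, Category.assoc] at ha hb
  simp only [z, lift_fst, lift_snd] at ha hb
  have hab : α * β = β * α := by
    have h1 := bc_mul eα eβ
    rw [hcomm] at h1
    have o1 := isOverPt_mul ha hb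
    have o2 := isOverPt_mul hb ha
    rw [_root_.mul_comm] at o1
    exact bc_unique o1 o2 h1 (bc_mul eβ eα)
  exact (comm_of_over hL hb hβ (comm_of_over hL ha hα hab).symm).symm

end Groth.Agent.ThetaLib
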