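import Groth.Agent.ThetaLib.BC
import Groth.Agent.ThetaLib.KLPoints
import Groth.Agent.AVLib.Isog
import Groth.Prelude.Def_AlgGrp

/-!
# Lifting and descending points of theta groups along a homomorphism
-/

set_option autoImplicit false
set_option backward.isDefEq.respectTransparency false
set_option backward.defeqAttrib.useBackward true
set_option linter.style.haveILetI false

universe u

open CategoryTheory CategoryTheory.Limits MonoidalCategory CartesianMonoidalCategory MonObj AlgebraicGeometry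
open Pseudofunctor Bicategory
open Groth.Agent

noncomputable section

namespace Groth.Agent.ThetaLib

open ThetaGrp

variable {k : Type u} [Field k] {A B : Over (Spec (CommRingCat.of k))} [GrpObj A] [GrpObj B]
  (f : A ⟶ B) [IsMonHom f] (M : B.left.Modules)

/-- The inverse image of the module. -/
abbrev pb : A.left.Modules := (Scheme.Modules.pullback f.left).obj M

theorem exists_P (T : Over (Spec (CommRingCat.of k))) :
    ∃ g : thetaObj A (pb f M) T ⟶ thetaObj B M T, g.base = (f ▷ T).left ∧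
      g ≫ proj B M T = descMor f (Iso.refl _) T ∧ IsIso g.fiber := by
  obtain ⟨g, h1, h2, h3⟩ := exists_lift (proj B M T) (descMor (M := M) f (Iso.refl (pb f M)) T) (f ▷ T).left (by
    show (f ▷ T).left ≫ (fst B T).left = (fst A T).left ≫ f.left
    rw [← Over.comp_left, whiskerRight_fst, Over.comp_left])
  exact ⟨g, h1, h2, h3 inferInstance⟩

/-- The morphism of pairs induced by the homomorphism. -/
def P (T : Over (Spec (CommRingCat.of k))) : thetaObj A (pb f M) T ⟶ thetaObj B M T :=
  (exists_P f M T).choose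

theorem P_base (T : Over (Spec (CommRingCat.of k))) : (P f M T).base = (f ▷ T).left :=
  (exists_P f M T).choose_spec.1

theorem P_proj (T : Over (Spec (CommRingCat.of k))) : P f M T ≫ proj B M T = descMor f (Iso.refl _) T :=
  (exists_P f M T).choose_spec.2.1

instance isIso_P_fiber (T : Over (Spec (CommRingCat.of k))) : IsIso (P f M T).fiber :=
  (exists_P f M T).choose_spec.2.2

theorem P_natural {V T : Over (Spec (CommRingCat.of k))} (r : V ⟶ T) :
    bcLift A (pb f M) r ≫ P f M T = P f M V ≫ bcLift B M r := by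
  refine lift_unique (proj B M T) ?_ ?_
  · show (A ◁ r).left ≫ (P f M T).base = (P f M V).base ≫ (B ◁ r).left
    rw [P_base, P_base, ← Over.comp_left, ← Over.comp_left, MonoidalCategory.whisker_exchange]
  · rw [Category.assoc, P_proj, descMor_natural, Category.assoc, bcLift_proj, P_proj]

theorem transl_whisker {T : Over (Spec (CommRingCat.of k))} (x : T ⟶ A) :
    transl A x ≫ (f ▷ T) = (f ▷ T) ≫ transl B (x ≫ f) := by
  apply CartesianMonoidalCategory.hom_ext
  · simp [transl, MonObj.comp_mul, MonObj.mul_comp]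
  · simp [transl]

/-- The kernel acts on the inverse image compatibly with the morphism to the target. -/
theorem exists_canonicalP {T : Over (Spec (CommRingCat.of k))} (m : T ⟶ A) (hm : m ≫ f = 1) :
    ∃ c : thetaPts A (pb f M) T, IsOverPt c m ∧ c.1.hom ≫ P f M T = P f M T := by
  obtain ⟨c, hc, hcd⟩ := exists_canonical (M := M) f (Iso.refl (pb f M)) m hm
  refine ⟨c, hc, lift_unique (proj B M T) ?_ ?_⟩
  · show c.1.hom.base ≫ (P f M T).base = (P f M T).base
    rw [hc, P_base, ← Over.comp_left, transl_whisker, hm, transl_one, Category.comp_id]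
  · rw [Category.assoc, P_proj]
    exact hcd

/-- A point of the theta group of the target lifts. -/
theorem exists_pull {T : Over (Spec (CommRingCat.of k))} {x : T ⟶ A} {c : thetaPts B M T} (hc : IsOverPt c (x ≫ f)) :
    ∃ β : thetaPts A (pb f M) T, IsOverPt β x ∧ β.1.hom ≫ P f M T = P f M T ≫ c.1.hom := by
  haveI : IsIso c.1.hom.fiber := isIso_fiber c.1.hom
  haveI : IsIso (P f M T ≫ c.1.hom).fiber := isIso_comp_fiber _ _
  obtain ⟨g, hb, hg, hiso⟩ := exists_lift (P f M T) (P f M T ≫ c.1.hom) (transl A x).left (by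
    show (transl A x).left ≫ (P f M T).base = (P f M T).base ≫ c.1.hom.base
    rw [P_base, hc, ← Over.comp_left, ← Over.comp_left, transl_whisker])
  haveI : IsIso g.fiber := hiso inferInstance
  haveI : IsIso g.base := hb ▸ isIso_transl' x
  haveI : IsIso g := isIso_of_components g
  exact ⟨⟨asIso g, x, hb⟩, hb, hg⟩

variable [IsCommMonObj A]

/-- A point lying below commutes with the kernel. -/
theorem comm_canonical {T : Over (Spec (CommRingCat.of k))} {x m : T ⟶ A} {β c : thetaPts A (pb f M) T}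
    {d : thetaPts B M T} (hβ : IsOverPt β x) (hβP : β.1.hom ≫ P f M T = P f M T ≫ d.1.hom) (hc : IsOverPt c m)
    (hcP : c.1.hom ≫ P f M T = P f M T) : β * c = c * β := by
  refine Subtype.ext (Iso.ext (lift_unique (P f M T) ?_ ?_))
  · have h1 := isOverPt_mul hβ hc
    have h2 := isOverPt_mul hc hβ
    rw [_root_.mul_comm] at h1
    exact h1.trans h2.symm
  · show (c.1.hom ≫ β.1.hom) ≫ P f M T = (β.1.hom ≫ c.1.hom) ≫ P f M T
    rw [Category.assoc, Category.assoc, hβP, hcP, ← Category.assoc c.1.hom, hcP, hβP]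

theorem isInvertible_pb {M : B.left.Modules} (hM : PicF.IsInvertible M) : PicF.IsInvertible (pb f M) :=
  AmpleLib.isInvertible_pullback _ hM

theorem qcoh_theta {M : B.left.Modules} (hM : PicF.IsInvertible M) (T : Over (Spec (CommRingCat.of k))) :
    Coh.IsQCoh (X := (B ⊗ T).left) (thetaObj B M T).fiber :=
  InvExt.isQCoh_of_isInvertible (isInvertible_fiber hM T)

variable [IsProper A.hom] [GeometricallyIntegral A.hom] [IsCommMonObj B] [IsProper B.hom] [GeometricallyIntegral B.hom]
variable {N : Over (Spec (CommRingCat.of k))} [GrpObj N] {i : N ⟶ A} {M}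

/-- A point whose image lies in `K(M)` is orthogonal to the kernel. -/
theorem isPerpPt_of_factor (hM : PicF.IsInvertible M) (hN : AlgGrp.IsKernel i f)
    {K : Over (Spec (CommRingCat.of k))} {iK : K ⟶ B} (hK : IsKL B M iK) {T : Over (Spec (CommRingCat.of k))}
    {x : T ⟶ A} (h : ∃ y : T ⟶ K, y ≫ iK = x ≫ f) : IsPerpPt (pb f M) i x := by
  obtain ⟨y, hy⟩ := h
  intro T' r n β₁ β₂ h₁ h₂
  obtain hloc := (factor_iff hM hK (r ≫ x ≫ f)).1 ⟨r ≫ y, by rw [Category.assoc, hy]⟩
  choose U hU d hd using hloc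
  refine comm_of_local (fun V => qcoh_theta (isInvertible_pb f hM) V) h₁ h₂ U (fun t => ⟨t, hU t⟩)
    fun t α' β' ha hb _ _ => ?_
  have hd' : IsOverPt (d t) ((subι T' (U t) ≫ r ≫ x) ≫ f) := by
    simp only [Category.assoc]
    exact hd t
  obtain ⟨β, hβ, hβP⟩ := exists_pull f M hd'
  have hi : i ≫ f = 1 := by rw [hN.w, Hom.one_def]
  obtain ⟨c, hc, hcP⟩ := exists_canonicalP f M (subι T' (U t) ≫ n ≫ i) (by
    rw [Category.assoc, Category.assoc, hi, MonObj.comp_one, MonObj.comp_one])
  have hL := isInvertible_pb f hM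
  exact (comm_of_over hL hc hb (comm_of_over hL hβ ha (comm_canonical f M hβ hβP hc hcP)).symm).symm

/-- A point commuting with the kernel descends. -/
theorem exists_descend_hom (hM : PicF.IsInvertible M) [Flat f.left] [Surjective f.left] [QuasiCompact f.left]
    (hN : AlgGrp.IsKernel i f) {T : Over (Spec (CommRingCat.of k))} {x : T ⟶ A} {β : thetaPts A (pb f M) T}
    (hβ : IsOverPt β x) (hcomm : IsPerpPt (pb f M) i x) :
    ∃ g : thetaObj B M T ⟶ thetaObj B M T, g.base = (transl B (x ≫ f)).left ∧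
      P f M T ≫ g = β.1.hom ≫ P f M T := by
  have hf : Presieve.ofArrows (fun _ : PUnit.{u + 1} => (thetaObj A (pb f M) T).base) (fun _ => (P f M T).base) ∈
      Scheme.fpqcPrecoverage (thetaObj B M T).base := by
    rw [P_base, Presieve.ofArrows_pUnit]
    have hsq := (isPullback_whiskerRight_left T f).flip
    haveI : Flat (f ▷ T).left := MorphismProperty.of_isPullback (P := @Flat) hsq ‹_›
    haveI : Surjective (f ▷ T).left := MorphismProperty.of_isPullback (P := @Surjective) hsq ‹_›
    haveI : QuasiCompact (f ▷ T).left := MorphismProperty.of_isPullback (P := @QuasiCompact) hsq ‹_›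
    exact Scheme.Hom.singleton_mem_fpqcPrecoverage _
  haveI := qcoh_theta hM T
  refine (exists_desc_cover (fun _ : PUnit.{u + 1} => P f M T) hf (fun _ => β.1.hom ≫ P f M T)
    (transl B (x ≫ f)).left (fun _ => by
      show (P f M T).base ≫ _ = β.1.hom.base ≫ (P f M T).base
      rw [P_base, hβ, ← Over.comp_left, ← Over.comp_left, transl_whisker]) ?_).elim fun g hg =>
        ⟨g, hg.1, hg.2 PUnit.unit⟩
  rintro Z - - a a' h
  let Z' : Over (Spec (CommRingCat.of k)) := Over.mk (a.base ≫ (A ⊗ T).hom)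
  have hb : a.base ≫ (f ▷ T).left = a'.base ≫ (f ▷ T).left := by
    have h' := congrArg CoGrothendieck.Hom.base h
    rwa [CoGrothendieck.categoryStruct_comp_base, CoGrothendieck.categoryStruct_comp_base, P_base] at h'
  let a₀ : Z' ⟶ A ⊗ T := Over.homMk a.base rfl
  let a₀' : Z' ⟶ A ⊗ T := Over.homMk a'.base (by
    show a'.base ≫ (A ⊗ T).hom = a.base ≫ (A ⊗ T).hom
    rw [← Over.w (f ▷ T), ← Category.assoc, ← hb, Category.assoc])
  have hb' : a₀ ≫ (f ▷ T) = a₀' ≫ (f ▷ T) := Over.OverMorphism.ext hb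
  let t := a₀ ≫ snd A T
  let z := a₀ ≫ fst A T
  let z' := a₀' ≫ fst A T
  have ht : a₀' ≫ snd A T = t := by
    have := congrArg (fun q => q ≫ snd B T) hb'
    simpa using this.symm
  have hz : z' ≫ f = z ≫ f := by
    have := congrArg (fun q => q ≫ fst B T) hb'
    simpa [z, z'] using this.symm
  let m := z' * z⁻¹
  have hm : m ≫ f = 1 := by
    rw [MonObj.mul_comp, hz, ← MonObj.mul_comp, mul_inv_cancel, MonObj.one_comp]
  let n : Z' ⟶ N := hN.lift m (toUnit Z') (by rw [hm, Hom.one_def])
  have hn : n ≫ i = m := hN.lift_fst _ _ _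
  obtain ⟨s, hsb, hs, -⟩ := exists_lift (bcLift A (pb f M) t) a (lift z (𝟙 Z')).left (by
    show (lift z (𝟙 Z')).left ≫ (A ◁ t).left = a₀.left
    rw [← Over.comp_left]
    congr 1
    apply CartesianMonoidalCategory.hom_ext <;> simp [z, t])
  obtain ⟨c, hc, hcP⟩ := exists_canonicalP f M (T := Z') m hm
  obtain ⟨β', hβ', hbc⟩ := exists_bc_pt t hβ
  have hcc : β' * c = c * β' := hcomm Z' t n β' c hβ' (by rw [hn]; exact hc)
  have ha : a' = s ≫ c.1.hom ≫ bcLift A (pb f M) t := by
    refine lift_unique (P f M T) ?_ ?_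
    · show a₀'.left = s.base ≫ c.1.hom.base ≫ (A ◁ t).left
      rw [hsb, hc, ← Over.comp_left, ← Over.comp_left]
      congr 1
      apply CartesianMonoidalCategory.hom_ext
      · simp [transl, MonObj.comp_mul, m, z']
      · simp [transl, ht]
    · simp only [Category.assoc]
      rw [← h, P_natural, reassoc_of% hcP, ← P_natural, reassoc_of% hs]
  have hcc' : c.1.hom ≫ β'.1.hom = β'.1.hom ≫ c.1.hom := congrArg (fun q : thetaPts A (pb f M) Z' => q.1.hom) hcc
  show a ≫ β.1.hom ≫ P f M T = a' ≫ β.1.hom ≫ P f M T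
  rw [ha, ← hs]
  simp only [Category.assoc]
  rw [← reassoc_of% hbc, reassoc_of% hcc', P_natural, reassoc_of% hcP]

/-- A point orthogonal to the kernel descends to a point of the theta group of the target. -/
theorem exists_push (hM : PicF.IsInvertible M) [Flat f.left] [Surjective f.left] [QuasiCompact f.left]
    (hN : AlgGrp.IsKernel i f) {T : Over (Spec (CommRingCat.of k))} {x : T ⟶ A} {β : thetaPts A (pb f M) T}
    (hβ : IsOverPt β x) (hcomm : IsPerpPt (pb f M) i x) : ∃ d : thetaPts B M T, IsOverPt d (x ≫ f) := by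
  have hcomm' : IsPerpPt (pb f M) i x⁻¹ := fun T' r y β₁ β₂ h₁ h₂ => by
    have h := isOverPt_inv h₁
    rw [GrpObj.comp_inv, inv_inv] at h
    exact (Commute.inv_left_iff.1 (hcomm T' r y β₁⁻¹ β₂ h h₂ : Commute β₁⁻¹ β₂)).eq
  obtain ⟨g, hg, hgP⟩ := exists_descend_hom f hM hN hβ hcomm
  obtain ⟨g', hg', hgP'⟩ := exists_descend_hom f hM hN (isOverPt_inv hβ) hcomm'
  have hf : Presieve.ofArrows (fun _ : PUnit.{u + 1} => (thetaObj A (pb f M) T).base) (fun _ => (P f M T).base) ∈
      Scheme.fpqcPrecoverage (thetaObj B M T).base := by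
    rw [P_base, Presieve.ofArrows_pUnit]
    have hsq := (isPullback_whiskerRight_left T f).flip
    haveI : Flat (f ▷ T).left := MorphismProperty.of_isPullback (P := @Flat) hsq ‹_›
    haveI : Surjective (f ▷ T).left := MorphismProperty.of_isPullback (P := @Surjective) hsq ‹_›
    haveI : QuasiCompact (f ▷ T).left := MorphismProperty.of_isPullback (P := @QuasiCompact) hsq ‹_›
    exact Scheme.Hom.singleton_mem_fpqcPrecoverage _
  haveI := qcoh_theta hM T
  have key : ∀ {z : T ⟶ B} (p q : thetaObj B M T ⟶ thetaObj B M T) (α : thetaPts A (pb f M) T),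
      p.base = (transl B z).left → q.base = (transl B z⁻¹).left → P f M T ≫ p = α.1.hom ≫ P f M T →
      P f M T ≫ q = α.1.inv ≫ P f M T → p ≫ q = 𝟙 _ := fun {z} p q α hp hq hPp hPq => by
    refine hom_ext_cover (fun _ : PUnit.{u + 1} => P f M T) hf ?_ fun _ => ?_
    · show p.base ≫ q.base = 𝟙 _
      rw [hp, hq, ← Over.comp_left, ← transl_mul, mul_inv_cancel, transl_one]
      rfl
    · rw [reassoc_of% hPp, hPq, Category.comp_id, Iso.hom_inv_id_assoc]
  refine ⟨⟨⟨g, g', key g g' β hg ?_ hgP hgP', key g' g β⁻¹ hg' ?_ hgP' hgP⟩, x ≫ f, hg⟩, hg⟩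
  · rw [← GrpObj.inv_comp]
    exact hg'
  · rw [← GrpObj.inv_comp, inv_inv]
    exact hg

theorem isPerpPt_restrict {H : Over (Spec (CommRingCat.of k))} {iH : H ⟶ A} {L : A.left.Modules}
    {V T : Over (Spec (CommRingCat.of k))} (r : V ⟶ T) {x : T ⟶ A} (h : IsPerpPt L iH x) : IsPerpPt L iH (r ≫ x) :=
  fun T' s y β₁ β₂ h₁ h₂ => h T' (s ≫ r) y β₁ β₂ (by rw [Category.assoc]; exact h₁) h₂

/-- A point has image in `K(M)` exactly when it is a point of `K(f^* M)` orthogonal to the kernel. -/
theorem factor_comp_iff (hM : PicF.IsInvertible M) (hf : Surjective f.left) (hN : AlgGrp.IsKernel i f)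
    {KL : Over (Spec (CommRingCat.of k))} {iL : KL ⟶ A} (hKL : IsKL A (pb f M) iL)
    {KM : Over (Spec (CommRingCat.of k))} {iM : KM ⟶ B} (hKM : IsKL B M iM)
    {T : Over (Spec (CommRingCat.of k))} (x : T ⟶ A) :
    (∃ y : T ⟶ KM, y ≫ iM = x ≫ f) ↔ ((∃ y : T ⟶ KL, y ≫ iL = x) ∧ IsPerpPt (pb f M) i x) := by
  constructor
  · intro h
    refine ⟨(factor_iff (isInvertible_pb f hM) hKL x).2 fun t => ?_, isPerpPt_of_factor f hM hN hKM h⟩
    obtain ⟨U, hU, d, hd⟩ := (factor_iff hM hKM (x ≫ f)).1 h t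
    obtain ⟨β, hβ, -⟩ := exists_pull f M (x := subι T U ≫ x) (c := d) (by rw [Category.assoc]; exact hd)
    exact ⟨U, hU, β, hβ⟩
  · rintro ⟨hy, hperp⟩
    haveI := hf
    haveI : IsIntegral B.left := GeometricallyIntegral.isIntegral_of_subsingleton B.hom
    haveI := AVLib.isProper_hom f
    haveI : Flat f.left := AVLib.flat_of_surjective f
    refine (factor_iff hM hKM (x ≫ f)).2 fun t => ?_
    obtain ⟨U, hU, β, hβ⟩ := (factor_iff (isInvertible_pb f hM) hKL x).1 hy t
    obtain ⟨d, hd⟩ := exists_push f hM hN hβ (isPerpPt_restrict (subι T U) hperp)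
    rw [Category.assoc] at hd
    exact ⟨U, hU, d, hd⟩

end Groth.Agent.ThetaLib
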