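import Groth.Agent.ThetaLib.Representable
import Groth.Agent.ThetaLib.Descent
import Groth.Agent.CogenLib.Basic
import Groth.Agent.GmTorsor.Points
import Groth.Agent.MonoFibre.MultType
import Groth.Agent.S3036

/-!
# Level subgroups are closed subgroups of the abelian variety, and the module descends to the quotient
-/

set_option autoImplicit false
set_option backward.isDefEq.respectTransparency false
set_option backward.defeqAttrib.useBackward true
set_option linter.style.haveILetI false
set_option linter.unusedSectionVars false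

universe u

open CategoryTheory CategoryTheory.Limits MonoidalCategory CartesianMonoidalCategory MonObj AlgebraicGeometry
open Groth.Agent

noncomputable section

namespace Groth.Agent.ThetaLib

open ThetaGrp

variable {k : Type u} [Field k] {A : Over (Spec (CommRingCat.of k))} [GrpObj A] [IsCommMonObj A]
  [IsProper A.hom] [GeometricallyIntegral A.hom] {L : A.left.Modules}
  {G : Over (Spec (CommRingCat.of k))} [GrpObj G] {u : thetaPts A L G}
  {H : Over (Spec (CommRingCat.of k))} [GrpObj H] {j : H ⟶ G} {iH : H ⟶ A}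

theorem isMonHom_of_hover (hG : IsThetaGrpSch A L G u) [IsMonHom j]
    (hover : ∀ (T : Over (Spec (CommRingCat.of k))) (h : T ⟶ H) (β : thetaPts A L T),
      IsBaseChange β (h ≫ j) u → IsOverPt β (h ≫ iH)) : IsMonHom iH := by
  refine ⟨?_, ?_⟩
  · obtain ⟨β, hb, hun⟩ := hG.exists_bc (𝟙_ _) (η[H] ≫ j)
    have hb' : IsBaseChange β (1 : 𝟙_ (Over (Spec (CommRingCat.of k))) ⟶ G) u := by
      rw [show (1 : 𝟙_ (Over (Spec (CommRingCat.of k))) ⟶ G) = η[G] by
        rw [Hom.one_def, toUnit_unit, Category.id_comp]]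
      rwa [IsMonHom.one_hom] at hb
    have h1 : β = 1 := by
      have h := hG.mul _ _ _ _ _ hb' hb'
      rw [_root_.mul_one] at h
      exact mul_eq_left.1 ((hG.exists_bc _ _).unique h hb')
    have o := hover _ η[H] β hb
    rw [h1] at o
    rw [transl_injective (o.symm.trans isOverPt_one), Hom.one_def, toUnit_unit, Category.id_comp]
  · obtain ⟨β₁, h₁, -⟩ := hG.exists_bc (H ⊗ H) (fst H H ≫ j)
    obtain ⟨β₂, h₂, -⟩ := hG.exists_bc (H ⊗ H) (snd H H ≫ j)
    have h12 := hG.mul _ _ _ _ _ h₁ h₂
    rw [← MonObj.mul_comp, Hom.mul_def, lift_fst_snd, Category.id_comp] at h12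
    have o := transl_injective ((hover _ μ[H] _ h12).symm.trans (isOverPt_mul (hover _ _ _ h₁) (hover _ _ _ h₂)))
    rw [o, mul_comm, Hom.mul_def]
    congr 1

theorem mono_of_hover (hG : IsThetaGrpSch A L G u) (hj : IsLevelSubgrp u j)
    (hover : ∀ (T : Over (Spec (CommRingCat.of k))) (h : T ⟶ H) (β : thetaPts A L T),
      IsBaseChange β (h ≫ j) u → IsOverPt β (h ≫ iH)) : Mono iH := by
  haveI := hj.2.1
  haveI := isMonHom_of_hover hG hover
  refine ⟨fun {T} a b e => ?_⟩
  obtain ⟨β, hb, -⟩ := hG.exists_bc T ((a / b) ≫ j)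
  refine div_eq_one.1 (hj.2.2 T (a / b) β hb ?_)
  have h := hover T (a / b) β hb
  rwa [GrpObj.div_comp, e, div_self'] at h

/-- A level subgroup is a closed subgroup of the abelian variety. -/
theorem isClosedImmersion_of_hover (hL : PicF.IsInvertible L) (hG : IsThetaGrpSch A L G u)
    (hj : IsLevelSubgrp u j)
    (hover : ∀ (T : Over (Spec (CommRingCat.of k))) (h : T ⟶ H) (β : thetaPts A L T),
      IsBaseChange β (h ≫ j) u → IsOverPt β (h ≫ iH)) : IsClosedImmersion iH.left := by
  haveI := hj.1
  haveI := hj.2.1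
  haveI := isMonHom_of_hover hG hover
  haveI := mono_of_hover hG hj hover
  obtain ⟨K, iK, hK⟩ := exists_isKL (A := A) hL
  haveI := hK.closed
  haveI : Mono iK := Over.mono_of_mono_left iK
  haveI : LocallyOfFiniteType K.hom := by rw [← Over.w iK]; infer_instance
  choose U hU β hβ using (factor_iff hL hK iK).1 ⟨𝟙 K, Category.id_comp _⟩
  obtain ⟨βj, hbj, -⟩ := hG.exists_bc H j
  have oj : IsOverPt βj iH := by
    have h := hover H (𝟙 H) βj (by rwa [Category.id_comp])
    rwa [Category.id_comp] at h
  obtain ⟨iH', hiH'⟩ : ∃ y : H ⟶ K, y ≫ iK = iH :=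
    (factor_iff hL hK iH).2 fun p => ⟨⊤, trivial, pullPt (subι H ⊤) βj, isOverPt_pullPt _ oj⟩
  have hcov : (⨆ t, U t) = (⊤ : K.left.Opens) := by
    refine top_le_iff.1 fun x _ => ?_
    exact TopologicalSpace.Opens.mem_iSup.2 ⟨x, hU x⟩
  haveI : IsAffineHom (Red.Gm (Spec (CommRingCat.of k))).hom := GmTorsor.isAffineHom_Gm
  have key : ∀ t, LocallyOfFiniteType (iH'.left ∣_ U t) ∧ QuasiCompact (iH'.left ∣_ U t) := fun t => by
    let V : H.left.Opens := iH'.left ⁻¹ᵁ U t
    let Z := sub K (U t) ⊗ Red.Gm (Spec (CommRingCat.of k))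
    let e : thetaPts A L Z :=
      pullPt (fst _ _) (β t) * sc (GmPts.unitOfPt (snd (sub K (U t)) (Red.Gm (Spec (CommRingCat.of k)))))
    let l : sub H V ⟶ sub K (U t) := Over.homMk (iH'.left ∣_ U t) (by
      show _ ≫ (U t).ι ≫ K.hom = _
      rw [← Category.assoc, morphismRestrict_ι, Category.assoc, Over.w iH']; rfl)
    have hl : l ≫ subι K (U t) = subι H V ≫ iH' := Over.OverMorphism.ext (morphismRestrict_ι _ _)
    have o1 : IsOverPt (pullPt l (β t)) (subι H V ≫ iH) := by
      have h := isOverPt_pullPt l (hβ t)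
      rwa [← Category.assoc, hl, Category.assoc, hiH'] at h
    have o2 := isOverPt_pullPt (subι H V) oj
    have o3 : IsOverPt ((pullPt l (β t))⁻¹ * pullPt (subι H V) βj) 1 := by
      have h := isOverPt_mul (isOverPt_inv o1) o2
      rwa [mul_inv_cancel] at h
    obtain ⟨w, hw, -⟩ := exists_sc hL _ o3
    let a : sub H V ⟶ Z := lift l (GmPts.ptOfUnit w)
    obtain ⟨Φ, hΦ, -⟩ := hG.univ Z e
    have ha : pullPt a e = pullPt (subι H V) βj := by
      show pullPt a (pullPt _ _ * sc _) = _
      rw [pullPt_mul, pullPt_comp, pullPt_sc hL, ← GmPts.unitOfPt_comp]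
      show pullPt (lift l _ ≫ fst _ _) _ * sc (GmPts.unitOfPt (lift l _ ≫ snd _ _)) = _
      rw [lift_fst, lift_snd, GmPts.unitOfPt_ptOfUnit, hw, mul_inv_cancel_left]
    have hfac : a ≫ Φ = subι H V ≫ j := by
      have h1 := bc_trans (isBaseChange_pullPt a e) hΦ
      rw [ha] at h1
      exact (hG.univ _ _).unique h1 (bc_trans (isBaseChange_pullPt (subι H V) βj) hbj)
    haveI : IsImmersion (subι H V).left := inferInstanceAs (IsImmersion V.ι)
    haveI : IsImmersion (a.left ≫ Φ.left) := by
      rw [← Over.comp_left, hfac, Over.comp_left]; infer_instance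
    haveI : IsImmersion a.left := IsImmersion.of_comp a.left Φ.left
    haveI : LocallyOfFiniteType (sub K (U t)).hom := inferInstanceAs (LocallyOfFiniteType ((U t).ι ≫ K.hom))
    haveI := MonoFibre.locallyOfFiniteType_DS (Spec (CommRingCat.of k)) ℤ inferInstance
    haveI hfst : LocallyOfFiniteType (fst (sub K (U t)) (Red.Gm (Spec (CommRingCat.of k)))).left ∧
        QuasiCompact (fst (sub K (U t)) (Red.Gm (Spec (CommRingCat.of k)))).left := by
      constructor <;> exact MorphismProperty.pullback_fst _ _ inferInstance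
    haveI := hfst.1
    haveI := hfst.2
    haveI : LocallyOfFiniteType Z.hom := by
      rw [← Over.w (fst (sub K (U t)) (Red.Gm (Spec (CommRingCat.of k))))]; infer_instance
    haveI : IsLocallyNoetherian Z.left := LocallyOfFiniteType.isLocallyNoetherian Z.hom
    have e2 : iH'.left ∣_ U t = a.left ≫ (fst (sub K (U t)) (Red.Gm (Spec (CommRingCat.of k)))).left := by
      rw [← Over.comp_left, lift_fst]; rfl
    rw [e2]
    haveI : QuasiCompact a.left := by
      haveI : IsLocallyNoetherian (a.left.coborderRange : Z.left.Opens).toScheme := inferInstance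
      rw [← a.left.liftCoborder_ι]; infer_instance
    exact ⟨inferInstance, inferInstance⟩
  haveI : LocallyOfFiniteType iH'.left :=
    (IsZariskiLocalAtTarget.iff_of_iSup_eq_top (P := @LocallyOfFiniteType) U hcov).2 fun t => (key t).1
  haveI : QuasiCompact iH'.left :=
    (IsZariskiLocalAtTarget.iff_of_iSup_eq_top (P := @QuasiCompact) U hcov).2 fun t => (key t).2
  haveI : LocallyOfFiniteType H.hom := by rw [← Over.w iH']; infer_instance
  haveI : QuasiCompact iH.left := by rw [← hiH', Over.comp_left]; infer_instance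
  exact S3036.result k H A iH

/-- The module descends to the quotient by a level subgroup. -/
theorem exists_descent_level (hL : PicF.IsInvertible L) (hG : IsThetaGrpSch A L G u)
    (hj : IsLevelSubgrp u j)
    (hover : ∀ (T : Over (Spec (CommRingCat.of k))) (h : T ⟶ H) (β : thetaPts A L T),
      IsBaseChange β (h ≫ j) u → IsOverPt β (h ≫ iH)) :
    ∃ (B : Over (Spec (CommRingCat.of k))) (_ : GrpObj B) (f : A ⟶ B),
      IsProper B.hom ∧ GeometricallyIntegral B.hom ∧ IsMonHom f ∧ Surjective f.left ∧
      AlgGrp.IsKernel iH f ∧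
      ∃ M : B.left.Modules, PicF.IsInvertible M ∧ Nonempty ((Scheme.Modules.pullback f.left).obj M ≅ L) := by
  haveI := hj.2.1
  haveI := isMonHom_of_hover hG hover
  haveI := isClosedImmersion_of_hover hL hG hj hover
  haveI := CogenLib.isIntegral_left A
  haveI : LocallyOfFiniteType A.hom := inferInstance
  have hN : AlgGrp.IsNormalHom iH := fun T g n =>
    ⟨n, by rw [mul_comm g, _root_.mul_assoc, mul_inv_cancel, _root_.mul_one]⟩
  obtain ⟨Q, hQ, q, hq, hQs, hQl, hQq, hqs, hqf, hqp, hker⟩ := GrpQuotLib.exists_quotientGrp_field H A iH hN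
  letI := hQ
  haveI := hq; haveI := hQs; haveI := hQl; haveI := hQq; haveI := hqs; haveI := hqf; haveI := hqp
  haveI : UniversallyClosed Q.hom := by
    haveI : UniversallyClosed (q.left ≫ Q.hom) := by rw [Over.w q]; infer_instance
    exact UniversallyClosed.of_comp_surjective q.left Q.hom
  haveI : IsProper Q.hom := {}
  haveI := CogenLib.quasiCompact_hom q
  haveI : IsReduced Q.left := FlatDescStalk.isReduced_of_flat_surjective q.left
  haveI : IsSchemeTheoreticallyDominant q.left := IsSchemeTheoreticallyDominant.of_isDominant q.left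
  haveI : GeometricallyIntegral Q.hom := AVLib.geometricallyIntegral_of_dominant Q.hom q.left (Over.w q)
  obtain ⟨KL⟩ := exists_kerLift (i := iH) hG j hover
  exact ⟨Q, hQ, q, inferInstance, inferInstance, hq, hqs, hker, exists_descended_module hker KL hL⟩

end Groth.Agent.ThetaLib
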