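import Groth.Agent.ThetaLib.Functor
import Groth.Agent.ThetaLib.Isotropic
import Groth.Agent.CubeBaseLib.Base

/-!
# The normalised lift of `K(L)` to the theta group of the Mumford bundle

A point over `(x, 1)` is normalised when it restricts to the canonical translation on `A × 0`.
-/

set_option autoImplicit false
set_option backward.isDefEq.respectTransparency false
set_option backward.defeqAttrib.useBackward true
set_option linter.style.haveILetI false
set_option linter.unusedSectionVars false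

universe u

open CategoryTheory CategoryTheory.Limits MonoidalCategory CartesianMonoidalCategory MonObj AlgebraicGeometry
open Pseudofunctor Bicategory
open Groth.Agent Groth.Agent.PicLib Groth.Agent.AVLib

noncomputable section

namespace Groth.Agent.ThetaLib

open ThetaGrp

variable {k : Type u} [Field k] {A : Over (Spec (CommRingCat.of k))} [GrpObj A] [IsCommMonObj A]
  [IsProper A.hom] [GeometricallyIntegral A.hom] {L : A.left.Modules} {Λ : (A ⊗ A).left.Modules}
  {T V W : Over (Spec (CommRingCat.of k))}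

/-- The Mumford bundle on a pair of points. -/
theorem mumford_class (hL : PicF.IsInvertible L) (hΛi : PicF.IsInvertible Λ)
    (hΛ : AgPol.IsLambdaSheaf μ[A].left (fst A A).left (snd A A).left L Λ) (a b : W ⟶ A) :
    pull (lift a b).left (cls hΛi) * pull a.left (cls hL) * pull b.left (cls hL) = pull (a * b).left (cls hL) := by
  have h1 : cls hΛi * pull (fst A A).left (cls hL) * pull (snd A A).left (cls hL) = pull μ[A].left (cls hL) := by
    simp only [pull_cls, ← cls_tensor]
    exact (cls_eq_cls _ _).2 hΛ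
  have h2 := congrArg (pull (lift a b).left) h1
  simp only [map_mul, pull_left_comp, lift_fst, lift_snd, ← Hom.mul_def] at h2
  exact h2

theorem pull_mul_of_addAlong {c : Pic A.left} {x : T ⟶ A} (h : AddAlong c x) (w : W ⟶ A) (t : W ⟶ T) :
    pull (w * (t ≫ x)).left c = pull w.left c * pull (t ≫ x).left c := by
  have h2 := congrArg (pull (lift w t).left) h
  simp only [map_mul, pull_left_comp, MonObj.comp_mul, lift_fst, lift_snd_assoc] at h2
  exact h2

theorem exists_lift_pair (hL : PicF.IsInvertible L) (hΛi : PicF.IsInvertible Λ)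
    (hΛ : AgPol.IsLambdaSheaf μ[A].left (fst A A).left (snd A A).left L Λ) {x : T ⟶ A}
    (hx : AddAlong (cls hL) x) :
    ∃ β : thetaPts (A ⊗ A) Λ T, IsOverPt β (lift x (1 : T ⟶ A)) := by
  refine exists_isOverPt hΛi _ ?_
  have e1 : fst (A ⊗ A) T = lift (fst (A ⊗ A) T ≫ fst A A) (fst (A ⊗ A) T ≫ snd A A) := by
    apply CartesianMonoidalCategory.hom_ext <;> simp
  have e2 : fst (A ⊗ A) T * (snd (A ⊗ A) T ≫ lift x (1 : T ⟶ A)) =
      lift ((fst (A ⊗ A) T ≫ fst A A) * (snd (A ⊗ A) T ≫ x)) (fst (A ⊗ A) T ≫ snd A A) := by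
    apply CartesianMonoidalCategory.hom_ext <;> simp [MonObj.mul_comp]
  rw [e2]
  conv_lhs => rw [e1]
  generalize fst (A ⊗ A) T ≫ fst A A = a
  generalize fst (A ⊗ A) T ≫ snd A A = b
  generalize snd (A ⊗ A) T = t
  have h1 := mumford_class hL hΛi hΛ a b
  have h2 := mumford_class hL hΛi hΛ (a * (t ≫ x)) b
  rw [show a * (t ≫ x) * b = a * b * (t ≫ x) from mul_right_comm _ _ _,
    pull_mul_of_addAlong hx a t, pull_mul_of_addAlong hx (a * b) t, ← h1] at h2
  refine (mul_right_cancel (b := pull a.left (cls hL) * pull b.left (cls hL) * pull (t ≫ x).left (cls hL)) ?_).symm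
  calc _ = pull (lift (a * (t ≫ x)) b).left (cls hΛi) *
        (pull a.left (cls hL) * pull (t ≫ x).left (cls hL)) * pull b.left (cls hL) := by ac_rfl
    _ = _ := by rw [h2]; ac_rfl

variable (A) in
/-- The inclusion `a ↦ (a, 0)`. -/
abbrev ι₀ : A ⟶ A ⊗ A := lift (𝟙 A) (1 : A ⟶ A)

variable (A) (Λ) in
/-- The constant module on `A`, the restriction of the Mumford bundle to the origin. -/
abbrev cstMod : A.left.Modules :=
  (Scheme.Modules.pullback (toUnit A).left).obj
    ((Scheme.Modules.pullback (lift η[A] η[A]).left).obj Λ)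

theorem isInvertible_cstMod (hΛi : PicF.IsInvertible Λ) : PicF.IsInvertible (cstMod A Λ) :=
  AmpleLib.isInvertible_pullback _ (AmpleLib.isInvertible_pullback _ hΛi)

theorem nonempty_cst_iso (hL : PicF.IsInvertible L) (hΛi : PicF.IsInvertible Λ)
    (hΛ : AgPol.IsLambdaSheaf μ[A].left (fst A A).left (snd A A).left L Λ) :
    Nonempty (cstMod A Λ ≅ (Scheme.Modules.pullback (ι₀ A).left).obj Λ) := by
  refine (cls_eq_cls (isInvertible_cstMod hΛi) (AmpleLib.isInvertible_pullback _ hΛi)).1 ?_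
  show pull (toUnit A).left (pull (lift η[A] η[A]).left (cls hΛi)) = pull (ι₀ A).left (cls hΛi)
  rw [pull_left_comp, comp_lift, ← Hom.one_def]
  have h1 := mumford_class hL hΛi hΛ (1 : A ⟶ A) 1
  have h2 := mumford_class hL hΛi hΛ (𝟙 A) 1
  rw [_root_.mul_one] at h1 h2
  rw [mul_right_comm, mul_eq_right] at h1 h2
  exact mul_right_cancel (h1.trans h2.symm)

variable (o : cstMod A Λ ≅ (Scheme.Modules.pullback (ι₀ A).left).obj Λ)

/-- The marking on the base. -/
def mark₀ : baseObj A (cstMod A Λ) ⟶ baseObj (A ⊗ A) Λ := ⟨(ι₀ A).left, o.hom⟩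

instance isIso_mark₀_fiber : IsIso (mark₀ o).fiber := inferInstanceAs (IsIso o.hom)

theorem exists_mark (T : Over (Spec (CommRingCat.of k))) :
    ∃ g : thetaObj A (cstMod A Λ) T ⟶ thetaObj (A ⊗ A) Λ T,
      g.base = ((ι₀ A) ▷ T).left ∧ g ≫ proj (A ⊗ A) Λ T = proj A (cstMod A Λ) T ≫ mark₀ o ∧
      IsIso g.fiber := by
  obtain ⟨g, hb, hg, hi⟩ := exists_lift (proj (A ⊗ A) Λ T) (proj A (cstMod A Λ) T ≫ mark₀ o) ((ι₀ A) ▷ T).left (by
    show ((ι₀ A) ▷ T).left ≫ (fst (A ⊗ A) T).left = (fst A T).left ≫ (ι₀ A).left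
    rw [← Over.comp_left, ← Over.comp_left, whiskerRight_fst])
  exact ⟨g, hb, hg, hi (isIso_comp_fiber _ _)⟩

/-- The marking. -/
def mark (T : Over (Spec (CommRingCat.of k))) : thetaObj A (cstMod A Λ) T ⟶ thetaObj (A ⊗ A) Λ T :=
  (exists_mark o T).choose

theorem mark_base (T : Over (Spec (CommRingCat.of k))) : (mark o T).base = ((ι₀ A) ▷ T).left :=
  (exists_mark o T).choose_spec.1

theorem mark_proj (T : Over (Spec (CommRingCat.of k))) :
    mark o T ≫ proj (A ⊗ A) Λ T = proj A (cstMod A Λ) T ≫ mark₀ o :=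
  (exists_mark o T).choose_spec.2.1

instance isIso_mark_fiber (T : Over (Spec (CommRingCat.of k))) : IsIso (mark o T).fiber :=
  (exists_mark o T).choose_spec.2.2

theorem bcLift_mark {V T : Over (Spec (CommRingCat.of k))} (r : V ⟶ T) :
    bcLift A (cstMod A Λ) r ≫ mark o T = mark o V ≫ bcLift (A ⊗ A) Λ r := by
  refine lift_unique (proj (A ⊗ A) Λ T) ?_ ?_
  · show (A ◁ r).left ≫ (mark o T).base = (mark o V).base ≫ ((A ⊗ A) ◁ r).left
    rw [mark_base, mark_base, ← Over.comp_left, ← Over.comp_left, MonoidalCategory.whisker_exchange]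
  · rw [Category.assoc, mark_proj, ← Category.assoc, bcLift_proj, Category.assoc, bcLift_proj, mark_proj]

/-- The structure morphism data of the constant module. -/
abbrev cst (T : Over (Spec (CommRingCat.of k))) :=
  descMor (M := (Scheme.Modules.pullback (lift η[A] η[A]).left).obj Λ) (toUnit A) (Iso.refl (cstMod A Λ)) T

/-- The canonical translation of the constant module. -/
theorem exists_can (x : T ⟶ A) :
    ∃ c : thetaPts A (cstMod A Λ) T, IsOverPt c x ∧ c.1.hom ≫ cst T = cst T :=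
  exists_canonical (toUnit A) (Iso.refl _) x (toUnit_unique _ _)

/-- The canonical translation. -/
def can (x : T ⟶ A) : thetaPts A (cstMod A Λ) T := (exists_can x).choose

theorem isOverPt_can (x : T ⟶ A) : IsOverPt (can (Λ := Λ) x) x := (exists_can x).choose_spec.1

theorem can_cst (x : T ⟶ A) : (can (Λ := Λ) x).1.hom ≫ cst T = cst T := (exists_can x).choose_spec.2

theorem can_mul (x y : T ⟶ A) : can (Λ := Λ) (x * y) = can x * can y := by
  refine canonical_unique (toUnit A) (Iso.refl _) (isOverPt_can _)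
    (mul_comm x y ▸ isOverPt_mul (isOverPt_can x) (isOverPt_can y)) (can_cst _) ?_
  rw [mul_hom, Category.assoc]
  exact (congrArg (_ ≫ ·) (can_cst x)).trans (can_cst y)

theorem can_natural (r : V ⟶ T) (x : T ⟶ A) :
    (can (Λ := Λ) (r ≫ x)).1.hom ≫ bcLift A (cstMod A Λ) r = bcLift A (cstMod A Λ) r ≫ (can (Λ := Λ) x).1.hom := by
  refine lift_unique (cst T) ?_ ?_
  · show (can (Λ := Λ) (r ≫ x)).1.hom.base ≫ (A ◁ r).left = (A ◁ r).left ≫ (can (Λ := Λ) x).1.hom.base
    rw [isOverPt_can, isOverPt_can, ← Over.comp_left, ← Over.comp_left, transl_natural]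
  · rw [Category.assoc, descMor_natural, can_cst, Category.assoc, can_cst, descMor_natural]

/-- A point over `(x, 1)` is normalised. -/
def IsNormal (x : T ⟶ A) (β : thetaPts (A ⊗ A) Λ T) : Prop :=
  IsOverPt β (lift x (1 : T ⟶ A)) ∧ mark o T ≫ β.1.hom = (can (Λ := Λ) x).1.hom ≫ mark o T

theorem mark_sc (hΛi : PicF.IsInvertible Λ) [IsProper (A ⊗ A).hom] [GeometricallyIntegral (A ⊗ A).hom]
    (a : Γ(T.left, ⊤)ˣ) :
    mark o T ≫ (sc (A := A ⊗ A) (L := Λ) a).1.hom = (sc (A := A) (L := cstMod A Λ) a).1.hom ≫ mark o T := by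
  haveI : Coh.IsQCoh (X := ((A ⊗ A) ⊗ T).left) (thetaObj (A ⊗ A) Λ T).fiber :=
    InvExt.isQCoh_of_isInvertible (isInvertible_fiber hΛi T)
  show mark o T ≫ ThetaLib.smul _ _ = ThetaLib.smul _ _ ≫ mark o T
  rw [comp_smul_eq]
  refine congrArg (ThetaLib.smul _ · ≫ mark o T) ?_
  rw [mark_base]
  show (((ι₀ A) ▷ T).left ≫ (snd (A ⊗ A) T).left).appTop _ = _
  rw [← Over.comp_left, whiskerRight_snd]

theorem exists_isNormal (hL : PicF.IsInvertible L) (hΛi : PicF.IsInvertible Λ)
    (hΛ : AgPol.IsLambdaSheaf μ[A].left (fst A A).left (snd A A).left L Λ)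
    [IsProper (A ⊗ A).hom] [GeometricallyIntegral (A ⊗ A).hom] {x : T ⟶ A}
    (hx : AddAlong (cls hL) x) : ∃ β, IsNormal o x β := by
  obtain ⟨β, hβ⟩ := exists_lift_pair hL hΛi hΛ hx
  haveI : IsIso β.1.hom.fiber := isIso_fiber β.1.hom
  obtain ⟨g, hb, hg, hi⟩ := exists_lift (mark o T) (mark o T ≫ β.1.hom) (transl A x).left (by
    show (transl A x).left ≫ (mark o T).base = (mark o T).base ≫ β.1.hom.base
    rw [mark_base, hβ, ← Over.comp_left, ← Over.comp_left]
    congr 1
    apply CartesianMonoidalCategory.hom_ext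
    · apply CartesianMonoidalCategory.hom_ext <;> simp [transl, MonObj.mul_comp, MonObj.comp_mul]
    · simp [transl])
  haveI : IsIso g.fiber := hi (isIso_comp_fiber _ _)
  haveI : IsIso g.base := hb ▸ isIso_transl' x
  haveI : IsIso g := isIso_of_components g
  let g' : thetaPts A (cstMod A Λ) T := ⟨asIso g, x, hb⟩
  have ho : IsOverPt (g'⁻¹ * can x) 1 := by
    have h := isOverPt_mul (isOverPt_inv (show IsOverPt g' x from hb)) (isOverPt_can (Λ := Λ) x)
    rwa [mul_inv_cancel] at h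
  obtain ⟨a, ha, -⟩ := exists_sc (isInvertible_cstMod hΛi) _ ho
  refine ⟨β * sc a, ?_, ?_⟩
  · have h := isOverPt_mul hβ (isOverPt_sc (A := A ⊗ A) (L := Λ) a)
    rwa [_root_.one_mul] at h
  · rw [mul_hom, ← Category.assoc, mark_sc o hΛi, Category.assoc, ← hg, ← Category.assoc]
    have e : g' * sc a = can x := by rw [ha, mul_inv_cancel_left]
    rw [← e, mul_hom]
    rfl

theorem isNormal_unique (hΛi : PicF.IsInvertible Λ) [IsProper (A ⊗ A).hom] [GeometricallyIntegral (A ⊗ A).hom]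
    {x : T ⟶ A} {β β' : thetaPts (A ⊗ A) Λ T} (h : IsNormal o x β) (h' : IsNormal o x β') : β = β' := by
  have ho : IsOverPt (β⁻¹ * β') 1 := by
    have h2 := isOverPt_mul (isOverPt_inv h.1) h'.1
    rwa [mul_inv_cancel] at h2
  obtain ⟨a, ha, -⟩ := exists_sc hΛi _ ho
  have e : β' = β * sc a := by rw [ha, mul_inv_cancel_left]
  have h2 := h'.2
  rw [e, mul_hom, ← Category.assoc, mark_sc o hΛi, Category.assoc, h.2, ← Category.assoc, ← mul_hom] at h2
  have h3 : can (Λ := Λ) x * sc a = can x := by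
    refine Subtype.ext (Iso.ext (lift_unique (mark o T) ?_ h2))
    have h4 := isOverPt_mul (isOverPt_can (Λ := Λ) x) (isOverPt_sc (A := A) (L := cstMod A Λ) a)
    rw [_root_.one_mul] at h4
    exact h4.trans (isOverPt_can (Λ := Λ) x).symm
  have h5 : a = 1 := sc_injective (isInvertible_cstMod hΛi) (by rw [map_one]; exact mul_eq_left.1 h3)
  rw [e, h5, map_one, _root_.mul_one]

theorem isNormal_mul {x y : T ⟶ A} {α β : thetaPts (A ⊗ A) Λ T} (hα : IsNormal o x α) (hβ : IsNormal o y β) :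
    IsNormal o (x * y) (α * β) := by
  refine ⟨?_, ?_⟩
  · have e : lift y (1 : T ⟶ A) * lift x (1 : T ⟶ A) = lift (x * y) 1 := by
      apply CartesianMonoidalCategory.hom_ext <;> simp [MonObj.mul_comp, mul_comm]
    exact e ▸ isOverPt_mul hα.1 hβ.1
  · rw [mul_hom, ← Category.assoc, hβ.2, Category.assoc, hα.2, ← Category.assoc, can_mul, mul_hom]

theorem isNormal_bc (r : V ⟶ T) {x : T ⟶ A} {β : thetaPts (A ⊗ A) Λ T} (h : IsNormal o x β)
    {β' : thetaPts (A ⊗ A) Λ V} (ho : IsOverPt β' (lift (r ≫ x) (1 : V ⟶ A))) (hb : IsBaseChange β' r β) :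
    IsNormal o (r ≫ x) β' := by
  refine ⟨ho, lift_unique (bcLift (A ⊗ A) Λ r) ?_ ?_⟩
  · show (mark o V).base ≫ β'.1.hom.base = (can (Λ := Λ) (r ≫ x)).1.hom.base ≫ (mark o V).base
    rw [mark_base, ho, isOverPt_can, ← Over.comp_left, ← Over.comp_left]
    congr 1
    apply CartesianMonoidalCategory.hom_ext
    · apply CartesianMonoidalCategory.hom_ext <;> simp [transl, MonObj.mul_comp, MonObj.comp_mul]
    · simp [transl]
  · rw [Category.assoc, hb, ← Category.assoc, ← bcLift_mark, Category.assoc, h.2, ← Category.assoc,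
      ← can_natural, Category.assoc, bcLift_mark, Category.assoc]

theorem isProper_tensor : IsProper (A ⊗ A).hom := by
  show IsProper (Limits.pullback.fst A.hom A.hom ≫ A.hom)
  infer_instance

theorem geometricallyIntegral_tensor : GeometricallyIntegral (A ⊗ A).hom := by
  show GeometricallyIntegral (Limits.pullback.fst A.hom A.hom ≫ A.hom)
  haveI : GeometricallyIntegral (Limits.pullback.fst A.hom A.hom) := inferInstance
  exact CubeBaseLib.geometricallyIntegral_comp _ _

/-- `K(L)` lifts to the theta group of the Mumford bundle. -/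
theorem exists_mumford_lift (hL : PicF.IsInvertible L) (hΛi : PicF.IsInvertible Λ)
    (hΛ : AgPol.IsLambdaSheaf μ[A].left (fst A A).left (snd A A).left L Λ)
    {K : Over (Spec (CommRingCat.of k))} [GrpObj K] {iK : K ⟶ A} [IsMonHom iK] (hK : IsKL A L iK)
    {G : Over (Spec (CommRingCat.of k))} [GrpObj G] {u : thetaPts (A ⊗ A) Λ G}
    (hG : IsThetaGrpSch (A ⊗ A) Λ G u) :
    ∃ j : K ⟶ G, IsMonHom j ∧ ∀ (T : Over (Spec (CommRingCat.of k))) (y : T ⟶ K) (β : thetaPts (A ⊗ A) Λ T),
      IsBaseChange β (y ≫ j) u → IsOverPt β (y ≫ lift iK (1 : K ⟶ A)) := by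
  haveI := isProper_tensor (A := A)
  haveI := geometricallyIntegral_tensor (A := A)
  obtain ⟨o⟩ := nonempty_cst_iso hL hΛi hΛ
  have hadd : ∀ {T : Over (Spec (CommRingCat.of k))} (y : T ⟶ K), AddAlong (cls hL) (y ≫ iK) := fun y =>
    (isMumfordTriv_iff hL _).1 ((hK.univ _ _).2 ⟨y, rfl⟩)
  obtain ⟨b, hb⟩ := exists_isNormal o hL hΛi hΛ (by simpa using hadd (𝟙 K))
  obtain ⟨j, hj, -⟩ := hG.univ K b
  have key : ∀ (T : Over (Spec (CommRingCat.of k))) (y : T ⟶ K) (β : thetaPts (A ⊗ A) Λ T),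
      IsNormal o (y ≫ iK) β → IsBaseChange β (y ≫ j) u := fun T y β h => by
    obtain ⟨b', hb', hbc⟩ := exists_bc_pt y hb.1
    have hl : y ≫ lift iK (1 : K ⟶ A) = lift (y ≫ iK) (1 : T ⟶ A) := by rw [comp_lift, MonObj.comp_one]
    rw [isNormal_unique o hΛi h (isNormal_bc o y hb (hl ▸ hb') hbc)]
    exact bc_trans hbc hj
  refine ⟨j, ?_, fun T y β h => ?_⟩
  · have hmul : ∀ {T : Over (Spec (CommRingCat.of k))} (y z : T ⟶ K), (y * z) ≫ j = (y ≫ j) * (z ≫ j) :=
      fun {T} y z => by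
      obtain ⟨β₁, h₁⟩ := exists_isNormal o hL hΛi hΛ (hadd y)
      obtain ⟨β₂, h₂⟩ := exists_isNormal o hL hΛi hΛ (hadd z)
      have h3 := isNormal_mul o h₁ h₂
      rw [← MonObj.mul_comp] at h3
      exact (hG.univ _ _).unique (key T _ _ h3) (hG.mul T _ _ _ _ (key T y β₁ h₁) (key T z β₂ h₂))
    constructor
    · have h := hmul (η[K]) (η[K])
      have e1 : (η[K] : 𝟙_ _ ⟶ K) = 1 := by rw [Hom.one_def, toUnit_unit, Category.id_comp]
      rw [e1, _root_.mul_one, left_eq_mul] at h
      rw [e1, h, Hom.one_def, toUnit_unit, Category.id_comp]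
    · have h := hmul (fst K K) (snd K K)
      rw [Hom.mul_def, lift_fst_snd, Category.id_comp] at h
      rw [h, Hom.mul_def]
      congr 1
  · obtain ⟨β₀, h₀⟩ := exists_isNormal o hL hΛi hΛ (hadd y)
    rw [(hG.exists_bc T (y ≫ j)).unique h (key T y β₀ h₀), comp_lift, MonObj.comp_one]
    exact h₀.1

end Groth.Agent.ThetaLib
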