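import Groth.Agent.FormalEqLib.Killed
import Groth.Prelude.Def_ThetaGrp
import Groth.Prelude.Def_SiteColimFix

/-!
# Isomorphisms of pairs (scheme, module)

A morphism of pairs is an isomorphism exactly when both components are.
-/

set_option autoImplicit false
set_option backward.isDefEq.respectTransparency false
set_option linter.style.haveILetI false

universe u

open CategoryTheory CategoryTheory.Limits AlgebraicGeometry Pseudofunctor Bicategory

noncomputable section

namespace Groth.Agent.ThetaLib

open ThetaGrp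

variable {X Y Z : CoGrothendieck (modPF.{u})}

theorem isEquivalence_map {S T : Scheme.{u}} (g : S ⟶ T) [IsIso g] :
    (modPF.map g.op.toLoc).toFunctor.IsEquivalence :=
  FormalEqLib.isEquivalence_pullback g

theorem exists_retraction (f : X ⟶ Y) [IsIso f.base] [IsIso f.fiber] :
    ∃ g : Y ⟶ X, f ≫ g = 𝟙 X ∧ IsIso g.base ∧ IsIso g.fiber := by
  let b : Y.base ⟶ X.base := inv f.base
  let F := (modPF.map f.base.op.toLoc).toFunctor
  haveI : F.IsEquivalence := isEquivalence_map f.base
  have hb : f.base ≫ b = 𝟙 X.base := IsIso.hom_inv_id _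
  let c := (modPF.mapComp b.op.toLoc f.base.op.toLoc).inv.toNatTrans.app X.fiber
  haveI : IsIso c := inferInstance
  let r := (modPF.mapId ⟨Opposite.op X.base⟩).inv.toNatTrans.app X.fiber
  haveI : IsIso r := inferInstance
  have he : (modPF.map (𝟙 X.base).op.toLoc).toFunctor.obj X.fiber =
      (modPF.map (f.base ≫ b).op.toLoc).toFunctor.obj X.fiber := by rw [hb]
  refine ⟨⟨b, F.preimage (inv f.fiber ≫ (r ≫ eqToHom he) ≫ inv c)⟩, ?_, inferInstance, ?_⟩
  · refine CoGrothendieck.Hom.ext _ _ hb ?_
    show f.fiber ≫ F.map (F.preimage _) ≫ c = r ≫ eqToHom _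
    rw [F.map_preimage]
    simp
  · show IsIso (F.preimage _)
    haveI : IsIso (F.map (F.preimage (inv f.fiber ≫ (r ≫ eqToHom he) ≫ inv c))) := by
      rw [F.map_preimage]; infer_instance
    exact isIso_of_fully_faithful F _

/-- Both components invertible gives an isomorphism. -/
theorem isIso_of_components (f : X ⟶ Y) [IsIso f.base] [IsIso f.fiber] : IsIso f := by
  obtain ⟨g, hg, h1, h2⟩ := exists_retraction f
  obtain ⟨h, hh, -, -⟩ := exists_retraction g
  have e : f = h := by rw [← Category.comp_id f, ← hh, ← Category.assoc, hg, Category.id_comp]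
  exact ⟨g, hg, e ▸ hh⟩

/-- The module part of an isomorphism is an isomorphism. -/
theorem isIso_fiber (f : X ⟶ Y) [IsIso f] : IsIso f.fiber := by
  have hb1 : f.base ≫ (inv f).base = 𝟙 _ := congrArg CoGrothendieck.Hom.base (IsIso.hom_inv_id f)
  have hb2 : (inv f).base ≫ f.base = 𝟙 _ := congrArg CoGrothendieck.Hom.base (IsIso.inv_hom_id f)
  haveI : IsIso (inv f).base := ⟨f.base, hb2, hb1⟩
  let G := (modPF.map (inv f).base.op.toLoc).toFunctor
  haveI : G.IsEquivalence := isEquivalence_map (inv f).base
  have h1 := CoGrothendieck.Hom.congr (IsIso.hom_inv_id f)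
  have h2 := CoGrothendieck.Hom.congr (IsIso.inv_hom_id f)
  simp only [CoGrothendieck.categoryStruct_comp_fiber, CoGrothendieck.categoryStruct_id_fiber] at h1 h2
  let tail := (modPF.map f.base.op.toLoc).toFunctor.map (inv f).fiber ≫
    (modPF.mapComp (inv f).base.op.toLoc f.base.op.toLoc).inv.toNatTrans.app X.fiber
  haveI : Mono (f.fiber ≫ tail) := by rw [h1]; infer_instance
  have hl : Mono f.fiber := mono_of_mono f.fiber tail
  have hr : Epi (G.map f.fiber) := by
    have h3 : Epi ((inv f).fiber ≫ G.map f.fiber) := by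
      have h4 := h2
      rw [← Category.assoc] at h4
      rw [(IsIso.eq_comp_inv _).2 h4]
      infer_instance
    haveI := h3
    exact epi_of_epi (inv f).fiber (G.map f.fiber)
  haveI := hl
  haveI : Epi f.fiber := G.epi_of_epi_map hr
  exact isIso_of_mono_of_epi (C := X.base.Modules) f.fiber

end Groth.Agent.ThetaLib
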