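import Groth.Agent.ThetaLib.Basic

/-!
# Morphisms of pairs with invertible module part are cartesian

The base change morphisms of the theta group lie over the projection to the group with its module.
-/

set_option autoImplicit false
set_option backward.isDefEq.respectTransparency false
set_option linter.style.haveILetI false

universe u

open CategoryTheory CategoryTheory.Limits MonoidalCategory CartesianMonoidalCategory MonObj AlgebraicGeometry
open Pseudofunctor Bicategory

noncomputable section

namespace Groth.Agent.ThetaLib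

open ThetaGrp

variable {X Y Z : CoGrothendieck (modPF.{u})}

theorem exists_lift (p : X ⟶ Y) [IsIso p.fiber] (h : Z ⟶ Y) (b : Z.base ⟶ X.base) (hb : b ≫ p.base = h.base) :
    ∃ g : Z ⟶ X, g.base = b ∧ g ≫ p = h ∧ (IsIso h.fiber → IsIso g.fiber) := by
  let G := (modPF.map b.op.toLoc).toFunctor
  let c := (modPF.mapComp p.base.op.toLoc b.op.toLoc).inv.toNatTrans.app Y.fiber
  haveI : IsIso c := inferInstance
  haveI : IsIso (G.map p.fiber) := inferInstance
  have he : (modPF.map h.base.op.toLoc).toFunctor.obj Y.fiber =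
      (modPF.map (b ≫ p.base).op.toLoc).toFunctor.obj Y.fiber := by rw [hb]
  refine ⟨⟨b, h.fiber ≫ eqToHom he ≫ inv c ≫ inv (G.map p.fiber)⟩, rfl, ?_, fun hh => ?_⟩
  · refine CoGrothendieck.Hom.ext _ _ hb ?_
    show (h.fiber ≫ eqToHom he ≫ inv c ≫ inv (G.map p.fiber)) ≫ G.map p.fiber ≫ c = h.fiber ≫ eqToHom _
    simp only [Category.assoc, IsIso.inv_hom_id_assoc, IsIso.inv_hom_id, Category.comp_id]
  · haveI := hh
    haveI : IsIso (eqToHom he) := inferInstance
    show IsIso (h.fiber ≫ eqToHom he ≫ inv c ≫ inv (G.map p.fiber))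
    infer_instance

theorem lift_unique (p : X ⟶ Y) [IsIso p.fiber] {g g' : Z ⟶ X} (hb : g.base = g'.base) (h : g ≫ p = g' ≫ p) :
    g = g' := by
  obtain ⟨b, φ⟩ := g
  obtain ⟨b', φ'⟩ := g'
  dsimp at hb
  subst hb
  let G := (modPF.map b.op.toLoc).toFunctor
  let c := (modPF.mapComp p.base.op.toLoc b.op.toLoc).inv.toNatTrans.app Y.fiber
  haveI : IsIso c := inferInstance
  haveI : IsIso (G.map p.fiber) := inferInstance
  have h' := CoGrothendieck.Hom.congr h
  simp only [CoGrothendieck.categoryStruct_comp_fiber, eqToHom_refl, Category.comp_id] at h'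
  have h2 : φ = φ' := (cancel_mono (G.map p.fiber ≫ c)).1 h'
  rw [h2]

section Proj

variable {S : Scheme.{u}} (A : Over S) [GrpObj A] (L : A.left.Modules)

/-- The group with its module. -/
abbrev baseObj : CoGrothendieck (modPF.{u}) := ⟨A.left, L⟩

/-- The projection to the group with its module. -/
def proj (T : Over S) : thetaObj A L T ⟶ baseObj A L := ⟨(fst A T).left, 𝟙 _⟩

instance isIso_proj_fiber (T : Over S) : IsIso (proj A L T).fiber :=
  inferInstanceAs (IsIso (𝟙 ((Scheme.Modules.pullback (fst A T).left).obj L)))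

theorem pullbackCongr_app {V W : Scheme.{u}} {f g : V ⟶ W} (h : f = g) (M : W.Modules) :
    (Scheme.Modules.pullbackCongr h).hom.app M = eqToHom (by rw [h]) := by
  subst h
  simp [Scheme.Modules.pullbackCongr]

theorem congr_comp {V W U : Scheme.{u}} (a : V ⟶ W) (b : W ⟶ U) {c : V ⟶ U} (h : c = a ≫ b) (M : U.Modules) :
    ((Scheme.Modules.pullbackCongr h).hom.app M ≫ (Scheme.Modules.pullbackComp a b).inv.app M) ≫
      (Scheme.Modules.pullback a).map (𝟙 ((Scheme.Modules.pullback b).obj M)) ≫
      (Scheme.Modules.pullbackComp a b).hom.app M = eqToHom (by rw [h]) := by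
  subst h
  simp [Scheme.Modules.pullbackCongr]

set_option maxHeartbeats 1000000 in
theorem bcLift_proj {T G : Over S} (g : T ⟶ G) : bcLift A L g ≫ proj A L G = proj A L T := by
  refine CoGrothendieck.Hom.ext _ _ (by show (A ◁ g).left ≫ (fst A G).left = (fst A T).left; rw [← Over.comp_left, whiskerLeft_fst]) ?_
  show ((Scheme.Modules.pullbackCongr _).hom.app L ≫ (Scheme.Modules.pullbackComp (A ◁ g).left (fst A G).left).inv.app L) ≫
      (Scheme.Modules.pullback (A ◁ g).left).map (𝟙 _) ≫
      (Scheme.Modules.pullbackComp (A ◁ g).left (fst A G).left).hom.app L = 𝟙 _ ≫ eqToHom _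
  exact (congr_comp (A ◁ g).left (fst A G).left (by rw [← Over.comp_left, whiskerLeft_fst]) L).trans
    (Category.id_comp _).symm

instance isIso_bcLift_fiber {T G : Over S} (g : T ⟶ G) : IsIso (bcLift A L g).fiber := by
  show IsIso ((Scheme.Modules.pullbackCongr _).hom.app L ≫
    (Scheme.Modules.pullbackComp (A ◁ g).left (fst A G).left).inv.app L)
  infer_instance

end Proj

end Groth.Agent.ThetaLib
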