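import Mathlib

/-!
# Symmetric cocycles of finite dual algebras split over algebraically closed fields

A symmetric two-cocycle twists the product of the linear dual into a commutative algebra; a character of it splits the
cocycle.
-/

set_option autoImplicit false
set_option linter.style.haveILetI false

universe u

open TensorProduct

noncomputable section

namespace Groth.Agent.ThetaLib

variable {k : Type u} [Field k] {R : Type u} [CommRing R] [Algebra k R]

/-- The left inclusion of the twisted comultiplication into triple tensors. -/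
abbrev twist (φ : R ⊗[k] R) (Δ : R →ₐ[k] R ⊗[k] R) : R →ₗ[k] R ⊗[k] R :=
  (LinearMap.mulLeft k φ).comp Δ.toLinearMap

theorem twist_apply (φ : R ⊗[k] R) (Δ : R →ₐ[k] R ⊗[k] R) (r : R) : twist φ Δ r = φ * Δ r := rfl

theorem lTensor_twist (φ : R ⊗[k] R) (Δ : R →ₐ[k] R ⊗[k] R) (z : R ⊗[k] R) :
    (twist φ Δ).lTensor R z = (1 ⊗ₜ φ) * Algebra.TensorProduct.map (AlgHom.id k R) Δ z := by
  induction z using TensorProduct.induction_on with
  | zero => simp
  | add a b ha hb => simp only [map_add, ha, hb, mul_add]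
  | tmul a b => simp [twist, Algebra.TensorProduct.tmul_mul_tmul]

theorem rTensor_twist (φ : R ⊗[k] R) (Δ : R →ₐ[k] R ⊗[k] R) (z : R ⊗[k] R) :
    (twist φ Δ).rTensor R z = (φ ⊗ₜ 1) * Algebra.TensorProduct.map Δ (AlgHom.id k R) z := by
  induction z using TensorProduct.induction_on with
  | zero => simp
  | add a b ha hb => simp only [map_add, ha, hb, mul_add]
  | tmul a b => simp [twist, Algebra.TensorProduct.tmul_mul_tmul]

/-- Contraction of the first factor. -/
abbrev ctr (a : Module.Dual k R) : R ⊗[k] R →ₗ[k] R :=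
  (TensorProduct.lid k R).toLinearMap.comp (a.rTensor R)

/-- Contraction of both factors. -/
abbrev ctr₂ (a b : Module.Dual k R) : R ⊗[k] R →ₗ[k] k :=
  (TensorProduct.lid k k).toLinearMap.comp (TensorProduct.map a b)

theorem ctr₂_swap (a b : Module.Dual k R) (z : R ⊗[k] R) :
    ctr₂ a b (Algebra.TensorProduct.comm k R R z) = ctr₂ b a z := by
  induction z using TensorProduct.induction_on with
  | zero => simp
  | add x y hx hy => simp only [map_add, hx, hy]
  | tmul x y => simp [mul_comm]

theorem ctr_ctr (a b : Module.Dual k R) (M : R →ₗ[k] R ⊗[k] R) (z : R ⊗[k] R) :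
    ctr a (M (ctr b z)) =
      ctr b ((ctr a).lTensor R (M.lTensor R z)) := by
  induction z using TensorProduct.induction_on with
  | zero => simp
  | add x y hx hy => simp only [map_add, hx, hy]
  | tmul x y => simp

theorem ctr_assoc (a b : Module.Dual k R) (z : (R ⊗[k] R) ⊗[k] R) :
    ctr b ((ctr a).lTensor R (Algebra.TensorProduct.assoc k k k R R R z)) =
      TensorProduct.lid k R ((ctr₂ b a).rTensor R z) := by
  induction z using TensorProduct.induction_on with
  | zero => simp
  | add x y hx hy => simp only [map_add, hx, hy]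
  | tmul x y =>
    induction x using TensorProduct.induction_on with
    | zero => simp
    | add p q hp hq => simp only [map_add, TensorProduct.add_tmul, hp, hq]
    | tmul p q => simp [smul_smul, mul_comm]

theorem rTensor_ctr₂ (a b : Module.Dual k R) (M : R →ₗ[k] R ⊗[k] R) (z : R ⊗[k] R) :
    TensorProduct.lid k R ((ctr₂ a b).rTensor R (M.rTensor R z)) = ctr ((ctr₂ a b).comp M) z := by
  induction z using TensorProduct.induction_on with
  | zero => simp
  | add x y hx hy => simp only [map_add, hx, hy]
  | tmul x y => simp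

theorem ctr_algHom (ε : R →ₐ[k] k) (z : R ⊗[k] R) :
    ctr ε.toLinearMap z = Algebra.TensorProduct.lift ((Algebra.ofId k R).comp ε) (AlgHom.id k R) (fun _ _ => .all _ _) z := by
  induction z using TensorProduct.induction_on with
  | zero => simp
  | add x y hx hy => simp only [map_add, hx, hy]
  | tmul x y => simp [Algebra.ofId_apply, Algebra.smul_def]

theorem eq_of_ctr₂ [Module.Finite k R] {z w : R ⊗[k] R} (h : ∀ a b, ctr₂ a b z = ctr₂ a b w) : z = w := by
  let bs := Module.Free.chooseBasis k R
  refine (bs.tensorProduct bs).repr.injective (Finsupp.ext fun p => ?_)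
  have key : ∀ y : R ⊗[k] R, (bs.tensorProduct bs).repr y p = ctr₂ (bs.coord p.1) (bs.coord p.2) y := fun y => by
    induction y using TensorProduct.induction_on with
    | zero => simp
    | add x y hx hy => simp only [map_add, Finsupp.add_apply, hx, hy]
    | tmul x y =>
      simp
      rw [Module.Basis.tensorProduct_repr_tmul_apply, smul_eq_mul, mul_comm]
  rw [key, key, h]

/-- A nonzero finite algebra over an algebraically closed field has a point. -/
theorem exists_point (k : Type u) [Field k] [IsAlgClosed k] (C : Type u) [CommRing C] [Nontrivial C] [Algebra k C]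
    [Module.Finite k C] : Nonempty (C →ₐ[k] k) := by
  obtain ⟨m, hm⟩ := Ideal.exists_maximal C
  letI : Field (C ⧸ m) := Ideal.Quotient.field m
  haveI : Module.Finite k (C ⧸ m) :=
    Module.Finite.of_surjective (Ideal.Quotient.mkₐ k m).toLinearMap Ideal.Quotient.mk_surjective
  haveI : Algebra.IsAlgebraic k (C ⧸ m) := Algebra.IsAlgebraic.of_finite k (C ⧸ m)
  exact ⟨(IsAlgClosed.lift (R := k) (S := C ⧸ m) (M := k)).comp (Ideal.Quotient.mkₐ k m)⟩

/-- A symmetric cocycle on a finite group is the coboundary of a unit. -/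
theorem exists_split [IsAlgClosed k] [Module.Finite k R] (Δ : R →ₐ[k] R ⊗[k] R) (ε : R →ₐ[k] k) (inv : R →ₐ[k] R)
    (φ : R ⊗[k] R) (hφ : IsUnit φ)
    (hcoassoc : ∀ r, Algebra.TensorProduct.assoc k k k R R R (Algebra.TensorProduct.map Δ (AlgHom.id k R) (Δ r)) =
      Algebra.TensorProduct.map (AlgHom.id k R) Δ (Δ r))
    (hcomm : ∀ r, Algebra.TensorProduct.comm k R R (Δ r) = Δ r)
    (hcounit : ∀ r, Algebra.TensorProduct.lift ((Algebra.ofId k R).comp ε) (AlgHom.id k R) (fun _ _ => .all _ _) (Δ r) = r)
    (hinv : ∀ r, Algebra.TensorProduct.lift (AlgHom.id k R) inv (fun _ _ => .all _ _) (Δ r) = algebraMap k R (ε r))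
    (hsymm : Algebra.TensorProduct.comm k R R φ = φ)
    (hnorm : Algebra.TensorProduct.lift ((Algebra.ofId k R).comp ε) (AlgHom.id k R) (fun _ _ => .all _ _) φ = 1)
    (hcocycle : Algebra.TensorProduct.assoc k k k R R R ((φ ⊗ₜ 1) * Algebra.TensorProduct.map Δ (AlgHom.id k R) φ) =
      (1 ⊗ₜ φ) * Algebra.TensorProduct.map (AlgHom.id k R) Δ φ) :
    ∃ σ : R, IsUnit σ ∧ φ * Δ σ = σ ⊗ₜ σ := by
  classical
  let M := twist φ Δ
  let T : Module.Dual k R → Module.End k R := fun a => (ctr a).comp M
  have hassoc : ∀ r, M.lTensor R (M r) = Algebra.TensorProduct.assoc k k k R R R (M.rTensor R (M r)) := fun r => by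
    rw [lTensor_twist, rTensor_twist, twist_apply]
    simp only [map_mul] at hcocycle ⊢
    rw [← _root_.mul_assoc, ← hcocycle, hcoassoc, _root_.mul_assoc]
  have hmul : ∀ a b, T a * T b = T ((ctr₂ b a).comp M) := fun a b => by
    ext r
    show ctr a (M (ctr b (M r))) = ctr _ (M r)
    rw [ctr_ctr, ← rTensor_ctr₂, ← ctr_assoc, hassoc r]
  have hswap : ∀ a b, (ctr₂ a b).comp M = (ctr₂ b a).comp M := fun a b => LinearMap.ext fun r => by
    show ctr₂ a b (φ * Δ r) = ctr₂ b a (φ * Δ r)
    rw [← ctr₂_swap, map_mul, hsymm, hcomm]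
  have hc : ∀ a ∈ Set.range T, ∀ b ∈ Set.range T, a * b = b * a := by
    rintro _ ⟨a, rfl⟩ _ ⟨b, rfl⟩
    rw [hmul, hmul, hswap]
  have hone : T ε.toLinearMap = 1 := by
    ext r
    show ctr ε.toLinearMap (φ * Δ r) = r
    rw [ctr_algHom, map_mul, hnorm, hcounit, _root_.one_mul]
  haveI : Nontrivial R := ε.toRingHom.domain_nontrivial
  let E := Algebra.adjoin k (Set.range T)
  letI : CommRing E := Algebra.adjoinCommRingOfComm k hc
  haveI : Module.Finite k E := inferInstanceAs (Module.Finite k (Subalgebra.toSubmodule E))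
  haveI : Nontrivial E := ⟨⟨0, 1, fun h => zero_ne_one (congrArg Subtype.val h)⟩⟩
  obtain ⟨ψ⟩ := exists_point k E
  let g : Module.Dual k R → E := fun a => ⟨T a, Algebra.subset_adjoin ⟨a, rfl⟩⟩
  let χ : Module.Dual k (Module.Dual k R) :=
    { toFun := fun a => ψ (g a)
      map_add' := fun a b => by
        rw [← map_add]
        refine congrArg ψ (Subtype.ext ?_)
        ext r
        simp [g, T, LinearMap.rTensor_add]
      map_smul' := fun t a => by
        rw [RingHom.id_apply, ← map_smul]
        refine congrArg ψ (Subtype.ext ?_)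
        ext r
        simp [g, T, LinearMap.rTensor_smul] }
  let σ := (Module.evalEquiv k R).symm χ
  have hσ : ∀ a : Module.Dual k R, a σ = ψ (g a) := fun a => Module.apply_evalEquiv_symm_apply k R a χ
  have hsplit : φ * Δ σ = σ ⊗ₜ σ := eq_of_ctr₂ fun a b => by
    have h1 : ctr₂ a b (φ * Δ σ) = ψ (g ((ctr₂ a b).comp M)) := hσ ((ctr₂ a b).comp M)
    rw [h1, show g ((ctr₂ a b).comp M) = g b * g a from Subtype.ext (hmul b a).symm, map_mul, ← hσ, ← hσ]
    show b σ * a σ = TensorProduct.lid k k (TensorProduct.map a b (σ ⊗ₜ σ))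
    rw [TensorProduct.map_tmul, TensorProduct.lid_tmul, smul_eq_mul, _root_.mul_comm]
  refine ⟨σ, ?_, hsplit⟩
  have hε : ε σ = 1 := by
    refine (hσ ε.toLinearMap).trans ?_
    rw [show g ε.toLinearMap = 1 from Subtype.ext hone, map_one]
  have h := congrArg (Algebra.TensorProduct.lift (AlgHom.id k R) inv (fun _ _ => .all _ _)) hsplit
  rw [map_mul, hinv, hε, map_one, _root_.mul_one, Algebra.TensorProduct.lift_tmul, AlgHom.id_apply] at h
  have hu := hφ.map (Algebra.TensorProduct.lift (AlgHom.id k R) inv (fun _ _ => .all _ _))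
  rw [h] at hu
  exact isUnit_of_mul_isUnit_left hu

end Groth.Agent.ThetaLib
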