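import Groth.Agent.ThetaLib.Cartesian
import Groth.Agent.FpqcQCoh.FamilyHom

/-!
# Descent of morphisms of pairs

Morphisms out of a pair descend along flat covers; equality is local.
-/

set_option autoImplicit false
set_option backward.isDefEq.respectTransparency false
set_option backward.defeqAttrib.useBackward true
set_option linter.style.haveILetI false

universe u

open CategoryTheory CategoryTheory.Limits AlgebraicGeometry Pseudofunctor Bicategory
open Groth.Agent

noncomputable section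

namespace Groth.Agent.ThetaLib

open ThetaGrp

/-- A scheme with a module, as a pair. -/
abbrev pr (V : Scheme.{u}) (M : V.Modules) : CoGrothendieck (modPF.{u}) := ⟨V, M⟩

/-- A morphism of pairs from its components. -/
abbrev mor (X Y : CoGrothendieck (modPF.{u})) (b : X.base ⟶ Y.base)
    (φ : X.fiber ⟶ (Scheme.Modules.pullback b).obj Y.fiber) : X ⟶ Y := ⟨b, φ⟩

/-- The canonical morphism to a pair along a map of schemes. -/
abbrev cartMor {V W : Scheme.{u}} (h : V ⟶ W) (M : W.Modules) :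
    pr V ((Scheme.Modules.pullback h).obj M) ⟶ pr W M :=
  ⟨h, 𝟙 _⟩

instance isIso_cartMor_fiber {V W : Scheme.{u}} (h : V ⟶ W) (M : W.Modules) : IsIso (cartMor h M).fiber :=
  inferInstanceAs (IsIso (𝟙 ((Scheme.Modules.pullback h).obj M)))

theorem comp_fiber {X Y Z : CoGrothendieck (modPF.{u})} (f : X ⟶ Y) (g : Y ⟶ Z) :
    (f ≫ g).fiber = f.fiber ≫ (Scheme.Modules.pullback f.base).map g.fiber ≫
      (Scheme.Modules.pullbackComp f.base g.base).hom.app Z.fiber := rfl

theorem fiber_congr {X Y : CoGrothendieck (modPF.{u})} {f g : X ⟶ Y} (h : f = g) :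
    f.fiber = g.fiber ≫ eqToHom (by rw [h]) := by
  subst h
  simp

/-- A lift of the canonical morphism, composed with a morphism over the cover, is the transported morphism. -/
theorem lift_comp_eq {X Y : CoGrothendieck (modPF.{u})} (p : X ⟶ Y) (N : Y.base.Modules)
    (φ : (Scheme.Modules.pullback p.base).obj Y.fiber ⟶ (Scheme.Modules.pullback p.base).obj N)
    {T : Scheme.{u}} {h₀ : T ⟶ Y.base} (s : T ⟶ X.base) (es : s ≫ p.base = h₀)
    (ψ : (Scheme.Modules.pullback h₀).obj Y.fiber ⟶ (Scheme.Modules.pullback s).obj X.fiber)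
    (hψ : mor (pr T ((Scheme.Modules.pullback h₀).obj Y.fiber)) X s ψ ≫ p = cartMor h₀ Y.fiber) :
    mor (pr T ((Scheme.Modules.pullback h₀).obj Y.fiber)) X s ψ ≫ mor X (pr Y.base N) p.base (p.fiber ≫ φ) =
      mor (pr T ((Scheme.Modules.pullback h₀).obj Y.fiber)) (pr Y.base N) h₀ ((FpqcQCoh.cmpIso Y.fiber s es).inv ≫ (Scheme.Modules.pullback s).map φ ≫
        (FpqcQCoh.cmpIso N s es).hom) := by
  subst es
  refine CoGrothendieck.Hom.ext _ _ rfl ?_
  have h1 := fiber_congr hψ
  rw [comp_fiber] at h1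
  simp only [eqToHom_refl, Category.comp_id] at h1 ⊢
  rw [comp_fiber]
  simp only [Functor.map_comp, Category.assoc]
  have h2 : ψ ≫ (Scheme.Modules.pullback s).map p.fiber =
      (Scheme.Modules.pullbackComp s p.base).inv.app Y.fiber := by
    rw [← cancel_mono ((Scheme.Modules.pullbackComp s p.base).hom.app Y.fiber), Category.assoc]
    exact h1.trans (((Scheme.Modules.pullbackComp s p.base).inv_hom_id_app Y.fiber)).symm
  erw [reassoc_of% h2]
  simp [FpqcQCoh.cmpIso, Scheme.Modules.pullbackCongr]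

variable {ι : Type u} {Y W : CoGrothendieck (modPF.{u})} {Xs : ι → CoGrothendieck (modPF.{u})}
  (p : ∀ i, Xs i ⟶ Y) [∀ i, IsIso (p i).fiber]
  (hf : Presieve.ofArrows (fun i => (Xs i).base) (fun i => (p i).base) ∈ Scheme.fpqcPrecoverage Y.base)

include hf in
/-- Morphisms are determined by their restrictions to a cover. -/
theorem hom_ext_cover {g g' : Y ⟶ W} (hb : g.base = g'.base) [Coh.IsQCoh (X := W.base) W.fiber]
    (h : ∀ i, p i ≫ g = p i ≫ g') : g = g' := by
  obtain ⟨b, φ⟩ := g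
  obtain ⟨b', φ'⟩ := g'
  dsimp at hb
  subst hb
  haveI : Coh.IsQCoh ((Scheme.Modules.pullback b).obj W.fiber) := PullbackMod.isQCoh_pullback b _
  suffices φ = φ' by rw [this]
  refine FpqcQCoh.hom_ext_family (f := fun i => (p i).base) (M := Y.fiber)
    (N := (Scheme.Modules.pullback b).obj W.fiber) hf fun i => ?_
  have h' := fiber_congr (h i)
  rw [eqToHom_refl, Category.comp_id, comp_fiber, comp_fiber] at h'
  haveI : IsIso (C := (Xs i).base.Modules) (p i).fiber := inferInstanceAs (IsIso (p i).fiber)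
  exact (cancel_mono _).1 ((cancel_epi (p i).fiber).1 h')

include hf in
/-- Morphisms descend. -/
theorem exists_desc_cover (h : ∀ i, Xs i ⟶ W) (b : Y.base ⟶ W.base) (hb : ∀ i, (p i).base ≫ b = (h i).base)
    [Coh.IsQCoh (X := W.base) W.fiber]
    (hcompat : ∀ (Z : CoGrothendieck (modPF.{u})) (i j : ι) (a : Z ⟶ Xs i) (a' : Z ⟶ Xs j),
      a ≫ p i = a' ≫ p j → a ≫ h i = a' ≫ h j) :
    ∃ g : Y ⟶ W, g.base = b ∧ ∀ i, p i ≫ g = h i := by
  haveI : Coh.IsQCoh ((Scheme.Modules.pullback b).obj W.fiber) := PullbackMod.isQCoh_pullback b _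
  let N := (Scheme.Modules.pullback b).obj W.fiber
  let q : pr Y.base N ⟶ W := cartMor b W.fiber
  -- factor each morphism through the inverse image
  have hk : ∀ i, ∃ φ : (Scheme.Modules.pullback (p i).base).obj Y.fiber ⟶ (Scheme.Modules.pullback (p i).base).obj N,
      mor (Xs i) (pr Y.base N) (p i).base ((p i).fiber ≫ φ) ≫ q = h i := fun i => by
    obtain ⟨g, hg, hgq, -⟩ := exists_lift q (h i) (p i).base (hb i)
    obtain ⟨bg, φg⟩ := g
    dsimp at hg
    subst hg
    haveI : IsIso (C := (Xs i).base.Modules) (p i).fiber := inferInstanceAs (IsIso (p i).fiber)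
    refine ⟨inv (p i).fiber ≫ φg, ?_⟩
    rw [IsIso.hom_inv_id_assoc]
    exact hgq
  choose φ hφ using hk
  let k : ∀ i, Xs i ⟶ pr Y.base N := fun i => mor (Xs i) (pr Y.base N) (p i).base ((p i).fiber ≫ φ i)
  have hc : FpqcQCoh.IsCompatibleHom (f := fun i => (p i).base) φ := by
    intro T h₀ i j a a' ea ea'
    have key : ∀ (l : ι) (s : T ⟶ (Xs l).base) (es : s ≫ (p l).base = h₀),
        ∃ a_ : pr T ((Scheme.Modules.pullback h₀).obj Y.fiber) ⟶ Xs l,
          a_ ≫ p l = cartMor h₀ Y.fiber ∧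
            a_ ≫ k l = mor (pr T ((Scheme.Modules.pullback h₀).obj Y.fiber)) (pr Y.base N) h₀ (FpqcQCoh.overlap (f := fun i => (p i).base) φ s es) := fun l s es => by
      obtain ⟨a_, ha, hap, -⟩ := exists_lift (p l) (cartMor h₀ Y.fiber) s es
      obtain ⟨bs, ψ⟩ := a_
      dsimp at ha
      cases ha
      exact ⟨⟨_, ψ⟩, hap, lift_comp_eq (p l) N (φ l) _ es ψ hap⟩
    obtain ⟨a₁, h1, e1⟩ := key i a ea
    obtain ⟨a₂, h2, e2⟩ := key j a' ea'
    have h3 : mor (pr T ((Scheme.Modules.pullback h₀).obj Y.fiber)) (pr Y.base N) h₀ (FpqcQCoh.overlap (f := fun i => (p i).base) φ a ea) =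
        mor (pr T ((Scheme.Modules.pullback h₀).obj Y.fiber)) (pr Y.base N) h₀ (FpqcQCoh.overlap (f := fun i => (p i).base) φ a' ea') := by
      refine lift_unique q rfl ?_
      rw [← e1, ← e2, Category.assoc, Category.assoc, hφ, hφ]
      exact hcompat _ i j a₁ a₂ (h1.trans h2.symm)
    have h4 := fiber_congr h3
    simpa using h4
  obtain ⟨ψ, hψ⟩ := FpqcQCoh.exists_hom (f := fun i => (p i).base) hf hc
  refine ⟨⟨b, ψ⟩, rfl, fun i => ?_⟩
  rw [← hφ i]
  refine CoGrothendieck.Hom.ext _ _ rfl ?_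
  rw [eqToHom_refl, Category.comp_id, comp_fiber, comp_fiber]
  show (p i).fiber ≫ (Scheme.Modules.pullback (p i).base).map ψ ≫ _ =
    ((p i).fiber ≫ φ i) ≫ (Scheme.Modules.pullback (p i).base).map (𝟙 N) ≫ _
  rw [hψ i, CategoryTheory.Functor.map_id, Category.id_comp, Category.assoc]

end Groth.Agent.ThetaLib
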