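import Groth.Agent.ThetaLib.BC
import Groth.Agent.OverRep.Main

/-!
# The functor of points of the theta group and its sheaf property
-/

set_option autoImplicit false
set_option backward.isDefEq.respectTransparency false
set_option backward.defeqAttrib.useBackward true
set_option linter.style.haveILetI false

universe u

open CategoryTheory CategoryTheory.Limits MonoidalCategory CartesianMonoidalCategory MonObj AlgebraicGeometry
open Pseudofunctor Bicategory Opposite
open Groth.Agent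

noncomputable section

namespace Groth.Agent.ThetaLib

open ThetaGrp

variable {S : Scheme.{u}} {A : Over S} [GrpObj A] {L : A.left.Modules}

/-- The point below a point of the theta group. -/
def ptOf {T : Over S} (β : thetaPts A L T) : T ⟶ A := β.2.choose

theorem isOverPt_ptOf {T : Over S} (β : thetaPts A L T) : IsOverPt β (ptOf β) := β.2.choose_spec

theorem ptOf_eq {T : Over S} {β : thetaPts A L T} {x : T ⟶ A} (h : IsOverPt β x) : ptOf β = x :=
  transl_injective ((isOverPt_ptOf β).symm.trans h)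

/-- Base change of a point. -/
def pullPt {V T : Over S} (r : V ⟶ T) (β : thetaPts A L T) : thetaPts A L V :=
  (exists_bc_pt r (isOverPt_ptOf β)).choose

theorem isOverPt_pullPt {V T : Over S} (r : V ⟶ T) {β : thetaPts A L T} {x : T ⟶ A} (h : IsOverPt β x) :
    IsOverPt (pullPt r β) (r ≫ x) := by
  have h' : IsOverPt (pullPt r β) (r ≫ ptOf β) := (exists_bc_pt r (isOverPt_ptOf β)).choose_spec.1
  exact ptOf_eq h ▸ h'

theorem isBaseChange_pullPt {V T : Over S} (r : V ⟶ T) (β : thetaPts A L T) : IsBaseChange (pullPt r β) r β :=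
  (exists_bc_pt r (isOverPt_ptOf β)).choose_spec.2

theorem eq_pullPt {V T : Over S} {r : V ⟶ T} {β : thetaPts A L T} {β' : thetaPts A L V} {x : T ⟶ A}
    (h : IsOverPt β x) (h' : IsOverPt β' (r ≫ x)) (e : IsBaseChange β' r β) : β' = pullPt r β :=
  bc_unique h' (isOverPt_pullPt r h) e (isBaseChange_pullPt r β)

theorem bc_id {T : Over S} (β : thetaPts A L T) : IsBaseChange β (𝟙 T) β := by
  have h : bcLift A L (𝟙 T) = 𝟙 (thetaObj A L T) := by
    refine lift_unique (proj A L T) ?_ ?_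
    · show (A ◁ 𝟙 T).left = 𝟙 _
      rw [MonoidalCategory.whiskerLeft_id]
      rfl
    · rw [bcLift_proj, Category.id_comp]
  show _ ≫ _ = _ ≫ _
  rw [h, Category.comp_id, Category.id_comp]

theorem pullPt_id {T : Over S} (β : thetaPts A L T) : pullPt (𝟙 T) β = β :=
  (eq_pullPt (isOverPt_ptOf β) (by rw [Category.id_comp]; exact isOverPt_ptOf β) (bc_id β)).symm

theorem pullPt_comp {W V T : Over S} (s : W ⟶ V) (r : V ⟶ T) (β : thetaPts A L T) :
    pullPt s (pullPt r β) = pullPt (s ≫ r) β := by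
  refine eq_pullPt (isOverPt_ptOf β) ?_ (bc_trans (isBaseChange_pullPt s _) (isBaseChange_pullPt r β))
  rw [Category.assoc]
  exact isOverPt_pullPt s (isOverPt_pullPt r (isOverPt_ptOf β))
where
  bc_trans {V T G : Over S} {r : V ⟶ T} {g : T ⟶ G} {u : thetaPts A L G} {β : thetaPts A L T}
      {β' : thetaPts A L V} (h : IsBaseChange β' r β) (h' : IsBaseChange β g u) : IsBaseChange β' (r ≫ g) u := by
    show β'.1.hom ≫ _ = _
    rw [bcLift_comp, ← Category.assoc, h, Category.assoc, h', ← Category.assoc]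

theorem pullPt_mul [IsCommMonObj A] {V T : Over S} (r : V ⟶ T) (α β : thetaPts A L T) :
    pullPt r (α * β) = pullPt r α * pullPt r β := by
  refine (eq_pullPt (isOverPt_mul (isOverPt_ptOf α) (isOverPt_ptOf β)) ?_
    (bc_mul (isBaseChange_pullPt r α) (isBaseChange_pullPt r β))).symm
  rw [MonObj.comp_mul]
  exact isOverPt_mul (isOverPt_pullPt r (isOverPt_ptOf α)) (isOverPt_pullPt r (isOverPt_ptOf β))

variable (A L) in
/-- The functor of points of the theta group. -/
def ptsFun : (Over S)ᵒᵖ ⥤ Type u where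
  obj T := thetaPts A L T.unop
  map g := TypeCat.ofHom fun β => pullPt g.unop β
  map_id T := ConcreteCategory.hom_ext _ _ fun β => pullPt_id β
  map_comp g h := ConcreteCategory.hom_ext _ _ fun β => (pullPt_comp h.unop g.unop β).symm

theorem ptsFun_map {V T : Over S} (r : V ⟶ T) (β : thetaPts A L T) :
    (ptsFun A L).map r.op β = pullPt r β := rfl

/-- Points agree if they agree on an open cover. -/
theorem eq_of_pullPt (hq : ∀ T : Over S, Coh.IsQCoh (X := (A ⊗ T).left) (thetaObj A L T).fiber) {T : Over S}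
    {J : Type u} (U : J → T.left.Opens) (hU : ∀ t, ∃ j, t ∈ U j) {α β : thetaPts A L T}
    (h : ∀ j, pullPt (subι T (U j)) α = pullPt (subι T (U j)) β) : α = β := by
  have hx : ptOf α = ptOf β := by
    refine Over.OverMorphism.ext ((T.left.openCoverOfIsOpenCover U (eq_top_iff.2 fun t _ =>
      TopologicalSpace.Opens.mem_iSup.2 (hU t))).hom_ext _ _ fun j => ?_)
    have h1 := isOverPt_pullPt (subι T (U j)) (isOverPt_ptOf α)
    rw [h j] at h1
    exact (congrArg CommaMorphism.left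
      (transl_injective (h1.symm.trans (isOverPt_pullPt (subι T (U j)) (isOverPt_ptOf β)))) :)
  refine eq_of_local hq (isOverPt_ptOf α) (hx ▸ isOverPt_ptOf β) U hU fun j α' β' hα hβ eα eβ => ?_
  rw [eq_pullPt (isOverPt_ptOf α) hα eα, h j,
    ← eq_pullPt (isOverPt_ptOf β) (hx ▸ hβ) eβ]

/-- Points glue along open covers. -/
theorem exists_glue (hq : ∀ T : Over S, Coh.IsQCoh (X := (A ⊗ T).left) (thetaObj A L T).fiber) {T : Over S}
    {J : Type u} (U : J → T.left.Opens) (hU : ∀ t, ∃ j, t ∈ U j) (b : ∀ j, thetaPts A L (sub T (U j)))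
    (h : ∀ (V : Over S) (j l : J) (r : V ⟶ sub T (U j)) (r' : V ⟶ sub T (U l)),
      r ≫ subι T (U j) = r' ≫ subι T (U l) → pullPt r (b j) = pullPt r' (b l)) :
    ∃ β : thetaPts A L T, ∀ j, pullPt (subι T (U j)) β = b j := by
  let C := T.left.openCoverOfIsOpenCover U (eq_top_iff.2 fun t _ => TopologicalSpace.Opens.mem_iSup.2 (hU t))
  -- the point below
  have hpt : ∀ (V : Over S) (j l : J) (r : V ⟶ sub T (U j)) (r' : V ⟶ sub T (U l)),
      r ≫ subι T (U j) = r' ≫ subι T (U l) → r ≫ ptOf (b j) = r' ≫ ptOf (b l) := fun V j l r r' e => by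
    rw [← ptOf_eq (isOverPt_pullPt r (isOverPt_ptOf (b j))), h V j l r r' e,
      ptOf_eq (isOverPt_pullPt r' (isOverPt_ptOf (b l)))]
  let z : T.left ⟶ A.left := C.glueMorphisms (fun j => (ptOf (b j)).left) fun j l => by
    let P : Over S := Over.mk (pullback.fst (C.f j) (C.f l) ≫ (U j).ι ≫ T.hom)
    let r : P ⟶ sub T (U j) := Over.homMk (pullback.fst (C.f j) (C.f l)) rfl
    let r' : P ⟶ sub T (U l) := Over.homMk (pullback.snd (C.f j) (C.f l)) (pullback.condition_assoc T.hom).symm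
    exact (congrArg CommaMorphism.left (hpt P j l r r' (Over.OverMorphism.ext pullback.condition)) :)
  have hz : ∀ j, (U j).ι ≫ z = (ptOf (b j)).left := fun j => C.ι_glueMorphisms _ _ j
  let x : T ⟶ A := Over.homMk z (C.hom_ext _ _ fun j => by
    show (U j).ι ≫ z ≫ A.hom = (U j).ι ≫ T.hom
    rw [← Category.assoc, hz]
    exact Over.w (ptOf (b j)))
  have hx : ∀ j, subι T (U j) ≫ x = ptOf (b j) := fun j => Over.OverMorphism.ext (hz j)
  haveI := hq T
  let p := fun j => bcLift A L (subι T (U j))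
  -- overlaps
  have hov : ∀ (Z : CoGrothendieck (modPF.{u})) (j l : J) (a : Z ⟶ thetaObj A L (sub T (U j)))
      (a' : Z ⟶ thetaObj A L (sub T (U l))), a ≫ p j = a' ≫ p l →
      ∃ (V : Over S) (r : V ⟶ sub T (U j)) (r' : V ⟶ sub T (U l)) (s : Z ⟶ thetaObj A L V),
        r ≫ subι T (U j) = r' ≫ subι T (U l) ∧ s ≫ bcLift A L r = a ∧ s ≫ bcLift A L r' = a' := by
    intro Z j l a a' e
    have eb : a.base ≫ (A ◁ subι T (U j)).left = a'.base ≫ (A ◁ subι T (U l)).left :=
      congrArg CoGrothendieck.Hom.base e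
    let V : Over S := Over.mk (a.base ≫ (A ⊗ sub T (U j)).hom)
    let a₀ : V ⟶ A ⊗ sub T (U j) := Over.homMk a.base rfl
    let a₀' : V ⟶ A ⊗ sub T (U l) := Over.homMk a'.base (by
      show a'.base ≫ (A ⊗ sub T (U l)).hom = a.base ≫ (A ⊗ sub T (U j)).hom
      rw [← Over.w (A ◁ subι T (U l)), ← Category.assoc, ← eb, Category.assoc, Over.w])
    have e₀ : a₀ ≫ (A ◁ subι T (U j)) = a₀' ≫ (A ◁ subι T (U l)) := Over.OverMorphism.ext eb
    have e₁ : a₀ ≫ fst A _ = a₀' ≫ fst A _ := by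
      have := congrArg (· ≫ fst A T) e₀
      simpa using this
    obtain ⟨s, hsb, hs, -⟩ := exists_lift (bcLift A L (a₀ ≫ snd A _)) a (lift (a₀ ≫ fst A _) (𝟙 V)).left (by
      show (lift (a₀ ≫ fst A _) (𝟙 V)).left ≫ (A ◁ (a₀ ≫ snd A _)).left = a₀.left
      rw [← Over.comp_left]
      congr 1
      apply CartesianMonoidalCategory.hom_ext <;> simp)
    have er : (a₀ ≫ snd A _) ≫ subι T (U j) = (a₀' ≫ snd A _) ≫ subι T (U l) := by
      have := congrArg (· ≫ snd A T) e₀
      simpa using this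
    refine ⟨V, a₀ ≫ snd A _, a₀' ≫ snd A _, s, er, hs, lift_unique (p l) ?_ ?_⟩
    · show s.base ≫ (A ◁ (a₀' ≫ snd A _)).left = a₀'.left
      rw [hsb, ← Over.comp_left]
      congr 1
      apply CartesianMonoidalCategory.hom_ext
      · simp [e₁]
      · simp
    · rw [Category.assoc, ← bcLift_comp, ← er, bcLift_comp, ← Category.assoc, hs, e]
  have hinv : ∀ (j : J), IsBaseChange (pullPt (𝟙 _) (b j))⁻¹ (𝟙 _) (b j)⁻¹ := fun j => by
    rw [pullPt_id]; exact bc_id _
  -- glue both directions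
  have hglue : ∀ (c : ∀ j, thetaPts A L (sub T (U j))) (y : T ⟶ A), (∀ j, IsOverPt (c j) (subι T (U j) ≫ y)) →
      (∀ (V : Over S) (j l : J) (r : V ⟶ sub T (U j)) (r' : V ⟶ sub T (U l)),
        r ≫ subι T (U j) = r' ≫ subι T (U l) → pullPt r (c j) = pullPt r' (c l)) →
      ∃ g : thetaObj A L T ⟶ thetaObj A L T, g.base = (transl A y).left ∧ ∀ j, p j ≫ g = (c j).1.hom ≫ p j := by
    intro c y hy hc
    refine exists_desc_cover p (cover_mem A U hU) (fun j => (c j).1.hom ≫ p j) (transl A y).left (fun j => ?_) ?_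
    · show (A ◁ subι T (U j)).left ≫ _ = (c j).1.hom.base ≫ (A ◁ subι T (U j)).left
      rw [hy j, ← Over.comp_left, ← Over.comp_left, transl_natural]
    · intro Z j l a a' e
      obtain ⟨V, r, r', s, er, rfl, rfl⟩ := hov Z j l a a' e
      have hbc := isBaseChange_pullPt r (c j)
      have hbc' := isBaseChange_pullPt r' (c l)
      show (s ≫ bcLift A L r) ≫ (c j).1.hom ≫ p j = (s ≫ bcLift A L r') ≫ (c l).1.hom ≫ p l
      rw [Category.assoc, ← Category.assoc (bcLift A L r), ← hbc, Category.assoc, ← bcLift_comp, hc V j l r r' er, er,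
        Category.assoc, ← Category.assoc (bcLift A L r'), ← hbc', Category.assoc, ← bcLift_comp]
  have hb : ∀ j, IsOverPt (b j) (subι T (U j) ≫ x) := fun j => by rw [hx]; exact isOverPt_ptOf _
  have hb' : ∀ j, IsOverPt (b j)⁻¹ (subι T (U j) ≫ x⁻¹) := fun j => by
    rw [GrpObj.comp_inv]; exact isOverPt_inv' (hb j)
  obtain ⟨g, hg, hgp⟩ := hglue b x hb h
  obtain ⟨g', hg', hgp'⟩ := hglue (fun j => (b j)⁻¹) x⁻¹ hb' fun V j l r r' e => by
    have hh : ∀ {W : Over S} (q : V ⟶ W) (w : thetaPts A L W), pullPt q w⁻¹ = (pullPt q w)⁻¹ := fun q w => by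
      refine (eq_pullPt (isOverPt_inv' (isOverPt_ptOf w)) ?_ ?_).symm
      · rw [GrpObj.comp_inv]; exact isOverPt_inv' (isOverPt_pullPt q (isOverPt_ptOf w))
      · show (pullPt q w).1.inv ≫ _ = _ ≫ w.1.inv
        rw [Iso.inv_comp_eq, ← Category.assoc]
        exact (Iso.eq_comp_inv w.1).2 (isBaseChange_pullPt q w).symm
    rw [hh, hh, h V j l r r' e]
  have key : ∀ (G G' : thetaObj A L T ⟶ thetaObj A L T) (y : T ⟶ A) (c : ∀ j, thetaPts A L (sub T (U j))),
      G.base = (transl A y).left → G'.base = (transl A y⁻¹).left → (∀ j, p j ≫ G = (c j).1.hom ≫ p j) →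
      (∀ j, p j ≫ G' = (c j).1.inv ≫ p j) → G ≫ G' = 𝟙 _ := fun G G' y c e₁ e₂ e₃ e₄ => by
    refine hom_ext_cover p (cover_mem A U hU) ?_ fun j => ?_
    · show G.base ≫ G'.base = 𝟙 _
      rw [e₁, e₂, ← Over.comp_left, ← transl_mul, mul_inv_cancel, transl_one]
      rfl
    · rw [reassoc_of% (e₃ j), e₄, Category.comp_id, Iso.hom_inv_id_assoc]
  let β : thetaPts A L T :=
    ⟨⟨g, g', key g g' x b hg hg' hgp hgp', key g' g x⁻¹ (fun j => (b j)⁻¹) hg' (by rw [inv_inv]; exact hg) hgp' hgp⟩,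
      x, hg⟩
  refine ⟨β, fun j => (eq_pullPt (β := β) (x := x) hg (hb j) ?_).symm⟩
  exact (hgp j).symm
where
  isOverPt_inv' {T : Over S} {α : thetaPts A L T} {x : T ⟶ A} (h : IsOverPt α x) : IsOverPt α⁻¹ x⁻¹ := by
    obtain ⟨y, hy⟩ := α⁻¹.2
    have h1 : IsOverPt (α * α⁻¹) (y * x) := by
      show (α.1 * α⁻¹.1).hom.base = _
      rw [Aut.Aut_mul_def, Iso.trans_hom, CoGrothendieck.categoryStruct_comp_base, show α.1.hom.base = _ from h, hy,
        transl_mul, Over.comp_left]
    rw [mul_inv_cancel] at h1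
    have h2 : y * x = 1 := transl_injective (h1.symm.trans (by
      show 𝟙 _ = (transl A (1 : T ⟶ A)).left
      rw [transl_one]; rfl))
    rw [← eq_inv_of_mul_eq_one_left h2]
    exact hy

/-- The functor of points is a Zariski sheaf. -/
theorem isSheaf_ptsFun (hq : ∀ T : Over S, Coh.IsQCoh (X := (A ⊗ T).left) (thetaObj A L T).fiber) :
    Presheaf.IsSheaf (Scheme.zariskiTopology.over S) (ptsFun A L) := by
  rw [isSheaf_iff_isSheaf_of_type]
  intro T R hR x hx
  rw [GrothendieckTopology.mem_over_iff] at hR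
  obtain ⟨𝒰, h𝒰⟩ := Scheme.exists_cover_of_mem_grothendieckTopology hR
  let 𝒱 := 𝒰.ulift
  haveI : ∀ i, IsOpenImmersion (𝒱.f i) := fun i => 𝒱.map_prop i
  let U := fun i => (𝒱.f i).opensRange
  have hU : ∀ t, ∃ i, t ∈ U i := fun t => ⟨𝒱.idx t, 𝒱.covers t⟩
  have hR' : ∀ i, R (subι T (U i)) := fun i => by
    have h1 : (Sieve.overEquiv T R).arrows (𝒱.f i) := h𝒰 _ _ (Presieve.ofArrows.mk _)
    have h2 := (Sieve.overEquiv_iff R (𝒱.f i)).mp h1
    let r : sub T (U i) ⟶ Over.mk (𝒱.f i ≫ T.hom) := Over.homMk (𝒱.f i).isoOpensRange.inv (by simp [U])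
    have hr : r ≫ (Over.homMk (𝒱.f i) : Over.mk (𝒱.f i ≫ T.hom) ⟶ T) = subι T (U i) :=
      Over.OverMorphism.ext (by simp [r, U])
    rw [← hr]
    exact R.downward_closed h2 r
  obtain ⟨β, hβ⟩ := exists_glue hq U hU (fun i => x _ (hR' i)) fun V i l r r' e => hx r r' (hR' i) (hR' l) e
  have huniq : ∀ w : thetaPts A L T, (∀ i, pullPt (subι T (U i)) w = x _ (hR' i)) → w = β := fun w hw =>
    eq_of_pullPt hq U hU fun i => (hw i).trans (hβ i).symm
  refine ⟨β, fun V g hg => ?_, fun w hw => huniq w fun i => hw _ (hR' i)⟩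
  change pullPt g β = x g hg
  -- check on the cover pulled back
  refine eq_of_pullPt hq (fun i => g.left ⁻¹ᵁ U i) (fun v => hU (g.left v)) fun i => ?_
  let r : sub V (g.left ⁻¹ᵁ U i) ⟶ sub T (U i) := Over.homMk (g.left ∣_ U i) (by
    show (g.left ∣_ U i) ≫ (U i).ι ≫ T.hom = _
    rw [morphismRestrict_ι_assoc, Over.w g]; rfl)
  have hr : subι V (g.left ⁻¹ᵁ U i) ≫ g = r ≫ subι T (U i) :=
    Over.OverMorphism.ext (morphismRestrict_ι _ _).symm
  rw [pullPt_comp, hr, ← pullPt_comp, hβ i]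
  exact (hx (subι V (g.left ⁻¹ᵁ U i)) r hg (hR' i) hr).symm

end Groth.Agent.ThetaLib
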