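import Groth.Agent.ThetaLib.CocycleAlg
import Groth.Agent.GrpSchLib.Cartier

/-!
# Symmetric cocycles on finite commutative group schemes over algebraically closed fields split
-/

set_option autoImplicit false
set_option backward.isDefEq.respectTransparency false
set_option linter.style.haveILetI false

universe u

open CategoryTheory CategoryTheory.Limits MonoidalCategory CartesianMonoidalCategory MonObj AlgebraicGeometry
open Groth.Agent.GrpSchLib
open scoped TensorProduct

noncomputable section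

namespace Groth.Agent.ThetaLib

variable {k : Type u} [Field k]

/-- A function on an affine scheme as a ring element. -/
abbrev gVal {R : Type u} [CommRing R] [Algebra k R] (a : Γ((spO k R).left, ⊤)) : R :=
  (Scheme.ΓSpecIso (CommRingCat.of R)).hom a

theorem gVal_map {R T : Type u} [CommRing R] [Algebra k R] [CommRing T] [Algebra k T] (h : R →ₐ[k] T)
    (a : Γ((spO k R).left, ⊤)) : gVal (k := k) ((spMap h).left.appTop a) = h (gVal (k := k) a) :=
  ConcreteCategory.congr_hom (Scheme.ΓSpecIso_naturality (CommRingCat.ofHom h.toRingHom)) a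

theorem gVal_injective {R : Type u} [CommRing R] [Algebra k R] : Function.Injective (gVal (k := k) (R := R)) :=
  (ConcreteCategory.bijective_of_isIso (Scheme.ΓSpecIso (CommRingCat.of R)).hom).1

theorem gVal_surjective {R : Type u} [CommRing R] [Algebra k R] : Function.Surjective (gVal (k := k) (R := R)) :=
  (ConcreteCategory.bijective_of_isIso (Scheme.ΓSpecIso (CommRingCat.of R)).hom).2

variable {N : Over (Spec (CommRingCat.of k))} [GrpObj N]

theorem exists_affine_model [IsFinite N.hom] :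
    ∃ (R : Type u) (_ : CommRing R) (_ : Algebra k R), Module.Finite k R ∧ ∃ p : spO k R ⟶ N, IsIso p := by
  haveI : IsAffine N.left := isAffine_of_isAffineHom N.hom
  obtain ⟨φ, hφ⟩ := Spec.map_surjective (N.left.isoSpec.inv ≫ N.hom)
  haveI hfin : IsFinite (Spec.map φ) := by rw [hφ]; infer_instance
  letI : Algebra k Γ(N.left, ⊤) := φ.hom.toAlgebra
  have hfin' : Module.Finite k Γ(N.left, ⊤) := (IsFinite.SpecMap_iff φ).1 hfin
  let p : spO k Γ(N.left, ⊤) ⟶ N := Over.homMk N.left.isoSpec.inv hφ.symm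
  refine ⟨Γ(N.left, ⊤), inferInstance, inferInstance, hfin', p, ?_⟩
  haveI : IsIso ((Over.forget _).map p) := inferInstanceAs (IsIso N.left.isoSpec.inv)
  exact isIso_of_reflects_iso p (Over.forget _)

/-- A symmetric cocycle on a finite commutative group scheme over an algebraically closed field is a coboundary. -/
theorem exists_splitting [IsAlgClosed k] [IsFinite N.hom]
    (hcomm : ∀ (T : Over (Spec (CommRingCat.of k))) (n m : T ⟶ N), n * m = m * n)
    (c : ∀ {T : Over (Spec (CommRingCat.of k))}, (T ⟶ N) → (T ⟶ N) → Γ(T.left, ⊤))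
    (hu : ∀ {T : Over (Spec (CommRingCat.of k))} (n m : T ⟶ N), IsUnit (c n m))
    (hnat : ∀ {V T : Over (Spec (CommRingCat.of k))} (r : V ⟶ T) (n m : T ⟶ N),
      r.left.appTop (c n m) = c (r ≫ n) (r ≫ m))
    (hsymm : ∀ {T : Over (Spec (CommRingCat.of k))} (n m : T ⟶ N), c n m = c m n)
    (hone : ∀ {T : Over (Spec (CommRingCat.of k))} (m : T ⟶ N), c 1 m = 1)
    (hcoc : ∀ {T : Over (Spec (CommRingCat.of k))} (n m l : T ⟶ N), c n m * c (n * m) l = c m l * c n (m * l)) :
    ∃ F : ∀ {T : Over (Spec (CommRingCat.of k))}, (T ⟶ N) → Γ(T.left, ⊤),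
      (∀ {T : Over (Spec (CommRingCat.of k))} (n : T ⟶ N), IsUnit (F n)) ∧
      (∀ {V T : Over (Spec (CommRingCat.of k))} (r : V ⟶ T) (n : T ⟶ N), r.left.appTop (F n) = F (r ≫ n)) ∧
      ∀ {T : Over (Spec (CommRingCat.of k))} (n m : T ⟶ N), c n m * F (n * m) = F n * F m := by
  obtain ⟨R, _, _, _, p, _⟩ := exists_affine_model (N := N)
  let pt := fun {T : Type u} [CommRing T] [Algebra k T] (g : R →ₐ[k] T) => spMap g ≫ p
  have pt_comp : ∀ {T T' : Type u} [CommRing T] [Algebra k T] [CommRing T'] [Algebra k T'] (g : R →ₐ[k] T)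
      (h : T →ₐ[k] T'), pt (h.comp g) = spMap h ≫ pt g := fun g h => by
    show spMap (h.comp g) ≫ p = spMap h ≫ spMap g ≫ p
    rw [spMap_comp, Category.assoc]
  have pt_inj : ∀ {T : Type u} [CommRing T] [Algebra k T] (g g' : R →ₐ[k] T), pt g = pt g' → g = g' :=
    fun g g' h => spMap_injective ((cancel_mono p).1 h)
  have pt_surj : ∀ {T : Type u} [CommRing T] [Algebra k T] (n : spO k T ⟶ N), ∃ g : R →ₐ[k] T, pt g = n :=
    fun n => by
      obtain ⟨g, hg⟩ := exists_spMap (n ≫ inv p)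
      exact ⟨g, show spMap g ≫ p = n by rw [hg, Category.assoc, IsIso.inv_hom_id, Category.comp_id]⟩
  let i₁ : R →ₐ[k] R ⊗[k] R := Algebra.TensorProduct.includeLeft
  let i₂ : R →ₐ[k] R ⊗[k] R := Algebra.TensorProduct.includeRight
  obtain ⟨Δ, hΔ⟩ := pt_surj (pt i₁ * pt i₂)
  obtain ⟨ε, hε⟩ := pt_surj (1 : spO k k ⟶ N)
  obtain ⟨iv, hiv⟩ := pt_surj (pt (AlgHom.id k R))⁻¹
  have hε' : ∀ {T : Type u} [CommRing T] [Algebra k T], pt ((Algebra.ofId k T).comp ε) = 1 := fun {T} _ _ => by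
    rw [pt_comp, hε, MonObj.comp_one]
  let val := fun {T : Type u} [CommRing T] [Algebra k T] (g g' : R →ₐ[k] T) => gVal (k := k) (c (pt g) (pt g'))
  have val_map : ∀ {T T' : Type u} [CommRing T] [Algebra k T] [CommRing T'] [Algebra k T'] (g g' : R →ₐ[k] T)
      (h : T →ₐ[k] T'), h (val g g') = val (h.comp g) (h.comp g') := fun g g' h => by
    show h (gVal (k := k) _) = gVal (k := k) _
    rw [← gVal_map, hnat, pt_comp, pt_comp]
  have pt_lift : ∀ {T : Type u} [CommRing T] [Algebra k T] (g g' : R →ₐ[k] T),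
      pt ((Algebra.TensorProduct.lift g g' fun _ _ => .all _ _).comp Δ) = pt g * pt g' := fun g g' => by
    rw [pt_comp, hΔ, MonObj.comp_mul, ← pt_comp, ← pt_comp]
    congr 2
    · exact Algebra.TensorProduct.lift_comp_includeLeft _ _ _
    · exact Algebra.TensorProduct.lift_comp_includeRight' _ _ _
  let φ := val i₁ i₂
  -- the three projections
  let q₁ : R →ₐ[k] R ⊗[k] (R ⊗[k] R) := Algebra.TensorProduct.includeLeft
  let q₂ : R →ₐ[k] R ⊗[k] (R ⊗[k] R) := Algebra.TensorProduct.includeRight.comp i₁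
  let q₃ : R →ₐ[k] R ⊗[k] (R ⊗[k] R) := Algebra.TensorProduct.includeRight.comp i₂
  let as := (Algebra.TensorProduct.assoc k k k R R R).toAlgHom
  let A₁ : R ⊗[k] R →ₐ[k] (R ⊗[k] R) ⊗[k] R := Algebra.TensorProduct.map Δ (AlgHom.id k R)
  let A₂ : R ⊗[k] R →ₐ[k] R ⊗[k] (R ⊗[k] R) := Algebra.TensorProduct.map (AlgHom.id k R) Δ
  let B : R ⊗[k] R →ₐ[k] (R ⊗[k] R) ⊗[k] R := Algebra.TensorProduct.includeLeft
  let C : R ⊗[k] R →ₐ[k] R ⊗[k] (R ⊗[k] R) := Algebra.TensorProduct.includeRight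
  have eB₁ : (as.comp B).comp i₁ = q₁ := AlgHom.ext fun x => by
    simp [as, B, i₁, q₁, Algebra.TensorProduct.one_def]
  have eB₂ : (as.comp B).comp i₂ = q₂ := AlgHom.ext fun x => by
    simp [as, B, i₁, i₂, q₂, Algebra.TensorProduct.one_def]
  have eA₁ : pt ((as.comp A₁).comp i₁) = pt q₁ * pt q₂ := by
    rw [show (as.comp A₁).comp i₁ = (as.comp B).comp Δ from AlgHom.ext fun x => by simp [as, A₁, B, i₁],
      pt_comp, hΔ, MonObj.comp_mul, ← pt_comp, ← pt_comp, eB₁, eB₂]
  have eA₁' : (as.comp A₁).comp i₂ = q₃ := AlgHom.ext fun x => by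
    simp [as, A₁, i₂, q₃, Algebra.TensorProduct.one_def]
  have eA₂ : A₂.comp i₁ = q₁ := AlgHom.ext fun x => by simp [A₂, i₁, q₁]
  have eA₂' : pt (A₂.comp i₂) = pt q₂ * pt q₃ := by
    rw [show A₂.comp i₂ = C.comp Δ from AlgHom.ext fun x => by simp [A₂, C, i₂],
      pt_comp, hΔ, MonObj.comp_mul, ← pt_comp, ← pt_comp]
  have hφu : IsUnit φ := (hu (pt i₁) (pt i₂)).map (Scheme.ΓSpecIso (CommRingCat.of (R ⊗[k] R))).hom.hom
  obtain ⟨σ, hσu, hσ⟩ := exists_split Δ ε iv φ hφu
    (fun r => by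
      have h₁ : pt ((as.comp A₁).comp Δ) = pt q₁ * pt q₂ * pt q₃ := by
        rw [pt_comp, hΔ, MonObj.comp_mul, ← pt_comp, ← pt_comp, eA₁, eA₁']
      have h₂ : pt (A₂.comp Δ) = pt q₁ * (pt q₂ * pt q₃) := by
        rw [pt_comp, hΔ, MonObj.comp_mul, ← pt_comp, ← pt_comp, eA₂, eA₂']
      exact AlgHom.congr_fun (pt_inj _ _ (h₁.trans ((_root_.mul_assoc _ _ _).trans h₂.symm))) r)
    (fun r => by
      have h : pt ((Algebra.TensorProduct.comm k R R).toAlgHom.comp Δ) = pt Δ := by
        rw [pt_comp, hΔ, MonObj.comp_mul, ← pt_comp, ← pt_comp,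
          show (Algebra.TensorProduct.comm k R R).toAlgHom.comp i₁ = i₂ from AlgHom.ext fun x => by simp [i₁, i₂],
          show (Algebra.TensorProduct.comm k R R).toAlgHom.comp i₂ = i₁ from AlgHom.ext fun x => by simp [i₁, i₂],
          hcomm]
      exact AlgHom.congr_fun (pt_inj _ _ h) r)
    (fun r => AlgHom.congr_fun (pt_inj ((Algebra.TensorProduct.lift _ _ _).comp Δ) (AlgHom.id k R)
      (by rw [pt_lift, hε', _root_.one_mul])) r)
    (fun r => AlgHom.congr_fun (pt_inj ((Algebra.TensorProduct.lift _ _ _).comp Δ) ((Algebra.ofId k R).comp ε)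
      (by rw [pt_lift, hε', hiv, mul_inv_cancel])) r)
    (by
      refine (val_map i₁ i₂ (Algebra.TensorProduct.comm k R R).toAlgHom).trans ?_
      rw [show (Algebra.TensorProduct.comm k R R).toAlgHom.comp i₁ = i₂ from AlgHom.ext fun x => by simp [i₁, i₂],
        show (Algebra.TensorProduct.comm k R R).toAlgHom.comp i₂ = i₁ from AlgHom.ext fun x => by simp [i₁, i₂]]
      exact congrArg (gVal (k := k)) (hsymm _ _))
    (by
      refine (val_map i₁ i₂ _).trans ?_
      rw [Algebra.TensorProduct.lift_comp_includeLeft, Algebra.TensorProduct.lift_comp_includeRight']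
      show gVal (k := k) (c (pt _) (pt _)) = 1
      rw [hε', hone]
      exact map_one _)
    (by
      show as (B φ * A₁ φ) = C φ * A₂ φ
      rw [map_mul, show as (B φ) = (as.comp B) φ from rfl, show as (A₁ φ) = (as.comp A₁) φ from rfl,
        val_map, val_map, val_map, val_map, eB₁, eB₂]
      show gVal (k := k) (c (pt q₁) (pt q₂)) * gVal (k := k) (c (pt ((as.comp A₁).comp i₁)) (pt ((as.comp A₁).comp i₂))) =
        gVal (k := k) (c (pt q₂) (pt q₃)) * gVal (k := k) (c (pt (A₂.comp i₁)) (pt (A₂.comp i₂)))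
      rw [eA₁, eA₁', eA₂, eA₂', ← map_mul, ← map_mul]
      exact congrArg (gVal (k := k)) (hcoc _ _ _))
  obtain ⟨σ₀, hσ₀⟩ := gVal_surjective (k := k) σ
  let σ' : Γ(N.left, ⊤) := (inv p).left.appTop σ₀
  have hσ'u : IsUnit σ' := by
    refine IsUnit.map (inv p).left.appTop.hom ?_
    rw [← hσ₀] at hσu
    have := hσu.map (Scheme.ΓSpecIso (CommRingCat.of R)).inv.hom
    simpa using this
  let F := fun {T : Over (Spec (CommRingCat.of k))} (n : T ⟶ N) => (n.left.appTop σ' : Γ(T.left, ⊤))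
  have hF : ∀ {T : Type u} [CommRing T] [Algebra k T] (g : R →ₐ[k] T), gVal (k := k) (F (pt g)) = g σ := fun g => by
    show gVal (k := k) (((spMap g).left ≫ p.left).appTop ((inv p).left.appTop σ₀)) = _
    rw [← hσ₀, ← gVal_map]
    refine congrArg (gVal (k := k)) ?_
    show (((spMap g).left ≫ p.left) ≫ (inv p).left).appTop σ₀ = _
    rw [Category.assoc, ← Over.comp_left, ← Over.comp_left, IsIso.hom_inv_id, Category.comp_id]
  have hFnat : ∀ {V T : Over (Spec (CommRingCat.of k))} (r : V ⟶ T) (n : T ⟶ N),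
      r.left.appTop (F n) = F (r ≫ n) := fun r n => rfl
  -- the identity on the universal pair
  have huniv : c (pt i₁) (pt i₂) * F (pt i₁ * pt i₂) = F (pt i₁) * F (pt i₂) := by
    refine gVal_injective (k := k) ?_
    show gVal (k := k) _ = gVal (k := k) _
    simp only [gVal, map_mul]
    show φ * gVal (k := k) (F (pt i₁ * pt i₂)) = gVal (k := k) (F (pt i₁)) * gVal (k := k) (F (pt i₂))
    rw [← hΔ, hF, hF, hF, hσ]
    simp [i₁, i₂]
  refine ⟨F, fun n => hσ'u.map n.left.appTop.hom, hFnat, fun {T} n m => ?_⟩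
  -- every pair of points comes from the universal one
  haveI : IsAffine N.left := isAffine_of_isAffineHom N.hom
  obtain ⟨Q, _, _, q, _⟩ : ∃ (Q : Type u) (_ : CommRing Q) (_ : Algebra k Q) (q : spO k Q ⟶ N ⊗ N), IsIso q := by
    haveI : IsAffineHom (N ⊗ N).hom := by
      show IsAffineHom (pullback.fst N.hom N.hom ≫ N.hom)
      infer_instance
    haveI : IsAffine (N ⊗ N).left := isAffine_of_isAffineHom (N ⊗ N).hom
    obtain ⟨ψ, hψ⟩ := Spec.map_surjective ((N ⊗ N).left.isoSpec.inv ≫ (N ⊗ N).hom)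
    letI : Algebra k Γ((N ⊗ N).left, ⊤) := ψ.hom.toAlgebra
    let q : spO k Γ((N ⊗ N).left, ⊤) ⟶ N ⊗ N := Over.homMk (N ⊗ N).left.isoSpec.inv hψ.symm
    haveI : IsIso ((Over.forget _).map q) := inferInstanceAs (IsIso (N ⊗ N).left.isoSpec.inv)
    exact ⟨_, inferInstance, inferInstance, q, isIso_of_reflects_iso q (Over.forget _)⟩
  obtain ⟨g₁, hg₁⟩ := pt_surj (q ≫ fst N N)
  obtain ⟨g₂, hg₂⟩ := pt_surj (q ≫ snd N N)
  let r : T ⟶ spO k (R ⊗[k] R) := lift n m ≫ inv q ≫ spMap (Algebra.TensorProduct.lift g₁ g₂ fun _ _ => .all _ _)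
  have hn : r ≫ pt i₁ = n := by
    simp only [r, Category.assoc]
    rw [← pt_comp, Algebra.TensorProduct.lift_comp_includeLeft, hg₁, IsIso.inv_hom_id_assoc, lift_fst]
  have hm : r ≫ pt i₂ = m := by
    simp only [r, Category.assoc]
    rw [← pt_comp, Algebra.TensorProduct.lift_comp_includeRight', hg₂, IsIso.inv_hom_id_assoc, lift_snd]
  have h := congrArg r.left.appTop huniv
  rw [map_mul, map_mul, hnat, hFnat, hFnat, hFnat, MonObj.comp_mul, hn, hm] at h
  exact h

end Groth.Agent.ThetaLib
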